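import Cfsg.Agent.LargeExtra.W2.U43.FusKill

/-!
# S1759, `C / Q = S₃ × S₃`, case II: the fusion of `U₄(3)` (helper123)

`fusion`: `Case9aa`, a conjugate of `z` in `Q \ ⟨z⟩`, no subgroup of index two: then `Tw` holds for the same letters and
`z ~ s`, `z ~ y s`.
-/

set_option autoImplicit false
set_option linter.unusedSimpArgs false
set_option linter.unusedVariables false

namespace Cfsg.Agent.LargeExtra.W2.U43.Fusion

open Cfsg.Agent.Co2Type.Quad Cfsg.Agent.LargeExtra.W2.CM Cfsg.Agent.LargeExtra.W2.U43.FusBase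
  Cfsg.Agent.LargeExtra.W2.U43.FusTri Cfsg.Agent.LargeExtra.W2.U43.FusChk Cfsg.Agent.LargeExtra.Base

variable {G : Type*} [Group G] {Q : Subgroup G} {al be ga : Bool} {z i j k l x₁ x₂ y s : G}

local notation "𝔼" => T.ev z i j k l x₁ x₂ y s

/-- The mirror image, `y² = 1`, `s² = z`. -/
theorem mirror_ft (h : Case9aa Q z i j k l x₁ x₂ y s) (R : Rules false true true z i j k l x₁ x₂ y s) :
    Case9aa Q z i j (l * z) (k * z) x₁ x₂⁻¹ y (y * s) := by
  have iz : z⁻¹ = z := inv_eq_of_mul_eq_one_left R.zz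
  have ii : i⁻¹ = i * z := by
    rw [inv_eq_iff_mul_eq_one]; coll R
  have ik : k⁻¹ = k * z := by
    rw [inv_eq_iff_mul_eq_one]; coll R
  have il : l⁻¹ = l * z := by
    rw [inv_eq_iff_mul_eq_one]; coll R
  have ix1 := inv_x₁ R
  have ix2 := inv_x₂ R
  have iy : y⁻¹ = y := by
    rw [inv_eq_iff_mul_eq_one]; coll R
  have is : s⁻¹ = s * z := by
    rw [inv_eq_iff_mul_eq_one]; coll R
  have kz : ∀ {c : G} {K : Subgroup G}, c * z ∈ K → z ∈ K → c ∈ K := by
    intro c K h1 h2
    have := mul_mem h1 h2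
    rwa [mul_assoc, R.zz, mul_one] at this
  have gen : Q = Subgroup.closure {i, j, l * z, k * z} := by
    apply le_antisymm
    · rw [h.gen, Subgroup.closure_le]
      have hz : z ∈ Subgroup.closure ({i, j, l * z, k * z} : Set G) := by
        rw [← h.ii]
        exact mul_mem (Subgroup.subset_closure (by simp)) (Subgroup.subset_closure (by simp))
      rintro c (rfl | rfl | rfl | rfl)
      · exact Subgroup.subset_closure (by simp)
      · exact Subgroup.subset_closure (by simp)
      · exact kz (Subgroup.subset_closure (by simp)) hz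
      · exact kz (Subgroup.subset_closure (by simp)) hz
    · rw [Subgroup.closure_le]
      have hs := h.toPlus
      have hi : i ∈ Q := by rw [h.gen]; exact Subgroup.subset_closure (by simp)
      have hj : j ∈ Q := by rw [h.gen]; exact Subgroup.subset_closure (by simp)
      have hk : k ∈ Q := by rw [h.gen]; exact Subgroup.subset_closure (by simp)
      have hl : l ∈ Q := by rw [h.gen]; exact Subgroup.subset_closure (by simp)
      have hz : z ∈ Q := h.large.z_mem
      rintro c (rfl | rfl | rfl | rfl)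
      · exact hi
      · exact hj
      · exact mul_mem hl hz
      · exact mul_mem hk hz
  have cent : Subgroup.centralizer {z} = Subgroup.closure {i, j, l * z, k * z, x₁, x₂⁻¹, y, y * s} := by
    rw [h.cent]
    apply le_antisymm
    · rw [Subgroup.closure_le]
      have hz : z ∈ Subgroup.closure ({i, j, l * z, k * z, x₁, x₂⁻¹, y, y * s} : Set G) := by
        rw [← h.ii]
        exact mul_mem (Subgroup.subset_closure (by simp)) (Subgroup.subset_closure (by simp))
      rintro c (rfl | rfl | rfl | rfl | rfl | rfl | rfl | rfl)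
      · exact Subgroup.subset_closure (by simp)
      · exact Subgroup.subset_closure (by simp)
      · exact kz (Subgroup.subset_closure (by simp)) hz
      · exact kz (Subgroup.subset_closure (by simp)) hz
      · exact Subgroup.subset_closure (by simp)
      · exact inv_mem_iff.1 (Subgroup.subset_closure (by simp))
      · exact Subgroup.subset_closure (by simp)
      · have : c = y⁻¹ * (y * c) := by group
        rw [this]
        exact mul_mem (inv_mem (Subgroup.subset_closure (by simp))) (Subgroup.subset_closure (by simp))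
    · rw [Subgroup.closure_le]
      have hz : z ∈ Subgroup.closure ({i, j, k, l, x₁, x₂, y, s} : Set G) := by
        rw [← h.ii]
        exact mul_mem (Subgroup.subset_closure (by simp)) (Subgroup.subset_closure (by simp))
      rintro c (rfl | rfl | rfl | rfl | rfl | rfl | rfl | rfl)
      · exact Subgroup.subset_closure (by simp)
      · exact Subgroup.subset_closure (by simp)
      · exact mul_mem (Subgroup.subset_closure (by simp)) hz
      · exact mul_mem (Subgroup.subset_closure (by simp)) hz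
      · exact Subgroup.subset_closure (by simp)
      · exact inv_mem (Subgroup.subset_closure (by simp))
      · exact Subgroup.subset_closure (by simp)
      · exact mul_mem (Subgroup.subset_closure (by simp)) (Subgroup.subset_closure (by simp))
  refine ⟨⟨h.large, h.card, gen, h.ii, h.jj, ?_, ?_, h.ji, ?_, ?_, ?_, ?_, ?_⟩, h.x₁3, ?_, ⟨?_, ?_, ?_, ?_, ?_⟩,
    ⟨?_, ?_, ?_, ?_, ?_⟩, ⟨?_, ?_, ?_, ?_, ?_⟩, ⟨?_, ?_, ?_, ?_, ?_⟩, ?_, ?_, ?_, ?_, ?_, h.yy, Or.inl ?_,
    Or.inr ?_, cent, h.card_cent⟩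
  all_goals try simp only [mul_inv_rev, inv_inv, pow_succ, pow_zero, one_mul, iz, ii, ik, il, ix1, ix2, iy, is]
  all_goals try coll R

/-- `Tw` from the rules -/
theorem tw_of_rules (h : Case9aa Q z i j k l x₁ x₂ y s) (R : Rules true false true z i j k l x₁ x₂ y s) :
    Tw Q z i j k l x₁ x₂ y s where
  toCase9aa := h
  yz := R.yy
  sz := R.ss
  sy := by
    have h1 : s * y = z * (y * s) := R.sy
    have h2 : y * z = z * y := R.zy
    rw [h1, h2]; group

/-- The mirror image. -/
theorem mirror (h : Case9aa Q z i j k l x₁ x₂ y s) (R : Rules al be true z i j k l x₁ x₂ y s)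
    (hx : xor al be = true) : Case9aa Q z i j (l * z) (k * z) x₁ x₂⁻¹ y (y * s) := by
  cases al <;> cases be
  · exact Bool.noConfusion hx
  · exact mirror_ft h R
  · exact (tw_of_rules h R).mirror.toCase9aa
  · exact Bool.noConfusion hx

/-- The rules of the mirror image. -/
theorem mirror_rules (h : Case9aa Q z i j k l x₁ x₂ y s) (R : Rules al be true z i j k l x₁ x₂ y s)
    (hx : xor al be = true) : Rules al false true z i j (l * z) (k * z) x₁ x₂⁻¹ y (y * s) := by
  obtain ⟨al', be', ga', R'⟩ := rules_of_case (mirror h R hx)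
  have hz := h.large.z_ne
  have hzz : z * z = 1 := R.zz
  have hpw : ∀ a b : Bool, pw a z = pw b z → a = b := by
    intro a b hab
    cases a <;> cases b
    · rfl
    · exact absurd hab.symm hz
    · exact absurd hab hz
    · rfl
  have e1 : al' = al := hpw _ _ (R'.yy.symm.trans R.yy)
  have hsy : s * y = z * (y * s) := R.sy
  have hyz : y * z = z * y := R.zy
  have e2 : be' = false := by
    apply hpw
    rw [← R'.ss]
    have h1 : y * s * (y * s) = z * ((y * y) * (s * s)) := by
      calc y * s * (y * s) = y * (s * y) * s := by group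
        _ = (y * z) * (y * s) * s := by rw [hsy]; group
        _ = z * ((y * y) * (s * s)) := by rw [hyz]; group
    rw [h1, R.yy, R.ss]
    cases al <;> cases be
    · exact Bool.noConfusion hx
    · simp [pw, hzz]
    · simp [pw, hzz]
    · exact Bool.noConfusion hx
  have e3 : ga' = true := by
    apply hpw
    have h1 : y * s * y = pw ga' z * (y * (y * s)) := R'.sy
    have h2 : y * s * y = z * (y * (y * s)) := by
      rw [mul_assoc, hsy, ← mul_assoc, hyz]; group
    exact mul_right_cancel (h1.symm.trans h2)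
  subst e1 e2 e3
  exact R'

theorem E_tq (w : Qt) : 𝔼 (tq w) = w.ev z i j k l := by
  simp [T.ev, tq, pw, pw3]

/-- elements of `Q` -/
theorem mem_Q (h : Case9aa Q z i j k l x₁ x₂ y s) (R : Rules al be ga z i j k l x₁ x₂ y s) {x : G} (hx : x ∈ Q) :
    ∃ w : Qt, x = 𝔼 (tq w) := by
  have hx' : x ∈ Subgroup.closure ({i, j, k, l} : Set G) := by rw [← h.gen]; exact hx
  refine Subgroup.closure_induction (p := fun c _ => ∃ w : Qt, c = 𝔼 (tq w)) ?_ ?_ ?_ ?_ hx'
  · rintro c (rfl | rfl | rfl | rfl)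
    · exact ⟨ti.w, by rw [E_tq]; simp [Qt.ev, pw, ti]⟩
    · exact ⟨tj.w, by rw [E_tq]; simp [Qt.ev, pw, tj]⟩
    · exact ⟨tk.w, by rw [E_tq]; simp [Qt.ev, pw, tk]⟩
    · exact ⟨tl.w, by rw [E_tq]; simp [Qt.ev, pw, tl]⟩
  · exact ⟨T.one.w, by rw [E_tq]; simp [Qt.ev, pw, T.one]⟩
  · rintro a b _ _ ⟨t, ha⟩ ⟨u, hb⟩
    exact ⟨t.mul u, by rw [ha, hb, E_tq, E_tq, E_tq, evQ_mul R]⟩
  · rintro a ha ⟨t, hta⟩
    rw [← h.gen] at ha
    rcases h.large.sq a ha with h1 | h1
    · exact ⟨t, by rw [inv_eq_of_mul_eq_one_left h1, hta]⟩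
    · refine ⟨t.mul tz.w, ?_⟩
      have h2 : a⁻¹ = a * z := by
        rw [inv_eq_iff_mul_eq_one, ← mul_assoc, h1, R.zz]
      have h3 : z = 𝔼 (tq tz.w) := by rw [E_tq]; simp [Qt.ev, pw, tz]
      rw [h2, hta, E_tq, E_tq, ← evQ_mul R, ← E_tq (x₁ := x₁) (x₂ := x₂) (y := y) (s := s) tz.w, ← h3]

variable [Finite G]

/-- `z ~ a` -/
theorem conj_a (h : Case9aa Q z i j k l x₁ x₂ y s) (R : Rules al be ga z i j k l x₁ x₂ y s)
    (hII : ∃ g, g * z * g⁻¹ ∈ Q ∧ g * z * g⁻¹ ≠ z) : IsConj z (𝔼 ta) := by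
  obtain ⟨g, hg1, hg2⟩ := hII
  obtain ⟨⟨e, a, b, c, d⟩, hw⟩ := mem_Q h R hg1
  have hsq : 𝔼 (tq ⟨e, a, b, c, d⟩) * 𝔼 (tq ⟨e, a, b, c, d⟩) = 1 := by
    have hzz : z * z = 1 := R.zz
    rw [← hw]
    calc g * z * g⁻¹ * (g * z * g⁻¹) = g * (z * z) * g⁻¹ := by group
      _ = 1 := by rw [hzz]; group
  have h1 := imp_spec (allB_spec (allB_spec (allB_spec (allB_spec (allB_spec (allB_spec (allB_spec (allB_spec k15
    al) be) ga) e) a) b) c) d) (sq1_of_sq h R hsq)
  rw [Bool.or_eq_true, Bool.or_eq_true] at h1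
  have h2 : IsConj z (𝔼 (tq ⟨e, a, b, c, d⟩)) := by
    rw [isConj_iff]; exact ⟨g, hw⟩
  rcases h1 with h1 | h1 | h1
  · exfalso
    rw [T.eq_of_beq h1, ev_one] at hw
    apply h.large.z_ne
    calc z = g⁻¹ * (g * z * g⁻¹) * g := by group
      _ = 1 := by rw [hw]; group
  · rw [T.eq_of_beq h1, ev_z] at hw
    exact absurd hw hg2
  · obtain ⟨w, hw'⟩ := any18_spec h1
    exact h2.trans (conj_of_cjw R hw')

omit [Finite G] in
/-- `i k ~ a`, `j k ~ a` -/
theorem conj_ik (R : Rules al be ga z i j k l x₁ x₂ y s) : IsConj (i * k) (𝔼 ta) ∧ IsConj (j * k) (𝔼 ta) := by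
  have h1 := allB_spec (allB_spec (allB_spec k14 al) be) ga
  rw [Bool.and_eq_true] at h1
  obtain ⟨w, hw⟩ := any18_spec h1.1
  obtain ⟨w', hw'⟩ := any18_spec h1.2
  have h2 := conj_of_cjw R hw
  have h3 := conj_of_cjw R hw'
  rw [E_rp_e1] at h2
  rw [E_rp_e2] at h3
  exact ⟨h2, h3⟩

/-- (1), (2): the fusion of `U₄(3)`. -/
theorem fusion (h : Case9aa Q z i j k l x₁ x₂ y s) (hII : ∃ g, g * z * g⁻¹ ∈ Q ∧ g * z * g⁻¹ ≠ z)
    (hG : ∀ H : Subgroup G, H.index ≠ 2) :
    Tw Q z i j k l x₁ x₂ y s ∧ IsConj z s ∧ IsConj z (y * s) := by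
  obtain ⟨al, be, ga, R⟩ := rules_of_case h
  have hza := conj_a h R hII
  have hzz : z * z = 1 := R.zz
  have haz : 𝔼 ta * z = z * 𝔼 ta := ev_comm R ta
  obtain ⟨g, hg⟩ := isConj_iff.1 hza
  have hi : i ∈ Q := by rw [h.gen]; exact Subgroup.subset_closure (by simp)
  have hj : j ∈ Q := by rw [h.gen]; exact Subgroup.subset_closure (by simp)
  have hk : k ∈ Q := by rw [h.gen]; exact Subgroup.subset_closure (by simp)
  have hl : l ∈ Q := by rw [h.gen]; exact Subgroup.subset_closure (by simp)
  have haQ : 𝔼 ta ∈ Q := by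
    rw [E_ta]; exact mul_mem hi (mul_mem hj (mul_mem hk hl))
  have hane : 𝔼 ta ≠ z := by
    intro he
    have h1 : 𝔼 ta = 𝔼 tz := by rw [ev_z]; exact he
    have h3 := congrArg (fun t : T => t.w.a) (eqT h R h1)
    exact Bool.noConfusion h3
  have p := pair_of_conj h.large (g := g) (by rw [hg]; exact haQ) (by rw [hg]; exact hane)
  rw [hg] at p
  obtain ⟨θ, t1, t2, t3⟩ := p.cycle
  have hA : ∀ q ∈ Q, θ * q * θ⁻¹ ∈ Q.map (MulAut.conj g).toMonoidHom := by
    rw [map_eq_of_conj h.large (hg.trans t1.symm)]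
    intro q hq
    exact ⟨q, hq, rfl⟩
  have hlA := p.la
  have hzA := p.z_mem
  clear p
  generalize Q.map (MulAut.conj g).toMonoidHom = A at *
  obtain ⟨p1, p2, r1, r2, hc⟩ := trichotomy h R t1 t2
  -- the images are conjugate to `z`
  obtain ⟨ci, cj⟩ := conj_ik R
  have m1 : θ * (i * k) * θ⁻¹ ∈ A := hA _ (mul_mem hi hk)
  have m2 : θ * (j * k) * θ⁻¹ ∈ A := hA _ (mul_mem hj hk)
  have n1 : IsConj z (θ * (i * k) * θ⁻¹) :=
    (hza.trans ci.symm).trans (isConj_iff.2 ⟨θ, rfl⟩)
  have n2 : IsConj z (θ * (j * k) * θ⁻¹) :=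
    (hza.trans cj.symm).trans (isConj_iff.2 ⟨θ, rfl⟩)
  generalize θ * (i * k) * θ⁻¹ = u1 at *
  generalize θ * (j * k) * θ⁻¹ = u2 at *
  -- a representative in `A`
  have hin : ∀ {u : G} {p : P}, Rep z i j k l x₁ x₂ y s u p → u ∈ A → 𝔼 (rp p) ∈ A := by
    rintro u p ⟨c, d, rfl⟩ hu
    have h1 : 𝔼 (va c d) ∈ A := by
      rw [E_va]
      refine mul_mem ?_ ?_
      · cases c
        · exact one_mem _
        · exact hzA
      · cases d
        · exact one_mem _
        · exact hlA.z_mem
    have h2 : 𝔼 (rp p) = (𝔼 (va c d))⁻¹ * (𝔼 (va c d) * 𝔼 (rp p)) := by group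
    rw [h2]
    exact mul_mem (inv_mem h1) hu
  rw [concl, Bool.or_eq_true, Bool.or_eq_true] at hc
  rcases hc with hc | hc | hc
  · -- `U₄(3)`
    simp only [Bool.and_eq_true, Bool.or_eq_true, Bool.not_eq_true'] at hc
    obtain ⟨rfl, rfl, rfl, hc⟩ := hc
    have ks : ∀ {u : G}, Rep z i j k l x₁ x₂ y s u (false, false, false, true) → IsConj z u → IsConj z s := by
      rintro u ⟨c, d, rfl⟩ hu
      obtain ⟨w, -, -, -, hw⟩ := any32_spec (allB_spec (allB_spec k13a c) d)
      have h1 := conj_of_cjw R hw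
      rw [ev_s, ← mulE R] at h1
      exact hu.trans h1.symm
    have kys : ∀ {u : G}, Rep z i j k l x₁ x₂ y s u (false, true, true, true) → IsConj z u → IsConj z (y * s) := by
      rintro u ⟨c, d, rfl⟩ hu
      obtain ⟨w, -, -, -, hw⟩ := any32_spec (allB_spec (allB_spec k13b c) d)
      have h1 := conj_of_cjw R hw
      rw [← mulE R, ← mulE R, ev_s, ev_y] at h1
      exact hu.trans h1.symm
    refine ⟨tw_of_rules h R, ?_⟩
    rcases hc with ⟨h1, h2⟩ | ⟨h1, h2⟩
    · have h1 := peq_spec h1
      have h2 := peq_spec h2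
      subst h1 h2
      exact ⟨ks r1 n1, kys r2 n2⟩
    · have h1 := peq_spec h1
      have h2 := peq_spec h2
      subst h1 h2
      exact ⟨ks r2 n2, kys r1 n1⟩
  · -- `i k ∈ A`
    exfalso
    simp only [Bool.and_eq_true, Bool.or_eq_true, Bool.not_eq_true'] at hc
    obtain ⟨rfl, rfl, hc1, hc2⟩ := hc
    have hik : i * k ∈ A := by
      rcases hc1 with h1 | h1
      · have h1 := peq_spec h1
        subst h1
        have := hin r1 m1
        rwa [E_rp_e1] at this
      · have h1 := peq_spec h1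
        subst h1
        have := hin r2 m2
        rwa [E_rp_e1] at this
    have hy : al = true ∨ IsConj z y := by
      rcases hc2 with h1 | h1
      · exact Or.inl h1
      · cases al
        · right
          have ks : ∀ {u : G}, Rep z i j k l x₁ x₂ y s u e3 → IsConj z u → IsConj z y := by
            rintro u ⟨c, d, rfl⟩ hu
            obtain ⟨w, hw⟩ := any72_spec (allB_spec (allB_spec k12a c) d)
            have h1 := conj_of_cjw R hw
            rw [ev_y, ← mulE R] at h1
            exact hu.trans h1.symm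
          rcases h1 with h1 | h1
          · have h1 := peq_spec h1
            subst h1
            exact ks r1 n1
          · have h1 := peq_spec h1
            subst h1
            exact ks r2 n2
        · exact Or.inl rfl
    exact FusKill.kill hG h R hza hlA (Or.inl rfl) hzA hik hy
  · -- `j k ∈ A`
    exfalso
    simp only [Bool.and_eq_true, Bool.or_eq_true] at hc
    obtain ⟨hx, rfl, hc1, hc2⟩ := hc
    have hjk : j * k ∈ A := by
      rcases hc1 with h1 | h1
      · have h1 := peq_spec h1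
        subst h1
        have := hin r1 m1
        rwa [E_rp_e2] at this
      · have h1 := peq_spec h1
        subst h1
        have := hin r2 m2
        rwa [E_rp_e2] at this
    have hy : al = true ∨ IsConj z y := by
      rcases hc2 with h1 | h1
      · exact Or.inl h1
      · cases al
        · right
          obtain rfl : be = true := by simpa using hx
          have ks : ∀ {u : G}, Rep z i j k l x₁ x₂ y s u (true, true, true, false) → IsConj z u → IsConj z y := by
            rintro u ⟨c, d, rfl⟩ hu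
            obtain ⟨w, hw⟩ := any72_spec (allB_spec (allB_spec k12b c) d)
            have h1 := conj_of_cjw R hw
            rw [ev_y, ← mulE R] at h1
            exact hu.trans h1.symm
          rcases h1 with h1 | h1
          · have h1 := peq_spec h1
            subst h1
            exact ks r1 n1
          · have h1 := peq_spec h1
            subst h1
            exact ks r2 n2
        · exact Or.inl rfl
    have ha' : T.ev z i j (l * z) (k * z) x₁ x₂⁻¹ y (y * s) ta = 𝔼 ta * z := by
      rw [E_ta, E_ta]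
      coll R
    have hik' : i * (l * z) ∈ A := by
      have h1 : i * (l * z) = 𝔼 ta * (j * k) := by
        rw [E_ta]
        coll R
      rw [h1]
      exact mul_mem hlA.z_mem hjk
    refine FusKill.kill hG (mirror h R hx) (mirror_rules h R hx) ?_ hlA (Or.inr ?_) hzA hik' hy
    · rw [ha']
      exact (isConj_iff.2 ⟨θ, t3⟩ : IsConj (𝔼 ta * z) z).symm
    · rw [ha', mul_assoc, hzz, mul_one]

/-- (1), (2): the existential form. -/
theorem fusion' (h : Case9aa Q z i j k l x₁ x₂ y s) (hII : ∃ g, g * z * g⁻¹ ∈ Q ∧ g * z * g⁻¹ ≠ z)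
    (hG : ∀ H : Subgroup G, H.index ≠ 2) :
    ∃ i' j' k' l' x₁' x₂' y' s' : G, Tw Q z i' j' k' l' x₁' x₂' y' s' ∧ IsConj z s' ∧ IsConj z (y' * s') :=
  ⟨i, j, k, l, x₁, x₂, y, s, fusion h hII hG⟩

end Cfsg.Agent.LargeExtra.W2.U43.Fusion
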