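import Cfsg.Agent.LargeExtra.W2.U43.Recog
import Cfsg.Agent.LargeExtra.W2.U43.Fusion

/-!
# `Case9aa`, case II: `G ≅ U₄(3)` (helper893; parts by helper865, helper123, helper926)
-/

set_option autoImplicit false

namespace Cfsg.Agent.LargeExtra.W2.U43.Main

open Cfsg.Agent.Co2Type.Quad Cfsg.Agent.LargeExtra.W2.U43

/-- A finite simple group of order `≠ 2` has no subgroup of index two. -/
theorem index_ne_two {G : Type*} [Group G] [IsSimpleGroup G] (hc : Nat.card G ≠ 2) (H : Subgroup G) :
    H.index ≠ 2 := by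
  intro h
  have hn := Subgroup.normal_of_index_eq_two h
  rcases hn.eq_bot_or_eq_top with h1 | h1
  · rw [h1, Subgroup.index_bot] at h
    exact hc h
  · rw [h1, Subgroup.index_top] at h
    exact absurd h (by norm_num)

/-- **`Case9aa`, case II.** -/
theorem recog_aa_II {G : Type*} [Group G] [Finite G] [IsSimpleGroup G] {Q : Subgroup G}
    {z i j k l x₁ x₂ y s : G} (h : Case9aa Q z i j k l x₁ x₂ y s)
    (hII : ∃ g, g * z * g⁻¹ ∈ Q ∧ g * z * g⁻¹ ≠ z) (F : Type*) [Field F] [Fintype F]
    (hF : Fintype.card F = 9) : Nonempty (G ≃* Cfsg.PSU 4 F 3) := by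
  have hc : Nat.card G ≠ 2 := by
    intro h2
    have h3 := Subgroup.card_subgroup_dvd_card (Subgroup.centralizer ({z} : Set G))
    rw [h.card_cent, h2] at h3
    exact absurd (Nat.le_of_dvd (by norm_num) h3) (by norm_num)
  obtain ⟨hT, hs, hys⟩ := Fusion.fusion h hII (index_ne_two hc)
  exact Recog.recog_tw hT hs hys F hF

end Cfsg.Agent.LargeExtra.W2.U43.Main
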