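import Cfsg.Agent.LargeExtra.W2.Iface

/-!
# A computable model of `C_G(z)`, `C / Q = S₃ × S₃` (helper893)

`T` is the set of exponents of the normal form `z^ε i^a j^b k^c l^d x₁^m x₂^n y^e s^f`; for the twist
`y² = z^al`, `s² = z^be`, `s y s⁻¹ = y z^ga` the multiplication `mul al be ga` is computable and `ev` is an
isomorphism of `(T, mul)` onto `C_G(z)`.
-/

set_option autoImplicit false
set_option linter.unusedSimpArgs false
set_option linter.unusedVariables false
set_option linter.unusedSimpArgs false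

namespace Cfsg.Agent.LargeExtra.W2.CM

open Cfsg.Agent.Co2Type.Quad

inductive C3 where
  | o | p | q

namespace C3

def add : C3 → C3 → C3
  | o, b => b
  | p, o => p
  | p, p => q
  | p, q => o
  | q, o => q
  | q, p => o
  | q, q => p

def neg : C3 → C3
  | o => o
  | p => q
  | q => p

def eqb : C3 → C3 → Bool
  | o, o => true
  | p, p => true
  | q, q => true
  | _, _ => false

theorem eq_of_eqb : ∀ a b : C3, eqb a b = true → a = b
  | o, o, _ => rfl
  | p, p, _ => rfl
  | q, q, _ => rfl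

end C3

/-- `z^s i^a j^b k^c l^d` -/
structure Qt where
  s : Bool
  a : Bool
  b : Bool
  c : Bool
  d : Bool

/-- normal forms -/
structure T where
  w : Qt
  m : C3
  n : C3
  e : Bool
  f : Bool

def Qt.mul (p q : Qt) : Qt :=
  ⟨xor (xor p.s q.s) (xor (xor (xor (p.a && q.a) (p.b && q.b)) (p.b && q.a))
      (xor (xor (p.c && q.c) (p.d && q.d)) (p.d && q.c))),
    xor p.a q.a, xor p.b q.b, xor p.c q.c, xor p.d q.d⟩

def Qt.x1 (p : Qt) : Qt := ⟨p.s, p.b, xor p.a p.b, p.c, p.d⟩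

def Qt.x2 (p : Qt) : Qt := ⟨p.s, p.a, p.b, p.d, xor p.c p.d⟩

def Qt.y (p : Qt) : Qt := ⟨xor p.s (xor (p.a || p.b) (p.c || p.d)), p.b, p.a, p.d, p.c⟩

def Qt.sw (p : Qt) : Qt := ⟨p.s, p.c, p.d, p.a, p.b⟩

def Qt.sg (p : Qt) (s : Bool) : Qt := ⟨xor p.s s, p.a, p.b, p.c, p.d⟩

def Qt.X1 (m : C3) (p : Qt) : Qt :=
  match m with
  | C3.o => p
  | C3.p => p.x1
  | C3.q => p.x1.x1

def Qt.X2 (m : C3) (p : Qt) : Qt :=
  match m with
  | C3.o => p
  | C3.p => p.x2
  | C3.q => p.x2.x2

def Qt.Y (e : Bool) (p : Qt) : Qt := bif e then p.y else p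

def Qt.S (f : Bool) (p : Qt) : Qt := bif f then p.sw else p

def ng (e : Bool) (m : C3) : C3 := bif e then m.neg else m

def T.mul (al be ga : Bool) (t u : T) : T :=
  ⟨(t.w.mul (Qt.X1 t.m (Qt.X2 t.n (Qt.Y t.e (Qt.S t.f u.w))))).sg
      (xor (ga && (t.f && u.e)) (xor (al && (t.e && u.e)) (be && (t.f && u.f)))),
    t.m.add (ng t.e (bif t.f then u.n else u.m)), t.n.add (ng t.e (bif t.f then u.m else u.n)),
    xor t.e u.e, xor t.f u.f⟩

section ev

variable {G : Type*} [Group G]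

def pw (a : Bool) (g : G) : G := bif a then g else 1

def pw3 (m : C3) (g : G) : G :=
  match m with
  | C3.o => 1
  | C3.p => g
  | C3.q => g * g

/-- the rewriting rules -/
structure Rules (al be ga : Bool) (z i j k l x₁ x₂ y s : G) : Prop where
  zz : z * z = 1
  zi : i * z = z * i
  zj : j * z = z * j
  zk : k * z = z * k
  zl : l * z = z * l
  zx : x₁ * z = z * x₁
  zw : x₂ * z = z * x₂
  zy : y * z = z * y
  zs : s * z = z * s
  ii : i * i = z
  jj : j * j = z
  kk : k * k = z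
  ll : l * l = z
  ji : j * i = z * (i * j)
  lk : l * k = z * (k * l)
  ki : k * i = i * k
  li : l * i = i * l
  kj : k * j = j * k
  lj : l * j = j * l
  xi : x₁ * i = j * x₁
  xj : x₁ * j = i * (j * x₁)
  xk : x₁ * k = k * x₁
  xl : x₁ * l = l * x₁
  wi : x₂ * i = i * x₂
  wj : x₂ * j = j * x₂
  wk : x₂ * k = l * x₂
  wl : x₂ * l = k * (l * x₂)
  yi : y * i = z * (j * y)
  yj : y * j = z * (i * y)
  yk : y * k = z * (l * y)
  yl : y * l = z * (k * y)
  si : s * i = k * s
  sj : s * j = l * s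
  sk : s * k = i * s
  sl : s * l = j * s
  wx : x₂ * x₁ = x₁ * x₂
  xxx : x₁ * (x₁ * x₁) = 1
  www : x₂ * (x₂ * x₂) = 1
  yx : y * x₁ = x₁ * (x₁ * y)
  yw : y * x₂ = x₂ * (x₂ * y)
  sx : s * x₁ = x₂ * s
  sw : s * x₂ = x₁ * s
  sy : s * y = pw ga z * (y * s)
  yy : y * y = pw al z
  ss : s * s = pw be z


variable {al be ga : Bool} {z i j k l x₁ x₂ y s : G}

theorem Rules.zz' (R : Rules al be ga z i j k l x₁ x₂ y s) (t : G) : z * (z * t) = t := by
  rw [← mul_assoc, R.zz]; try simp only [mul_assoc, one_mul]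
theorem Rules.zi' (R : Rules al be ga z i j k l x₁ x₂ y s) (t : G) : i * (z * t) = z * (i * t) := by
  rw [← mul_assoc, R.zi]; try simp only [mul_assoc, one_mul]
theorem Rules.zj' (R : Rules al be ga z i j k l x₁ x₂ y s) (t : G) : j * (z * t) = z * (j * t) := by
  rw [← mul_assoc, R.zj]; try simp only [mul_assoc, one_mul]
theorem Rules.zk' (R : Rules al be ga z i j k l x₁ x₂ y s) (t : G) : k * (z * t) = z * (k * t) := by
  rw [← mul_assoc, R.zk]; try simp only [mul_assoc, one_mul]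
theorem Rules.zl' (R : Rules al be ga z i j k l x₁ x₂ y s) (t : G) : l * (z * t) = z * (l * t) := by
  rw [← mul_assoc, R.zl]; try simp only [mul_assoc, one_mul]
theorem Rules.zx' (R : Rules al be ga z i j k l x₁ x₂ y s) (t : G) : x₁ * (z * t) = z * (x₁ * t) := by
  rw [← mul_assoc, R.zx]; try simp only [mul_assoc, one_mul]
theorem Rules.zw' (R : Rules al be ga z i j k l x₁ x₂ y s) (t : G) : x₂ * (z * t) = z * (x₂ * t) := by
  rw [← mul_assoc, R.zw]; try simp only [mul_assoc, one_mul]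
theorem Rules.zy' (R : Rules al be ga z i j k l x₁ x₂ y s) (t : G) : y * (z * t) = z * (y * t) := by
  rw [← mul_assoc, R.zy]; try simp only [mul_assoc, one_mul]
theorem Rules.zs' (R : Rules al be ga z i j k l x₁ x₂ y s) (t : G) : s * (z * t) = z * (s * t) := by
  rw [← mul_assoc, R.zs]; try simp only [mul_assoc, one_mul]
theorem Rules.ii' (R : Rules al be ga z i j k l x₁ x₂ y s) (t : G) : i * (i * t) = z * t := by
  rw [← mul_assoc, R.ii]; try simp only [mul_assoc, one_mul]
theorem Rules.jj' (R : Rules al be ga z i j k l x₁ x₂ y s) (t : G) : j * (j * t) = z * t := by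
  rw [← mul_assoc, R.jj]; try simp only [mul_assoc, one_mul]
theorem Rules.kk' (R : Rules al be ga z i j k l x₁ x₂ y s) (t : G) : k * (k * t) = z * t := by
  rw [← mul_assoc, R.kk]; try simp only [mul_assoc, one_mul]
theorem Rules.ll' (R : Rules al be ga z i j k l x₁ x₂ y s) (t : G) : l * (l * t) = z * t := by
  rw [← mul_assoc, R.ll]; try simp only [mul_assoc, one_mul]
theorem Rules.ji' (R : Rules al be ga z i j k l x₁ x₂ y s) (t : G) : j * (i * t) = z * (i * (j * t)) := by
  rw [← mul_assoc, R.ji]; try simp only [mul_assoc, one_mul]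
theorem Rules.lk' (R : Rules al be ga z i j k l x₁ x₂ y s) (t : G) : l * (k * t) = z * (k * (l * t)) := by
  rw [← mul_assoc, R.lk]; try simp only [mul_assoc, one_mul]
theorem Rules.ki' (R : Rules al be ga z i j k l x₁ x₂ y s) (t : G) : k * (i * t) = i * (k * t) := by
  rw [← mul_assoc, R.ki]; try simp only [mul_assoc, one_mul]
theorem Rules.li' (R : Rules al be ga z i j k l x₁ x₂ y s) (t : G) : l * (i * t) = i * (l * t) := by
  rw [← mul_assoc, R.li]; try simp only [mul_assoc, one_mul]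
theorem Rules.kj' (R : Rules al be ga z i j k l x₁ x₂ y s) (t : G) : k * (j * t) = j * (k * t) := by
  rw [← mul_assoc, R.kj]; try simp only [mul_assoc, one_mul]
theorem Rules.lj' (R : Rules al be ga z i j k l x₁ x₂ y s) (t : G) : l * (j * t) = j * (l * t) := by
  rw [← mul_assoc, R.lj]; try simp only [mul_assoc, one_mul]
theorem Rules.xi' (R : Rules al be ga z i j k l x₁ x₂ y s) (t : G) : x₁ * (i * t) = j * (x₁ * t) := by
  rw [← mul_assoc, R.xi]; try simp only [mul_assoc, one_mul]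
theorem Rules.xj' (R : Rules al be ga z i j k l x₁ x₂ y s) (t : G) : x₁ * (j * t) = i * (j * (x₁ * t)) := by
  rw [← mul_assoc, R.xj]; try simp only [mul_assoc, one_mul]
theorem Rules.xk' (R : Rules al be ga z i j k l x₁ x₂ y s) (t : G) : x₁ * (k * t) = k * (x₁ * t) := by
  rw [← mul_assoc, R.xk]; try simp only [mul_assoc, one_mul]
theorem Rules.xl' (R : Rules al be ga z i j k l x₁ x₂ y s) (t : G) : x₁ * (l * t) = l * (x₁ * t) := by
  rw [← mul_assoc, R.xl]; try simp only [mul_assoc, one_mul]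
theorem Rules.wi' (R : Rules al be ga z i j k l x₁ x₂ y s) (t : G) : x₂ * (i * t) = i * (x₂ * t) := by
  rw [← mul_assoc, R.wi]; try simp only [mul_assoc, one_mul]
theorem Rules.wj' (R : Rules al be ga z i j k l x₁ x₂ y s) (t : G) : x₂ * (j * t) = j * (x₂ * t) := by
  rw [← mul_assoc, R.wj]; try simp only [mul_assoc, one_mul]
theorem Rules.wk' (R : Rules al be ga z i j k l x₁ x₂ y s) (t : G) : x₂ * (k * t) = l * (x₂ * t) := by
  rw [← mul_assoc, R.wk]; try simp only [mul_assoc, one_mul]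
theorem Rules.wl' (R : Rules al be ga z i j k l x₁ x₂ y s) (t : G) : x₂ * (l * t) = k * (l * (x₂ * t)) := by
  rw [← mul_assoc, R.wl]; try simp only [mul_assoc, one_mul]
theorem Rules.yi' (R : Rules al be ga z i j k l x₁ x₂ y s) (t : G) : y * (i * t) = z * (j * (y * t)) := by
  rw [← mul_assoc, R.yi]; try simp only [mul_assoc, one_mul]
theorem Rules.yj' (R : Rules al be ga z i j k l x₁ x₂ y s) (t : G) : y * (j * t) = z * (i * (y * t)) := by
  rw [← mul_assoc, R.yj]; try simp only [mul_assoc, one_mul]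
theorem Rules.yk' (R : Rules al be ga z i j k l x₁ x₂ y s) (t : G) : y * (k * t) = z * (l * (y * t)) := by
  rw [← mul_assoc, R.yk]; try simp only [mul_assoc, one_mul]
theorem Rules.yl' (R : Rules al be ga z i j k l x₁ x₂ y s) (t : G) : y * (l * t) = z * (k * (y * t)) := by
  rw [← mul_assoc, R.yl]; try simp only [mul_assoc, one_mul]
theorem Rules.si' (R : Rules al be ga z i j k l x₁ x₂ y s) (t : G) : s * (i * t) = k * (s * t) := by
  rw [← mul_assoc, R.si]; try simp only [mul_assoc, one_mul]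
theorem Rules.sj' (R : Rules al be ga z i j k l x₁ x₂ y s) (t : G) : s * (j * t) = l * (s * t) := by
  rw [← mul_assoc, R.sj]; try simp only [mul_assoc, one_mul]
theorem Rules.sk' (R : Rules al be ga z i j k l x₁ x₂ y s) (t : G) : s * (k * t) = i * (s * t) := by
  rw [← mul_assoc, R.sk]; try simp only [mul_assoc, one_mul]
theorem Rules.sl' (R : Rules al be ga z i j k l x₁ x₂ y s) (t : G) : s * (l * t) = j * (s * t) := by
  rw [← mul_assoc, R.sl]; try simp only [mul_assoc, one_mul]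
theorem Rules.wx' (R : Rules al be ga z i j k l x₁ x₂ y s) (t : G) : x₂ * (x₁ * t) = x₁ * (x₂ * t) := by
  rw [← mul_assoc, R.wx]; try simp only [mul_assoc, one_mul]
theorem Rules.xxx' (R : Rules al be ga z i j k l x₁ x₂ y s) (t : G) : x₁ * (x₁ * (x₁ * t)) = t := by
  calc x₁ * (x₁ * (x₁ * t)) = (x₁ * (x₁ * x₁)) * t := by group
    _ = _ := by rw [R.xxx]; try simp only [mul_assoc, one_mul]
theorem Rules.www' (R : Rules al be ga z i j k l x₁ x₂ y s) (t : G) : x₂ * (x₂ * (x₂ * t)) = t := by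
  calc x₂ * (x₂ * (x₂ * t)) = (x₂ * (x₂ * x₂)) * t := by group
    _ = _ := by rw [R.www]; try simp only [mul_assoc, one_mul]
theorem Rules.yx' (R : Rules al be ga z i j k l x₁ x₂ y s) (t : G) : y * (x₁ * t) = x₁ * (x₁ * (y * t)) := by
  rw [← mul_assoc, R.yx]; try simp only [mul_assoc, one_mul]
theorem Rules.yw' (R : Rules al be ga z i j k l x₁ x₂ y s) (t : G) : y * (x₂ * t) = x₂ * (x₂ * (y * t)) := by
  rw [← mul_assoc, R.yw]; try simp only [mul_assoc, one_mul]
theorem Rules.sx' (R : Rules al be ga z i j k l x₁ x₂ y s) (t : G) : s * (x₁ * t) = x₂ * (s * t) := by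
  rw [← mul_assoc, R.sx]; try simp only [mul_assoc, one_mul]
theorem Rules.sw' (R : Rules al be ga z i j k l x₁ x₂ y s) (t : G) : s * (x₂ * t) = x₁ * (s * t) := by
  rw [← mul_assoc, R.sw]; try simp only [mul_assoc, one_mul]
theorem Rules.sy' (R : Rules al be ga z i j k l x₁ x₂ y s) (t : G) : s * (y * t) = (pw ga z) * (y * (s * t)) := by
  rw [← mul_assoc, R.sy]; try simp only [mul_assoc, one_mul]
theorem Rules.yy' (R : Rules al be ga z i j k l x₁ x₂ y s) (t : G) : y * (y * t) = (pw al z) * t := by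
  rw [← mul_assoc, R.yy]; try simp only [mul_assoc, one_mul]
theorem Rules.ss' (R : Rules al be ga z i j k l x₁ x₂ y s) (t : G) : s * (s * t) = (pw be z) * t := by
  rw [← mul_assoc, R.ss]; try simp only [mul_assoc, one_mul]


end ev

/-- collect to normal form -/
macro "coll" r:ident : tactic => `(tactic| simp only [mul_assoc, one_mul, mul_one, pw, pw3, cond_true, cond_false, ($r).zz, ($r).zi, ($r).zj, ($r).zk, ($r).zl, ($r).zx, ($r).zw, ($r).zy, ($r).zs, ($r).ii, ($r).jj, ($r).kk, ($r).ll, ($r).ji, ($r).lk, ($r).ki, ($r).li, ($r).kj, ($r).lj, ($r).xi, ($r).xj, ($r).xk, ($r).xl, ($r).wi, ($r).wj, ($r).wk, ($r).wl, ($r).yi, ($r).yj, ($r).yk, ($r).yl, ($r).si, ($r).sj, ($r).sk, ($r).sl, ($r).wx, ($r).xxx, ($r).www, ($r).yx, ($r).yw, ($r).sx, ($r).sw, ($r).sy, ($r).yy, ($r).ss, ($r).zz', ($r).zi', ($r).zj', ($r).zk', ($r).zl', ($r).zx', ($r).zw', ($r).zy', ($r).zs', ($r).ii', ($r).jj', ($r).kk', ($r).ll', ($r).ji', ($r).lk', ($r).ki', ($r).li', ($r).kj', ($r).lj',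 ($r).xi', ($r).xj', ($r).xk', ($r).xl', ($r).wi', ($r).wj', ($r).wk', ($r).wl', ($r).yi', ($r).yj', ($r).yk', ($r).yl', ($r).si', ($r).sj', ($r).sk', ($r).sl', ($r).wx', ($r).xxx', ($r).www', ($r).yx', ($r).yw', ($r).sx', ($r).sw', ($r).sy', ($r).yy', ($r).ss'])

section ev2

variable {G : Type*} [Group G] {al be ga : Bool} {z i j k l x₁ x₂ y s : G}

/-- evaluation of `Q`-parts -/
def Qt.ev (z i j k l : G) (p : Qt) : G :=
  pw p.s z * (pw p.a i * (pw p.b j * (pw p.c k * pw p.d l)))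

/-- evaluation of normal forms -/
def T.ev (z i j k l x₁ x₂ y s : G) (t : T) : G :=
  t.w.ev z i j k l * (pw3 t.m x₁ * (pw3 t.n x₂ * (pw t.e y * pw t.f s)))

theorem pw_xor (R : Rules al be ga z i j k l x₁ x₂ y s) (a b : Bool) : pw (xor a b) z = pw a z * pw b z := by
  cases a <;> cases b <;> simp [pw, R.zz]

theorem pwz_comm {g : G} (hg : g * z = z * g) (a : Bool) : g * pw a z = pw a z * g := by
  cases a <;> simp [pw, hg]



/-- reduce booleans -/
macro "bred" : tactic => `(tactic| simp only [Bool.xor_true, Bool.xor_false, Bool.false_xor, Bool.true_xor, Bool.and_true, Bool.and_false, Bool.true_and, Bool.false_and, Bool.or_true, Bool.or_false, Bool.true_or, Bool.false_or, Bool.not_true, Bool.not_false])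

theorem uv (R : Rules al be ga z i j k l x₁ x₂ y s) (c d a b : Bool) :
    pw c k * pw d l * (pw a i * pw b j) = pw a i * pw b j * (pw c k * pw d l) := by
  cases a <;> cases b <;> cases c <;> cases d <;> coll R

theorem uu (R : Rules al be ga z i j k l x₁ x₂ y s) (a b a' b' : Bool) :
    pw a i * pw b j * (pw a' i * pw b' j) =
      pw (xor (xor (a && a') (b && b')) (b && a')) z * (pw (xor a a') i * pw (xor b b') j) := by
  cases a <;> cases b <;> cases a' <;> cases b'
  all_goals bred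
  all_goals coll R

theorem vv (R : Rules al be ga z i j k l x₁ x₂ y s) (a b a' b' : Bool) :
    pw a k * pw b l * (pw a' k * pw b' l) =
      pw (xor (xor (a && a') (b && b')) (b && a')) z * (pw (xor a a') k * pw (xor b b') l) := by
  cases a <;> cases b <;> cases a' <;> cases b'
  all_goals bred
  all_goals coll R


theorem zA (R : Rules al be ga z i j k l x₁ x₂ y s) (a b e : Bool) :
    pw a i * pw b j * pw e z = pw e z * (pw a i * pw b j) := by
  cases a <;> cases b <;> cases e <;> coll R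

theorem zB (R : Rules al be ga z i j k l x₁ x₂ y s) (a b e : Bool) :
    pw a k * pw b l * pw e z = pw e z * (pw a k * pw b l) := by
  cases a <;> cases b <;> cases e <;> coll R

theorem zX (R : Rules al be ga z i j k l x₁ x₂ y s) (m n : C3) (e : Bool) :
    pw3 m x₁ * pw3 n x₂ * pw e z = pw e z * (pw3 m x₁ * pw3 n x₂) := by
  cases m <;> cases n <;> cases e <;> coll R

theorem zY (R : Rules al be ga z i j k l x₁ x₂ y s) (a b e : Bool) :
    pw a y * pw b s * pw e z = pw e z * (pw a y * pw b s) := by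
  cases a <;> cases b <;> cases e <;> coll R

theorem evQ_def (p : Qt) :
    p.ev z i j k l = pw p.s z * ((pw p.a i * pw p.b j) * (pw p.c k * pw p.d l)) := by
  simp only [Qt.ev, mul_assoc]

theorem evQ_mul (R : Rules al be ga z i j k l x₁ x₂ y s) (p q : Qt) :
    p.ev z i j k l * q.ev z i j k l = (p.mul q).ev z i j k l := by
  simp only [evQ_def, Qt.mul]
  rw [pw_xor R, pw_xor R p.s q.s, pw_xor R (xor (xor _ _) _)]
  have h1 := uu R p.a p.b q.a q.b
  have h2 := vv R p.c p.d q.c q.d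
  have h3 := uv R p.c p.d q.a q.b
  have h4 := zA R p.a p.b q.s
  have h5 := zB R p.c p.d q.s
  have h6 := zA R (xor p.a q.a) (xor p.b q.b) (xor (xor (p.c && q.c) (p.d && q.d)) (p.d && q.c))
  generalize pw p.a i * pw p.b j = A at *
  generalize pw q.a i * pw q.b j = A' at *
  generalize pw p.c k * pw p.d l = B at *
  generalize pw q.c k * pw q.d l = B' at *
  generalize pw (xor p.a q.a) i * pw (xor p.b q.b) j = A'' at *
  generalize pw (xor p.c q.c) k * pw (xor p.d q.d) l = B'' at *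
  generalize pw p.s z = Z at *
  generalize pw q.s z = Z' at *
  generalize pw (xor (xor (p.a && q.a) (p.b && q.b)) (p.b && q.a)) z = Z1 at *
  generalize pw (xor (xor (p.c && q.c) (p.d && q.d)) (p.d && q.c)) z = Z2 at *
  calc Z * (A * B) * (Z' * (A' * B')) = Z * (A * (B * Z') * (A' * B')) := by group
    _ = Z * ((A * Z') * (B * A') * B') := by rw [h5]; group
    _ = Z * (Z' * (A * A') * (B * B')) := by rw [h4, h3]; group
    _ = Z * (Z' * (Z1 * (A'' * Z2) * B'')) := by rw [h1, h2]; group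
    _ = Z * Z' * (Z1 * Z2) * (A'' * B'') := by rw [h6]; group

theorem ax1 (R : Rules al be ga z i j k l x₁ x₂ y s) (p : Qt) :
    x₁ * p.ev z i j k l = p.x1.ev z i j k l * x₁ := by
  obtain ⟨s', a, b, c, d⟩ := p
  cases s' <;> cases a <;> cases b <;> cases c <;> cases d
  all_goals simp only [Qt.ev, Qt.x1]
  all_goals bred
  all_goals coll R

theorem ax2 (R : Rules al be ga z i j k l x₁ x₂ y s) (p : Qt) :
    x₂ * p.ev z i j k l = p.x2.ev z i j k l * x₂ := by
  obtain ⟨s', a, b, c, d⟩ := p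
  cases s' <;> cases a <;> cases b <;> cases c <;> cases d
  all_goals simp only [Qt.ev, Qt.x2]
  all_goals bred
  all_goals coll R

theorem ay (R : Rules al be ga z i j k l x₁ x₂ y s) (p : Qt) :
    y * p.ev z i j k l = p.y.ev z i j k l * y := by
  obtain ⟨s', a, b, c, d⟩ := p
  cases s' <;> cases a <;> cases b <;> cases c <;> cases d
  all_goals simp only [Qt.ev, Qt.y]
  all_goals bred
  all_goals coll R

theorem asw (R : Rules al be ga z i j k l x₁ x₂ y s) (p : Qt) :
    s * p.ev z i j k l = p.sw.ev z i j k l * s := by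
  obtain ⟨s', a, b, c, d⟩ := p
  cases s' <;> cases a <;> cases b <;> cases c <;> cases d
  all_goals simp only [Qt.ev, Qt.sw]
  all_goals coll R

theorem aX1 (R : Rules al be ga z i j k l x₁ x₂ y s) (m : C3) (p : Qt) :
    pw3 m x₁ * p.ev z i j k l = (Qt.X1 m p).ev z i j k l * pw3 m x₁ := by
  cases m
  · simp only [pw3, Qt.X1, one_mul, mul_one]
  · exact ax1 R p
  · show x₁ * x₁ * p.ev z i j k l = p.x1.x1.ev z i j k l * (x₁ * x₁)
    rw [mul_assoc, ax1 R, ← mul_assoc, ax1 R, mul_assoc]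

theorem aX2 (R : Rules al be ga z i j k l x₁ x₂ y s) (m : C3) (p : Qt) :
    pw3 m x₂ * p.ev z i j k l = (Qt.X2 m p).ev z i j k l * pw3 m x₂ := by
  cases m
  · simp only [pw3, Qt.X2, one_mul, mul_one]
  · exact ax2 R p
  · show x₂ * x₂ * p.ev z i j k l = p.x2.x2.ev z i j k l * (x₂ * x₂)
    rw [mul_assoc, ax2 R, ← mul_assoc, ax2 R, mul_assoc]

theorem aY (R : Rules al be ga z i j k l x₁ x₂ y s) (e : Bool) (p : Qt) :
    pw e y * p.ev z i j k l = (Qt.Y e p).ev z i j k l * pw e y := by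
  cases e
  · simp only [pw, Qt.Y, cond_false, one_mul, mul_one]
  · exact ay R p

theorem aS (R : Rules al be ga z i j k l x₁ x₂ y s) (e : Bool) (p : Qt) :
    pw e s * p.ev z i j k l = (Qt.S e p).ev z i j k l * pw e s := by
  cases e
  · simp only [pw, Qt.S, cond_false, one_mul, mul_one]
  · exact asw R p

theorem yX (R : Rules al be ga z i j k l x₁ x₂ y s) (e : Bool) (m n : C3) :
    pw e y * (pw3 m x₁ * pw3 n x₂) = pw3 (ng e m) x₁ * pw3 (ng e n) x₂ * pw e y := by
  cases e <;> cases m <;> cases n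
  all_goals simp only [ng, C3.neg, cond_true, cond_false]
  all_goals coll R

theorem sX (R : Rules al be ga z i j k l x₁ x₂ y s) (f : Bool) (m n : C3) :
    pw f s * (pw3 m x₁ * pw3 n x₂) =
      pw3 (bif f then n else m) x₁ * pw3 (bif f then m else n) x₂ * pw f s := by
  cases f <;> cases m <;> cases n
  all_goals simp only [cond_true, cond_false]
  all_goals coll R

theorem x11 (R : Rules al be ga z i j k l x₁ x₂ y s) (m m' : C3) :
    pw3 m x₁ * pw3 m' x₁ = pw3 (m.add m') x₁ := by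
  cases m <;> cases m'
  all_goals simp only [C3.add]
  all_goals coll R

theorem x22 (R : Rules al be ga z i j k l x₁ x₂ y s) (m m' : C3) :
    pw3 m x₂ * pw3 m' x₂ = pw3 (m.add m') x₂ := by
  cases m <;> cases m'
  all_goals simp only [C3.add]
  all_goals coll R

theorem x21 (R : Rules al be ga z i j k l x₁ x₂ y s) (m n : C3) :
    pw3 n x₂ * pw3 m x₁ = pw3 m x₁ * pw3 n x₂ := by
  cases m <;> cases n <;> coll R

theorem XX (R : Rules al be ga z i j k l x₁ x₂ y s) (m n m' n' : C3) :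
    pw3 m x₁ * pw3 n x₂ * (pw3 m' x₁ * pw3 n' x₂) = pw3 (m.add m') x₁ * pw3 (n.add n') x₂ := by
  calc pw3 m x₁ * pw3 n x₂ * (pw3 m' x₁ * pw3 n' x₂)
      = pw3 m x₁ * (pw3 n x₂ * pw3 m' x₁) * pw3 n' x₂ := by group
    _ = (pw3 m x₁ * pw3 m' x₁) * (pw3 n x₂ * pw3 n' x₂) := by rw [x21 R]; group
    _ = _ := by rw [x11 R, x22 R]

theorem s_y (R : Rules al be ga z i j k l x₁ x₂ y s) (f e : Bool) :
    pw f s * pw e y = pw (ga && (f && e)) z * (pw e y * pw f s) := by
  cases f <;> cases e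
  all_goals bred
  all_goals coll R

theorem y_y (R : Rules al be ga z i j k l x₁ x₂ y s) (f e : Bool) :
    pw f y * pw e y = pw (al && (f && e)) z * pw (xor f e) y := by
  cases f <;> cases e
  all_goals bred
  all_goals coll R

theorem s_s (R : Rules al be ga z i j k l x₁ x₂ y s) (f e : Bool) :
    pw f s * pw e s = pw (be && (f && e)) z * pw (xor f e) s := by
  cases f <;> cases e
  all_goals bred
  all_goals coll R

theorem YY (R : Rules al be ga z i j k l x₁ x₂ y s) (e f e' f' : Bool) :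
    pw e y * pw f s * (pw e' y * pw f' s) =
      pw (xor (ga && (f && e')) (xor (al && (e && e')) (be && (f && f')))) z *
        (pw (xor e e') y * pw (xor f f') s) := by
  have h1 : pw e y * pw (ga && (f && e')) z = pw (ga && (f && e')) z * pw e y := by
    have := zY R e false (ga && (f && e'))
    simpa [pw] using this
  have h2 : pw (xor e e') y * pw (be && (f && f')) z = pw (be && (f && f')) z * pw (xor e e') y := by
    have := zY R (xor e e') false (be && (f && f'))
    simpa [pw] using this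
  rw [pw_xor R, pw_xor R]
  calc pw e y * pw f s * (pw e' y * pw f' s) = pw e y * (pw f s * pw e' y) * pw f' s := by group
    _ = (pw e y * pw (ga && (f && e')) z) * (pw e' y * pw f s) * pw f' s := by rw [s_y R]; group
    _ = pw (ga && (f && e')) z * (pw e y * pw e' y) * (pw f s * pw f' s) := by rw [h1]; group
    _ = pw (ga && (f && e')) z * (pw (al && (e && e')) z * (pw (xor e e') y * pw (be && (f && f')) z) *
          pw (xor f f') s) := by rw [y_y R, s_s R]; group
    _ = _ := by rw [h2]; group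

theorem zT (R : Rules al be ga z i j k l x₁ x₂ y s) (p : Qt) (e : Bool) :
    p.ev z i j k l * pw e z = pw e z * p.ev z i j k l := by
  rw [evQ_def]
  have h1 := zA R p.a p.b e
  have h2 := zB R p.c p.d e
  have h3 : pw p.s z * pw e z = pw e z * pw p.s z := by
    cases p.s <;> cases e <;> simp [pw]
  generalize pw p.a i * pw p.b j = A at *
  generalize pw p.c k * pw p.d l = B at *
  calc pw p.s z * (A * B) * pw e z = pw p.s z * (A * (B * pw e z)) := by group
    _ = pw p.s z * ((A * pw e z) * B) := by rw [h2]; group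
    _ = (pw p.s z * pw e z) * (A * B) := by rw [h1]; group
    _ = _ := by rw [h3]; group

theorem ev_sg (R : Rules al be ga z i j k l x₁ x₂ y s) (p : Qt) (e : Bool) :
    (p.sg e).ev z i j k l = pw e z * p.ev z i j k l := by
  have h3 : pw p.s z * pw e z = pw e z * pw p.s z := by
    cases p.s <;> cases e <;> simp [pw]
  simp only [evQ_def, Qt.sg, pw_xor R, h3]
  group

theorem evT_def (t : T) : t.ev z i j k l x₁ x₂ y s =
    t.w.ev z i j k l * ((pw3 t.m x₁ * pw3 t.n x₂) * (pw t.e y * pw t.f s)) := by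
  simp only [T.ev, mul_assoc]

/-- `ev` is multiplicative. -/
theorem ev_mul (R : Rules al be ga z i j k l x₁ x₂ y s) (t u : T) :
    t.ev z i j k l x₁ x₂ y s * u.ev z i j k l x₁ x₂ y s = (T.mul al be ga t u).ev z i j k l x₁ x₂ y s := by
  simp only [evT_def, T.mul]
  rw [ev_sg R, ← evQ_mul R, ← XX R]
  have h1 := aS R t.f u.w
  have h2 := aY R t.e (Qt.S t.f u.w)
  have h3 := aX2 R t.n (Qt.Y t.e (Qt.S t.f u.w))
  have h4 := aX1 R t.m (Qt.X2 t.n (Qt.Y t.e (Qt.S t.f u.w)))
  have h5 := sX R t.f u.m u.n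
  have h6 := yX R t.e (bif t.f then u.n else u.m) (bif t.f then u.m else u.n)
  have h7 := YY R t.e t.f u.e u.f
  have h8 := zX R t.m t.n (xor (ga && (t.f && u.e)) (xor (al && (t.e && u.e)) (be && (t.f && u.f))))
  have h9 := zX R (ng t.e (bif t.f then u.n else u.m)) (ng t.e (bif t.f then u.m else u.n))
    (xor (ga && (t.f && u.e)) (xor (al && (t.e && u.e)) (be && (t.f && u.f))))
  have h10 := zT R (Qt.X1 t.m (Qt.X2 t.n (Qt.Y t.e (Qt.S t.f u.w))))
    (xor (ga && (t.f && u.e)) (xor (al && (t.e && u.e)) (be && (t.f && u.f))))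
  have h11 := zT R t.w (xor (ga && (t.f && u.e)) (xor (al && (t.e && u.e)) (be && (t.f && u.f))))
  generalize Qt.ev z i j k l (Qt.X1 t.m (Qt.X2 t.n (Qt.Y t.e (Qt.S t.f u.w)))) = q4 at *
  generalize Qt.ev z i j k l (Qt.X2 t.n (Qt.Y t.e (Qt.S t.f u.w))) = q3 at *
  generalize Qt.ev z i j k l (Qt.Y t.e (Qt.S t.f u.w)) = q2 at *
  generalize Qt.ev z i j k l (Qt.S t.f u.w) = q1 at *
  generalize Qt.ev z i j k l u.w = q0 at *
  generalize Qt.ev z i j k l t.w = p at *
  generalize pw3 (ng t.e (bif t.f then u.n else u.m)) x₁ * pw3 (ng t.e (bif t.f then u.m else u.n)) x₂ = X'' at *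
  generalize pw3 (bif t.f then u.n else u.m) x₁ * pw3 (bif t.f then u.m else u.n) x₂ = X' at *
  generalize pw3 u.m x₁ * pw3 u.n x₂ = X0 at *
  generalize pw (xor (ga && (t.f && u.e)) (xor (al && (t.e && u.e)) (be && (t.f && u.f)))) z = Z at *
  generalize pw3 t.m x₁ = M at *
  generalize pw3 t.n x₂ = N at *
  generalize pw (xor t.e u.e) y * pw (xor t.f u.f) s = Y3 at *
  generalize pw t.e y = E at *
  generalize pw t.f s = F at *
  generalize pw u.e y * pw u.f s = Y2 at *
  calc p * (M * N * (E * F)) * (q0 * (X0 * Y2)) = p * M * N * E * (F * q0) * (X0 * Y2) := by group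
    _ = p * M * N * (E * q1) * F * (X0 * Y2) := by rw [h1]; group
    _ = p * M * (N * q2) * E * F * (X0 * Y2) := by rw [h2]; group
    _ = p * (M * q3) * N * E * F * (X0 * Y2) := by rw [h3]; group
    _ = p * q4 * M * N * E * (F * X0) * Y2 := by rw [h4]; group
    _ = p * q4 * M * N * (E * X') * F * Y2 := by rw [h5]; group
    _ = p * q4 * (M * N) * X'' * (E * F * Y2) := by rw [h6]; group
    _ = p * q4 * (M * N) * (X'' * Z) * Y3 := by rw [h7]; group
    _ = p * q4 * (M * N * Z) * X'' * Y3 := by rw [h9]; group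
    _ = p * (q4 * Z) * (M * N) * X'' * Y3 := by rw [h8]; group
    _ = (p * Z) * q4 * (M * N) * X'' * Y3 := by rw [h10]; group
    _ = Z * (p * q4) * ((M * N) * X'' * Y3) := by rw [h11]; group


end ev2

/-! ### quantification over `T` -/

def allB (p : Bool → Bool) : Bool := p false && p true

def all3 (p : C3 → Bool) : Bool := p C3.o && (p C3.p && p C3.q)

def allT (P : T → Bool) : Bool :=
  allB fun s => allB fun a => allB fun b => allB fun c => allB fun d => all3 fun m => all3 fun n =>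
    allB fun e => allB fun f => P ⟨⟨s, a, b, c, d⟩, m, n, e, f⟩

theorem allB_spec {p : Bool → Bool} (h : allB p = true) : ∀ a, p a = true := by
  intro a
  simp only [allB, Bool.and_eq_true] at h
  cases a
  · exact h.1
  · exact h.2

theorem all3_spec {p : C3 → Bool} (h : all3 p = true) : ∀ a, p a = true := by
  intro a
  simp only [all3, Bool.and_eq_true] at h
  cases a
  · exact h.1
  · exact h.2.1
  · exact h.2.2

theorem allT_spec {P : T → Bool} (h : allT P = true) : ∀ t, P t = true := by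
  rintro ⟨⟨s, a, b, c, d⟩, m, n, e, f⟩
  exact allB_spec (allB_spec (all3_spec (all3_spec (allB_spec (allB_spec (allB_spec (allB_spec
    (allB_spec h s) a) b) c) d) m) n) e) f

def Qt.beq (p q : Qt) : Bool :=
  (p.s == q.s) && ((p.a == q.a) && ((p.b == q.b) && ((p.c == q.c) && (p.d == q.d))))

def T.beq (t u : T) : Bool :=
  t.w.beq u.w && (C3.eqb t.m u.m && (C3.eqb t.n u.n && ((t.e == u.e) && (t.f == u.f))))

theorem T.eq_of_beq {t u : T} (h : t.beq u = true) : t = u := by
  obtain ⟨⟨s, a, b, c, d⟩, m, n, e, f⟩ := t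
  obtain ⟨⟨s', a', b', c', d'⟩, m', n', e', f'⟩ := u
  simp only [T.beq, Qt.beq, Bool.and_eq_true, beq_iff_eq] at h
  obtain ⟨⟨rfl, rfl, rfl, rfl, rfl⟩, h1, h2, rfl, rfl⟩ := h
  rw [C3.eq_of_eqb _ _ h1, C3.eq_of_eqb _ _ h2]

theorem C3.eqb_self (a : C3) : C3.eqb a a = true := by cases a <;> rfl

theorem T.beq_self (t : T) : t.beq t = true := by
  simp [T.beq, Qt.beq, C3.eqb_self]

theorem T.beq_iff {t u : T} : t.beq u = true ↔ t = u :=
  ⟨T.eq_of_beq, fun h => by rw [h]; exact T.beq_self u⟩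

/-! ### the isomorphism with `C_G(z)` -/

def C3.equiv : C3 ≃ Fin 3 where
  toFun a := match a with
    | C3.o => 0
    | C3.p => 1
    | C3.q => 2
  invFun a := if a = 0 then C3.o else if a = 1 then C3.p else C3.q
  left_inv a := by cases a <;> rfl
  right_inv a := by fin_cases a <;> rfl

def T.equiv : T ≃ (Bool × Bool × Bool × Bool × Bool) × C3 × C3 × Bool × Bool where
  toFun t := ⟨⟨t.w.s, t.w.a, t.w.b, t.w.c, t.w.d⟩, t.m, t.n, t.e, t.f⟩
  invFun u := ⟨⟨u.1.1, u.1.2.1, u.1.2.2.1, u.1.2.2.2.1, u.1.2.2.2.2⟩, u.2.1, u.2.2.1, u.2.2.2.1, u.2.2.2.2⟩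
  left_inv _ := rfl
  right_inv _ := rfl

instance : Finite C3 := Finite.of_equiv _ C3.equiv.symm

instance : Finite T := Finite.of_equiv _ T.equiv.symm

theorem card_T : Nat.card T = 1152 := by
  rw [Nat.card_congr T.equiv]
  simp only [Nat.card_prod, Nat.card_congr C3.equiv, Nat.card_eq_fintype_card, Fintype.card_prod, Fintype.card_bool, Fintype.card_fin]

/-- constants -/
def T.one : T := ⟨⟨false, false, false, false, false⟩, C3.o, C3.o, false, false⟩
def tz : T := ⟨⟨true, false, false, false, false⟩, C3.o, C3.o, false, false⟩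
def ti : T := ⟨⟨false, true, false, false, false⟩, C3.o, C3.o, false, false⟩
def tj : T := ⟨⟨false, false, true, false, false⟩, C3.o, C3.o, false, false⟩
def tk : T := ⟨⟨false, false, false, true, false⟩, C3.o, C3.o, false, false⟩
def tl : T := ⟨⟨false, false, false, false, true⟩, C3.o, C3.o, false, false⟩
def tx₁ : T := ⟨⟨false, false, false, false, false⟩, C3.p, C3.o, false, false⟩
def tx₂ : T := ⟨⟨false, false, false, false, false⟩, C3.o, C3.p, false, false⟩
def ty : T := ⟨⟨false, false, false, false, false⟩, C3.o, C3.o, true, false⟩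
def ts : T := ⟨⟨false, false, false, false, false⟩, C3.o, C3.o, false, true⟩

section iso

variable {G : Type*} [Group G] {z i j k l x₁ x₂ y s : G}

theorem ev_one : T.one.ev z i j k l x₁ x₂ y s = 1 := by simp [T.ev, Qt.ev, pw, pw3, T.one]
theorem ev_z : tz.ev z i j k l x₁ x₂ y s = z := by simp [T.ev, Qt.ev, pw, pw3, tz]
theorem ev_i : ti.ev z i j k l x₁ x₂ y s = i := by simp [T.ev, Qt.ev, pw, pw3, ti]
theorem ev_j : tj.ev z i j k l x₁ x₂ y s = j := by simp [T.ev, Qt.ev, pw, pw3, tj]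
theorem ev_k : tk.ev z i j k l x₁ x₂ y s = k := by simp [T.ev, Qt.ev, pw, pw3, tk]
theorem ev_l : tl.ev z i j k l x₁ x₂ y s = l := by simp [T.ev, Qt.ev, pw, pw3, tl]
theorem ev_x₁ : tx₁.ev z i j k l x₁ x₂ y s = x₁ := by simp [T.ev, Qt.ev, pw, pw3, tx₁]
theorem ev_x₂ : tx₂.ev z i j k l x₁ x₂ y s = x₂ := by simp [T.ev, Qt.ev, pw, pw3, tx₂]
theorem ev_y : ty.ev z i j k l x₁ x₂ y s = y := by simp [T.ev, Qt.ev, pw, pw3, ty]
theorem ev_s : ts.ev z i j k l x₁ x₂ y s = s := by simp [T.ev, Qt.ev, pw, pw3, ts]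

/-- The rules hold in `Case9aa`. -/
theorem rules_of_case {Q : Subgroup G} (h : Case9aa Q z i j k l x₁ x₂ y s) :
    ∃ al be ga : Bool, Rules al be ga z i j k l x₁ x₂ y s := by
  have zz := h.large.z_sq
  have zinv : z⁻¹ = z := inv_eq_of_mul_eq_one_left zz
  have ac : ∀ {c a b : G}, c * a * c⁻¹ = b → c * a = b * c := by
    intro c a b hab; rw [← hab]; group
  have zi : i * z = z * i := by rw [← h.ii, mul_assoc]
  have zj : j * z = z * j := by rw [← h.jj, mul_assoc]
  have zk : k * z = z * k := by rw [← h.kk, mul_assoc]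
  have zl : l * z = z * l := by rw [← h.ll, mul_assoc]
  have zx := ac h.x₁_act.z
  have zw := ac h.x₂_act.z
  have zy := ac h.y_act.z
  have zs := ac h.s_act.z
  have inv3 : ∀ {x : G}, x ^ 3 = 1 → x⁻¹ = x * x := by
    intro x hx
    rw [inv_eq_iff_mul_eq_one, ← hx, pow_succ, pow_two]; group
  have x3 : ∀ {x : G}, x ^ 3 = 1 → x * (x * x) = 1 := by
    intro x hx
    rw [← hx, pow_succ, pow_two]; group
  have hal : ∃ al : Bool, y * y = pw al z := by
    rcases h.yy with h1 | h1
    · exact ⟨false, h1⟩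
    · exact ⟨true, h1⟩
  have hbe : ∃ be : Bool, s * s = pw be z := by
    rcases h.ss with h1 | h1
    · exact ⟨false, h1⟩
    · exact ⟨true, h1⟩
  have hga : ∃ ga : Bool, s * y = pw ga z * (y * s) := by
    rcases h.ys with h1 | h1
    · exact ⟨false, by rw [ac h1]; simp [pw]⟩
    · refine ⟨true, ?_⟩
      rw [ac h1, zy]; simp [pw, mul_assoc]
  obtain ⟨al, hal⟩ := hal
  obtain ⟨be, hbe⟩ := hbe
  obtain ⟨ga, hga⟩ := hga
  refine ⟨al, be, ga, zz, zi, zj, zk, zl, zx, zw, zy, zs, h.ii, h.jj, h.kk, h.ll, ?_, ?_, h.ki, h.li, h.kj,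
    h.lj, ac h.x₁_act.i, ?_, ac h.x₁_act.k, ac h.x₁_act.l, ac h.x₂_act.i, ac h.x₂_act.j, ac h.x₂_act.k, ?_,
    ?_, ?_, ?_, ?_, ac h.s_act.i, ac h.s_act.j, ac h.s_act.k, ac h.s_act.l, h.xx.symm, x3 h.x₁3, x3 h.x₂3,
    ?_, ?_, ac h.s1, ac h.s2, hga, hal, hbe⟩
  · rw [h.ji, mul_assoc, zj, ← mul_assoc, zi, mul_assoc]
  · rw [h.lk, mul_assoc, zl, ← mul_assoc, zk, mul_assoc]
  · rw [ac h.x₁_act.j, mul_assoc]
  · rw [ac h.x₂_act.l, mul_assoc]
  · rw [ac h.y_act.i, zj, mul_assoc]
  · rw [ac h.y_act.j, zi, mul_assoc]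
  · rw [ac h.y_act.k, zl, mul_assoc]
  · rw [ac h.y_act.l, zk, mul_assoc]
  · rw [ac h.y1, inv3 h.x₁3, mul_assoc]
  · rw [ac h.y2, inv3 h.x₂3, mul_assoc]

theorem exists_pow [Finite G] {al be ga : Bool} (R : Rules al be ga z i j k l x₁ x₂ y s) (t : T) (n : ℕ) :
    ∃ u : T, (t.ev z i j k l x₁ x₂ y s) ^ n = u.ev z i j k l x₁ x₂ y s := by
  induction n with
  | zero => exact ⟨T.one, by rw [pow_zero, ev_one]⟩
  | succ n ih =>
    obtain ⟨u, hu⟩ := ih
    exact ⟨T.mul al be ga u t, by rw [pow_succ, hu, ev_mul R]⟩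

/-- every element of `C_G(z)` has a normal form -/
theorem exists_ev [Finite G] {Q : Subgroup G} {al be ga : Bool} (h : Case9aa Q z i j k l x₁ x₂ y s)
    (R : Rules al be ga z i j k l x₁ x₂ y s) {c : G} (hc : c * z = z * c) :
    ∃ t : T, c = t.ev z i j k l x₁ x₂ y s := by
  have hc' : c ∈ Subgroup.closure ({i, j, k, l, x₁, x₂, y, s} : Set G) := by
    rw [← h.cent]; exact Subgroup.mem_centralizer_singleton_iff.2 hc
  refine Subgroup.closure_induction (p := fun c _ => ∃ t : T, c = t.ev z i j k l x₁ x₂ y s) ?_ ?_ ?_ ?_ hc'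
  · rintro c (rfl | rfl | rfl | rfl | rfl | rfl | rfl | rfl)
    · exact ⟨ti, ev_i.symm⟩
    · exact ⟨tj, ev_j.symm⟩
    · exact ⟨tk, ev_k.symm⟩
    · exact ⟨tl, ev_l.symm⟩
    · exact ⟨tx₁, ev_x₁.symm⟩
    · exact ⟨tx₂, ev_x₂.symm⟩
    · exact ⟨ty, ev_y.symm⟩
    · exact ⟨ts, ev_s.symm⟩
  · exact ⟨T.one, ev_one.symm⟩
  · rintro a b _ _ ⟨t, rfl⟩ ⟨u, rfl⟩
    exact ⟨T.mul al be ga t u, ev_mul R t u⟩
  · rintro a _ ⟨t, rfl⟩
    obtain ⟨u, hu⟩ := exists_pow R t (orderOf (t.ev z i j k l x₁ x₂ y s) - 1)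
    refine ⟨u, ?_⟩
    rw [← hu, inv_eq_iff_mul_eq_one, ← pow_succ', Nat.sub_add_cancel (orderOf_pos _), pow_orderOf_eq_one]

theorem ev_comm {al be ga : Bool} (R : Rules al be ga z i j k l x₁ x₂ y s) (t : T) :
    t.ev z i j k l x₁ x₂ y s * z = z * t.ev z i j k l x₁ x₂ y s := by
  have h := zT R t.w true
  have h1 := zX R t.m t.n true
  have h2 := zY R t.e t.f true
  simp only [pw, cond_true] at h h1
  have h2' : pw t.e y * pw t.f s * z = z * (pw t.e y * pw t.f s) := h2
  rw [evT_def]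
  generalize Qt.ev z i j k l t.w = A at *
  generalize pw3 t.m x₁ * pw3 t.n x₂ = B at *
  generalize pw t.e y * pw t.f s = C at *
  calc A * (B * C) * z = A * (B * (C * z)) := by group
    _ = A * (B * z) * C := by rw [h2']; group
    _ = A * z * B * C := by rw [h1]; group
    _ = z * (A * (B * C)) := by rw [h]; group

/-- `ev` is injective. -/
theorem ev_inj [Finite G] {Q : Subgroup G} {al be ga : Bool} (h : Case9aa Q z i j k l x₁ x₂ y s)
    (R : Rules al be ga z i j k l x₁ x₂ y s) :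
    Function.Injective (fun t : T => t.ev z i j k l x₁ x₂ y s) := by
  let F : T → Subgroup.centralizer ({z} : Set G) := fun t =>
    ⟨t.ev z i j k l x₁ x₂ y s, Subgroup.mem_centralizer_singleton_iff.2 (ev_comm R t)⟩
  have hs : Function.Surjective F := by
    rintro ⟨c, hc⟩
    obtain ⟨t, ht⟩ := exists_ev h R (Subgroup.mem_centralizer_singleton_iff.1 hc)
    exact ⟨t, Subtype.ext ht.symm⟩
  have hb : Function.Bijective F := by
    rw [Nat.bijective_iff_surjective_and_card]
    exact ⟨hs, by rw [card_T, h.card_cent]⟩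
  intro t u htu
  exact hb.1 (Subtype.ext htu)

end iso

end Cfsg.Agent.LargeExtra.W2.CM
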