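import Cfsg.Agent.LargeExtra.W2.U43.ExistsD
import Cfsg.Agent.TwoFusion.ClosingPrime
import Cfsg.Agent.StrongEmb.Strong

/-!
# Closing: a simple subgroup containing the centraliser of an involution, with one class of involutions,
is the whole group (helper893)
-/

set_option autoImplicit false
set_option linter.unusedSimpArgs false
set_option linter.unusedVariables false

namespace Cfsg.Agent.LargeExtra.W2.U43.Closing

open Cfsg.Agent.Co2Type.Quad Cfsg.Agent.LargeExtra.W2.CM Cfsg.Agent.LargeExtra.W2.U43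
open Cfsg.Agent.LargeExtra.W2.U43.ExistsD

/-- A simple subgroup (not a `2`-group) of a finite simple group is not strongly embedded. -/
theorem not_stronglyEmbedded {G : Type*} [Group G] [Finite G] [IsSimpleGroup G] (H : Subgroup G)
    (hs : IsSimpleGroup H) (h2 : ¬ IsPGroup 2 H) : ¬ Cfsg.IsStronglyEmbedded H := by
  intro hSE
  have hna : ∃ a b : G, a * b ≠ b * a := by
    by_contra hcon
    push Not at hcon
    have hN : H.Normal := ⟨fun n hn g => by rw [hcon g n, mul_inv_cancel_right]; exact hn⟩
    rcases hN.eq_bot_or_eq_top with h | h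
    · have := hs.toNontrivial
      rw [h] at this
      exact not_nontrivial _ this
    · exact hSE.1 h
  obtain ⟨Q, hQ, hQ2⟩ := Cfsg.Agent.StrongEmb.Strong.exists_isSplit hna H hSE
  have hn := hQ.normal
  rcases hn.eq_bot_or_eq_top with h | h
  · -- `Q = 1`: `H` has index two
    have hQb : Q = ⊥ := by
      rw [eq_bot_iff]
      intro x hx
      have h1 : (⟨x, hQ.le hx⟩ : H) ∈ Q.subgroupOf H := Subgroup.mem_subgroupOf.2 hx
      rw [h, Subgroup.mem_bot] at h1
      rw [Subgroup.mem_bot]
      exact congrArg Subtype.val h1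
    have hmem : ∀ g₁ g₂ : G, g₁ ∉ H → g₂ ∉ H → g₂⁻¹ * g₁ ∈ H := by
      intro g₁ g₂ h1 h2
      obtain ⟨u, hu, h3⟩ := hQ.trans g₁ g₂ h1 h2
      rw [hQb, Subgroup.mem_bot] at hu
      rwa [hu, one_mul] at h3
    have hN : H.Normal := by
      refine ⟨fun n hn g => ?_⟩
      by_cases hg : g ∈ H
      · exact mul_mem (mul_mem hg hn) (inv_mem hg)
      · have hg' : g⁻¹ ∉ H := fun h' => hg (by simpa using inv_mem h')
        have h1 : n⁻¹ * g⁻¹ ∉ H := fun h' => hg' (by
          have := mul_mem hn h'
          rwa [mul_inv_cancel_left] at this)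
        have h2 := hmem _ _ hg' h1
        rwa [mul_inv_rev, inv_inv, inv_inv] at h2
    rcases hN.eq_bot_or_eq_top with h' | h'
    · have := hs.toNontrivial
      rw [h'] at this
      exact not_nontrivial _ this
    · exact hSE.1 h'
  · apply h2
    have hle : H ≤ Q := Subgroup.subgroupOf_eq_top.1 h
    exact hQ2.to_le hle

theorem eq_top_of_simple {G : Type*} [Group G] [Finite G] [IsSimpleGroup G] (H : Subgroup G)
    (hs : IsSimpleGroup H) (h2 : ¬ IsPGroup 2 H) {t : G} (ht : orderOf t = 2)
    (hC : Subgroup.centralizer ({t} : Set G) ≤ H)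
    (hone : ∀ x ∈ H, orderOf x = 2 → ∃ g ∈ H, g * t * g⁻¹ = x) : H = ⊤ := by
  by_contra hne
  exact not_stronglyEmbedded H hs h2
    (Cfsg.Agent.TwoFusion.ClosingPrime.isStronglyEmbedded_of_one_class ht hC hone hne)

end Cfsg.Agent.LargeExtra.W2.U43.Closing
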