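import Cfsg.Agent.LargeExtra.W2.U43.Model

/-!
# S1759, `C / Q = S₃ × S₃`, case II: recognition of `U₄(3)`, interface (helper893)

* `Tw` : `Case9aa` with the twist `y² = z`, `s² = 1`, `s y s⁻¹ = y z` of `U₄(3)`.
* `Tw.mirror` : the symmetry `x₂ → x₂⁻¹`, `s → y s` (it exchanges `ρ = x₁ x₂` and `κ = x₁ x₂⁻¹`).
* `Del z i j k l x₁ x₂ y s d` : `d` of order three centralising `⟨i k, j l⟩` and `ρ = x₁ x₂`, `z → s → s z`.
  For the mirror image: `Del z i j (l z) (k z) x₁ x₂⁻¹ y (y s) e`.
-/

set_option autoImplicit false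
set_option linter.unusedSimpArgs false
set_option linter.unusedVariables false

namespace Cfsg.Agent.LargeExtra.W2.U43

open Cfsg.Agent.Co2Type.Quad Cfsg.Agent.LargeExtra.W2.CM

/-- The centraliser of an involution of `U₄(3)`. -/
structure Tw {G : Type*} [Group G] (Q : Subgroup G) (z i j k l x₁ x₂ y s : G) : Prop
    extends Case9aa Q z i j k l x₁ x₂ y s where
  yz : y * y = z
  sz : s * s = 1
  sy : s * y * s⁻¹ = y * z

/-- `d`: order three, `z → s → s z`, centralises `⟨i k, j l, x₁ x₂⟩ ≅ A₄`, `d^y = d⁻¹ z`. -/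
structure Del {G : Type*} [Group G] (z i j k l x₁ x₂ y s d : G) : Prop where
  d3 : d ^ 3 = 1
  dz : d * z * d⁻¹ = s
  ds : d * s * d⁻¹ = s * z
  dik : d * (i * k) = i * k * d
  djl : d * (j * l) = j * l * d
  dr : d * (x₁ * x₂) = x₁ * x₂ * d
  dy : y * d * y⁻¹ = d⁻¹ * z

variable {G : Type*} [Group G] {Q : Subgroup G} {z i j k l x₁ x₂ y s : G}

/-- The rules of `Tw`. -/
theorem Tw.rules (h : Tw Q z i j k l x₁ x₂ y s) : Rules true false true z i j k l x₁ x₂ y s := by
  obtain ⟨al, be, ga, R⟩ := rules_of_case h.toCase9aa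
  have hz := h.large.z_ne
  have h1 : pw al z = z := by rw [← R.yy, h.yz]
  have h2 : pw be z = 1 := by rw [← R.ss, h.sz]
  have h3 : pw ga z = z := by
    have h4 : s * y = pw ga z * (y * s) := R.sy
    have h5 : s * y = z * (y * s) := by
      have h6 : s * y = y * z * s := by
        calc s * y = s * y * s⁻¹ * s := by group
          _ = y * z * s := by rw [h.sy]
      rw [h6, R.zy, mul_assoc]
    rw [h4] at h5
    exact mul_right_cancel h5
  have e1 : al = true := by
    cases al
    · exact absurd h1.symm hz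
    · rfl
  have e2 : be = false := by
    cases be
    · rfl
    · exact absurd h2 hz
  have e3 : ga = true := by
    cases ga
    · exact absurd h3.symm hz
    · rfl
  subst e1 e2 e3
  exact R

theorem inv_x₁ {al be ga : Bool} (R : Rules al be ga z i j k l x₁ x₂ y s) : x₁⁻¹ = x₁ * x₁ := by
  rw [inv_eq_iff_mul_eq_one]; exact R.xxx
theorem inv_x₂ {al be ga : Bool} (R : Rules al be ga z i j k l x₁ x₂ y s) : x₂⁻¹ = x₂ * x₂ := by
  rw [inv_eq_iff_mul_eq_one]; exact R.www

/-- The mirror image. -/
theorem Tw.mirror (h : Tw Q z i j k l x₁ x₂ y s) :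
    Tw Q z i j (l * z) (k * z) x₁ x₂⁻¹ y (y * s) := by
  have R := h.rules
  have iz : z⁻¹ = z := inv_eq_of_mul_eq_one_left R.zz
  have ii : i⁻¹ = i * z := by
    rw [inv_eq_iff_mul_eq_one]; coll R
  have ik : k⁻¹ = k * z := by
    rw [inv_eq_iff_mul_eq_one]; coll R
  have il : l⁻¹ = l * z := by
    rw [inv_eq_iff_mul_eq_one]; coll R
  have ix1 := inv_x₁ R
  have ix2 := inv_x₂ R
  have iy : y⁻¹ = y * z := by
    rw [inv_eq_iff_mul_eq_one]; coll R
  have is : s⁻¹ = s := by
    rw [inv_eq_iff_mul_eq_one]; coll R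
  have kz : ∀ {c : G} {K : Subgroup G}, c * z ∈ K → z ∈ K → c ∈ K := by
    intro c K h1 h2
    have := mul_mem h1 h2
    rwa [mul_assoc, R.zz, mul_one] at this
  have gen : Q = Subgroup.closure {i, j, l * z, k * z} := by
    apply le_antisymm
    · rw [h.gen, Subgroup.closure_le]
      have hz : z ∈ Subgroup.closure ({i, j, l * z, k * z} : Set G) := by
        rw [← h.ii]
        exact mul_mem (Subgroup.subset_closure (by simp)) (Subgroup.subset_closure (by simp))
      rintro c (rfl | rfl | rfl | rfl)
      · exact Subgroup.subset_closure (by simp)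
      · exact Subgroup.subset_closure (by simp)
      · exact kz (Subgroup.subset_closure (by simp)) hz
      · exact kz (Subgroup.subset_closure (by simp)) hz
    · rw [Subgroup.closure_le]
      have hs := h.toPlus
      have hi : i ∈ Q := by rw [h.gen]; exact Subgroup.subset_closure (by simp)
      have hj : j ∈ Q := by rw [h.gen]; exact Subgroup.subset_closure (by simp)
      have hk : k ∈ Q := by rw [h.gen]; exact Subgroup.subset_closure (by simp)
      have hl : l ∈ Q := by rw [h.gen]; exact Subgroup.subset_closure (by simp)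
      have hz : z ∈ Q := h.large.z_mem
      rintro c (rfl | rfl | rfl | rfl)
      · exact hi
      · exact hj
      · exact mul_mem hl hz
      · exact mul_mem hk hz
  have cent : Subgroup.centralizer {z} = Subgroup.closure {i, j, l * z, k * z, x₁, x₂⁻¹, y, y * s} := by
    rw [h.cent]
    apply le_antisymm
    · rw [Subgroup.closure_le]
      have hz : z ∈ Subgroup.closure ({i, j, l * z, k * z, x₁, x₂⁻¹, y, y * s} : Set G) := by
        rw [← h.ii]
        exact mul_mem (Subgroup.subset_closure (by simp)) (Subgroup.subset_closure (by simp))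
      rintro c (rfl | rfl | rfl | rfl | rfl | rfl | rfl | rfl)
      · exact Subgroup.subset_closure (by simp)
      · exact Subgroup.subset_closure (by simp)
      · exact kz (Subgroup.subset_closure (by simp)) hz
      · exact kz (Subgroup.subset_closure (by simp)) hz
      · exact Subgroup.subset_closure (by simp)
      · exact inv_mem_iff.1 (Subgroup.subset_closure (by simp))
      · exact Subgroup.subset_closure (by simp)
      · have : c = y⁻¹ * (y * c) := by group
        rw [this]
        exact mul_mem (inv_mem (Subgroup.subset_closure (by simp))) (Subgroup.subset_closure (by simp))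
    · rw [Subgroup.closure_le]
      have hz : z ∈ Subgroup.closure ({i, j, k, l, x₁, x₂, y, s} : Set G) := by
        rw [← h.ii]
        exact mul_mem (Subgroup.subset_closure (by simp)) (Subgroup.subset_closure (by simp))
      rintro c (rfl | rfl | rfl | rfl | rfl | rfl | rfl | rfl)
      · exact Subgroup.subset_closure (by simp)
      · exact Subgroup.subset_closure (by simp)
      · exact mul_mem (Subgroup.subset_closure (by simp)) hz
      · exact mul_mem (Subgroup.subset_closure (by simp)) hz
      · exact Subgroup.subset_closure (by simp)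
      · exact inv_mem (Subgroup.subset_closure (by simp))
      · exact Subgroup.subset_closure (by simp)
      · exact mul_mem (Subgroup.subset_closure (by simp)) (Subgroup.subset_closure (by simp))
  refine ⟨⟨⟨h.large, h.card, gen, h.ii, h.jj, ?_, ?_, h.ji, ?_, ?_, ?_, ?_, ?_⟩, h.x₁3, ?_, ⟨?_, ?_, ?_, ?_, ?_⟩,
    ⟨?_, ?_, ?_, ?_, ?_⟩, ⟨?_, ?_, ?_, ?_, ?_⟩, ⟨?_, ?_, ?_, ?_, ?_⟩, ?_, ?_, ?_, ?_, ?_, Or.inr h.yz, Or.inl ?_,
    Or.inr ?_, cent, h.card_cent⟩, h.yz, ?_, ?_⟩
  all_goals try simp only [mul_inv_rev, inv_inv, pow_succ, pow_zero, one_mul, iz, ii, ik, il, ix1, ix2, iy, is]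
  all_goals try coll R

end Cfsg.Agent.LargeExtra.W2.U43
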