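import Cfsg.Agent.LargeExtra.W2.U43.Defs

/-!
# Existence of the element `d` (helper893)

`exists_del`: in the situation `Tw`, if `s` is conjugate to `z` there is `d` with `Del`.
-/

set_option autoImplicit false
set_option linter.unusedSimpArgs false
set_option linter.unusedVariables false

namespace Cfsg.Agent.LargeExtra.W2.U43.ExistsD

open Cfsg.Agent.Co2Type.Quad Cfsg.Agent.LargeExtra.W2.CM Cfsg.Agent.LargeExtra.W2.U43

/-- multiplication of the model for `U₄(3)` -/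
def mu : T → T → T := T.mul true false true

def tr : T := mu tx₁ tx₂
def tik : T := mu ti tk
def tjl : T := mu tj tl
def ta : T := mu tik tjl
def tsz : T := mu ts tz

def anyL (L : List T) (P : T → Bool) : Bool :=
  match L with
  | [] => false
  | t :: L => P t || anyL L P

theorem anyL_spec {P : T → Bool} : ∀ {L : List T}, anyL L P = true → ∃ t, P t = true
  | [], h => by simp [anyL] at h
  | t :: L, h => by
    rw [anyL, Bool.or_eq_true] at h
    rcases h with h | h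
    · exact ⟨t, h⟩
    · exact anyL_spec h

theorem anyL_mem {P : T → Bool} : ∀ {L : List T}, anyL L P = true → ∃ t ∈ L, P t = true
  | [], h => by simp [anyL] at h
  | t :: L, h => by
    rw [anyL, Bool.or_eq_true] at h
    rcases h with h | h
    · exact ⟨t, by simp, h⟩
    · obtain ⟨u, hu, hP⟩ := anyL_mem h
      exact ⟨u, by simp [hu], hP⟩

/-- the candidates for the conjugating elements -/
def cands : List T := [ti, tj, tk, tl, ty, mu ti ty, mu tj ty, mu tk ty, mu tl ty, mu (mu ti tj) ty,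
  mu tx₁ ty, mu tx₂ ty, mu (mu tx₁ tx₁) ty, mu (mu tx₂ tx₂) ty, mu (mu tx₁ tx₂) ty, mu (mu (mu tx₁ tx₁) tx₂) ty,
  mu (mu (mu tx₁ tx₂) tx₂) ty, mu (mu (mu (mu tx₁ tx₁) tx₂) tx₂) ty]

def chk1 : T → Bool := fun t =>
  !(T.beq (mu t t) T.one) || (T.beq t T.one || (T.beq t tz ||
    anyL cands (fun c => T.beq (mu c t) (mu (mu t tz) c))))

theorem fact1 : allT chk1 = true := by decide +kernel

/-- `C_C(s) = ⟨z, s, ik, jl⟩⟨ρ⟩` -/
def K (t : T) : Bool := (t.w.a == t.w.c) && ((t.w.b == t.w.d) && (C3.eqb t.m t.n && !t.e))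

theorem fact2 : allT (fun t => !(T.beq (mu t ts) (mu ts t)) || K t) = true := by decide +kernel

def chk3 : T → Bool := fun t =>
  !(K t) || (!(T.beq (mu t (mu t t)) T.one) || (T.beq t T.one ||
    anyL [T.one, tik, tjl, ta] (fun w => T.beq (mu t w) (mu w tr) || T.beq (mu t w) (mu w (mu tr tr)))))

theorem fact3 : allT chk3 = true := by decide +kernel

def chk4 : T → Bool := fun u =>
  !(K u) || (!(T.beq (mu u u) T.one) || anyL [T.one, tik, tjl, ta] (fun v => T.beq (mu (mu (mu tr u) (mu tr tr)) u) v))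

theorem fact4 : allT chk4 = true := by decide +kernel

def chk5 : T → Bool := fun t =>
  !(K t) || (!(T.beq (mu t tr) (mu tr t)) || (!(T.beq (mu t tik) (mu tik t)) ||
    anyL [T.one, tz, ts, tsz] (fun v => T.beq t v)))

theorem fact5 : allT chk5 = true := by decide +kernel

section main

variable {G : Type*} [Group G] {Q : Subgroup G} {z i j k l x₁ x₂ y s : G}

theorem exists_del [Finite G] (h : Tw Q z i j k l x₁ x₂ y s) (hs : IsConj z s) :
    ∃ d, Del z i j k l x₁ x₂ y s d := by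
  have R := h.rules
  have inj := ev_inj h.toCase9aa R
  set EV : T → G := fun t => t.ev z i j k l x₁ x₂ y s with hEV
  have emul : ∀ t u, EV t * EV u = EV (mu t u) := fun t u => ev_mul R t u
  have e1 : EV T.one = 1 := ev_one
  have ez : EV tz = z := ev_z
  have es : EV ts = s := ev_s
  have er : EV tr = x₁ * x₂ := by rw [tr, ← emul]; simp only [hEV, ev_x₁, ev_x₂]
  have eik : EV tik = i * k := by rw [tik, ← emul]; simp only [hEV, ev_i, ev_k]
  have ejl : EV tjl = j * l := by rw [tjl, ← emul]; simp only [hEV, ev_j, ev_l]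
  have ea : EV ta = i * k * (j * l) := by rw [ta, ← emul, eik, ejl]
  have esz : EV tsz = s * z := by rw [tsz, ← emul, es, ez]
  have ex : ∀ c, c * z = z * c → ∃ t, c = EV t := fun c hc => exists_ev h.toCase9aa R hc
  have zs : z * s = s * z := R.zs.symm
  have zne : z ≠ 1 := h.large.z_ne
  have sne : s ≠ 1 := by
    intro h'
    have : EV ts = EV T.one := by rw [es, e1, h']
    exact absurd (congrArg T.f (inj this)) (by decide)
  have sz : s ≠ z := by
    intro h'
    have : EV ts = EV tz := by rw [es, ez, h']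
    exact absurd (congrArg T.f (inj this)) (by decide)
  have szne : s * z ≠ 1 := by
    intro h'
    apply sz
    rw [mul_eq_one_iff_eq_inv.1 h', inv_eq_of_mul_eq_one_left R.zz]
  have ys : y * s * y⁻¹ = s * z := by
    rw [mul_inv_eq_iff_eq_mul]
    coll R
  have ysz : y * (s * z) * y⁻¹ = s := by
    rw [mul_inv_eq_iff_eq_mul]
    coll R
  have yz : y * z * y⁻¹ = z := by
    rw [mul_inv_eq_iff_eq_mul]
    coll R
  -- Step A: an element centralising `s` and moving `z` to `z s`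
  obtain ⟨g, hg⟩ := isConj_iff.1 hs
  obtain ⟨t, ht⟩ := ex (g⁻¹ * z * g) (by
    have e1 : g⁻¹ * z * g * z = g⁻¹ * (z * s) * g := by rw [← hg]; group
    have e2 : z * (g⁻¹ * z * g) = g⁻¹ * (s * z) * g := by rw [← hg]; group
    rw [e1, e2, zs])
  have ht2 : mu t t = T.one := by
    apply inj
    show EV (mu t t) = EV T.one
    rw [← emul, ← ht, e1]
    calc g⁻¹ * z * g * (g⁻¹ * z * g) = g⁻¹ * (z * z) * g := by group
      _ = 1 := by rw [R.zz]; group
  have ht1 : t ≠ T.one := by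
    rintro rfl
    rw [e1] at ht
    apply zne
    calc z = g * (g⁻¹ * z * g) * g⁻¹ := by group
      _ = 1 := by rw [ht]; group
  have htz : t ≠ tz := by
    rintro rfl
    rw [ez] at ht
    apply sz
    rw [← hg, ← ht]
    calc g * (g⁻¹ * z * g) * g⁻¹ = z := by group
      _ = g⁻¹ * z * g := ht.symm
  have h1 := allT_spec fact1 t
  simp only [chk1, Bool.or_eq_true, Bool.not_eq_true'] at h1
  have h1' : ∃ c, mu c t = mu (mu t tz) c := by
    rcases h1 with h1 | h1 | h1 | h1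
    · rw [← Bool.not_eq_true, T.beq_iff] at h1
      exact absurd ht2 h1
    · exact absurd (T.eq_of_beq h1) ht1
    · exact absurd (T.eq_of_beq h1) htz
    · obtain ⟨c, hc⟩ := anyL_spec h1
      exact ⟨c, T.eq_of_beq hc⟩
  obtain ⟨c, hc⟩ := h1'
  have hc' : EV c * (g⁻¹ * z * g) * (EV c)⁻¹ = g⁻¹ * z * g * z := by
    rw [mul_inv_eq_iff_eq_mul, ht, ← ez, emul, hc, ← emul, ← emul]
  have hcz : EV c * z * (EV c)⁻¹ = z := by
    rw [mul_inv_eq_iff_eq_mul]; exact ev_comm R c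
  set c' := g * EV c * g⁻¹ with hc'def
  have c's : c' * s * c'⁻¹ = s := by
    calc c' * s * c'⁻¹ = g * (EV c * (g⁻¹ * s * g) * (EV c)⁻¹) * g⁻¹ := by rw [hc'def]; group
      _ = g * (EV c * z * (EV c)⁻¹) * g⁻¹ := by
          have : g⁻¹ * s * g = z := by rw [← hg]; group
          rw [this]
      _ = s := by rw [hcz, hg]
  have c'z : c' * z * c'⁻¹ = z * s := by
    calc c' * z * c'⁻¹ = g * (EV c * (g⁻¹ * z * g) * (EV c)⁻¹) * g⁻¹ := by rw [hc'def]; group
      _ = z * (g * z * g⁻¹) := by rw [hc']; group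
      _ = z * s := by rw [hg]
  -- Step B
  obtain ⟨n, nz, ns⟩ : ∃ n : G, n * z * n⁻¹ = s ∧ n * s * n⁻¹ = s * z := by
    refine ⟨y * c', ?_, ?_⟩
    · calc y * c' * z * (y * c')⁻¹ = y * (c' * z * c'⁻¹) * y⁻¹ := by group
        _ = y * (s * z) * y⁻¹ := by rw [c'z, zs]
        _ = s := ysz
    · calc y * c' * s * (y * c')⁻¹ = y * (c' * s * c'⁻¹) * y⁻¹ := by group
        _ = s * z := by rw [c's, ys]
  have nsz : ∀ n : G, n * z * n⁻¹ = s → n * s * n⁻¹ = s * z → n * (s * z) * n⁻¹ = z := by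
    intro n nz ns
    calc n * (s * z) * n⁻¹ = (n * s * n⁻¹) * (n * z * n⁻¹) := by group
      _ = s * (z * s) := by rw [ns, nz]; group
      _ = s * s * z := by rw [zs]; group
      _ = z := by rw [h.sz, one_mul]
  -- the centraliser of `⟨z, s⟩`
  have inK : ∀ u, u * z = z * u → u * s = s * u → ∃ t, u = EV t ∧ K t = true := by
    intro u h1 h2
    obtain ⟨t, rfl⟩ := ex u h1
    refine ⟨t, rfl, ?_⟩
    have h3 : mu t ts = mu ts t := by
      apply inj
      show EV (mu t ts) = EV (mu ts t)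
      rw [← emul, ← emul, es, h2]
    have h4 := allT_spec fact2 t
    simp only [Bool.or_eq_true, Bool.not_eq_true'] at h4
    rcases h4 with h4 | h4
    · rw [← Bool.not_eq_true, T.beq_iff] at h4
      exact absurd h3 h4
    · exact h4
  have ncent : ∀ n : G, n * z * n⁻¹ = s → n * s * n⁻¹ = s * z → ∀ u, u * z = z * u → u * s = s * u →
      (n * u * n⁻¹) * z = z * (n * u * n⁻¹) ∧ (n * u * n⁻¹) * s = s * (n * u * n⁻¹) := by
    intro n nz ns u h1 h2
    constructor
    · have e := nsz n nz ns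
      calc n * u * n⁻¹ * z = n * u * n⁻¹ * (n * (s * z) * n⁻¹) := by rw [e]
        _ = n * (u * s * z) * n⁻¹ := by group
        _ = n * (s * (u * z)) * n⁻¹ := by rw [h2]; group
        _ = n * (s * z) * n⁻¹ * (n * u * n⁻¹) := by rw [h1]; group
        _ = z * (n * u * n⁻¹) := by rw [e]
    · calc n * u * n⁻¹ * s = n * u * n⁻¹ * (n * z * n⁻¹) := by rw [nz]
        _ = n * (u * z) * n⁻¹ := by group
        _ = n * z * n⁻¹ * (n * u * n⁻¹) := by rw [h1]; group
        _ = s * (n * u * n⁻¹) := by rw [nz]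
  have rz : (x₁ * x₂) * z = z * (x₁ * x₂) := by coll R
  have rs : (x₁ * x₂) * s = s * (x₁ * x₂) := by coll R
  have r3 : (x₁ * x₂) * ((x₁ * x₂) * (x₁ * x₂)) = 1 := by coll R
  have rne : x₁ * x₂ ≠ 1 := by
    intro h'
    have : EV tr = EV T.one := by rw [er, e1, h']
    have := congrArg (fun t : T => T.beq t T.one) (inj this)
    exact absurd this (by decide +kernel)
  have wz : ∀ w ∈ [T.one, tik, tjl, ta], EV w * z = z * EV w ∧ EV w * s = s * EV w := by
    intro w hw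
    simp only [List.mem_cons, List.not_mem_nil, or_false] at hw
    rcases hw with rfl | rfl | rfl | rfl
    · rw [e1]; simp
    · rw [eik]; constructor <;> coll R
    · rw [ejl]; constructor <;> coll R
    · rw [ea]; constructor <;> coll R
  -- Step C1: `n` normalises `⟨ρ⟩`
  obtain ⟨n, nz, ns, nr⟩ : ∃ n : G, n * z * n⁻¹ = s ∧ n * s * n⁻¹ = s * z ∧
      (n * (x₁ * x₂) * n⁻¹ = x₁ * x₂ ∨ n * (x₁ * x₂) * n⁻¹ = (x₁ * x₂) * (x₁ * x₂)) := by
    obtain ⟨h2, h3⟩ := ncent n nz ns (x₁ * x₂) rz rs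
    obtain ⟨t, ht, hK⟩ := inK _ h2 h3
    have h4 : mu t (mu t t) = T.one := by
      apply inj
      show EV (mu t (mu t t)) = EV T.one
      rw [← emul, ← emul, ← ht, e1]
      calc n * (x₁ * x₂) * n⁻¹ * (n * (x₁ * x₂) * n⁻¹ * (n * (x₁ * x₂) * n⁻¹))
          = n * ((x₁ * x₂) * ((x₁ * x₂) * (x₁ * x₂))) * n⁻¹ := by group
        _ = 1 := by rw [r3]; group
    have h5 : t ≠ T.one := by
      rintro rfl
      rw [e1] at ht
      apply rne
      calc x₁ * x₂ = n⁻¹ * (n * (x₁ * x₂) * n⁻¹) * n := by group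
        _ = 1 := by rw [ht]; group
    have h6 := allT_spec fact3 t
    simp only [chk3, Bool.or_eq_true, Bool.not_eq_true', hK, Bool.true_eq_false, false_or] at h6
    have h7 : ∃ w ∈ [T.one, tik, tjl, ta], mu t w = mu w tr ∨ mu t w = mu w (mu tr tr) := by
      rcases h6 with h6 | h6 | h6
      · rw [← Bool.not_eq_true, T.beq_iff] at h6
        exact absurd h4 h6
      · exact absurd (T.eq_of_beq h6) h5
      · obtain ⟨w, hw, hP⟩ := anyL_mem h6
        refine ⟨w, hw, ?_⟩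
        rw [Bool.or_eq_true] at hP
        rcases hP with hP | hP
        · exact Or.inl (T.eq_of_beq hP)
        · exact Or.inr (T.eq_of_beq hP)
    obtain ⟨w, hw, hP⟩ := h7
    obtain ⟨wz1, ws1⟩ := wz w hw
    refine ⟨(EV w)⁻¹ * n, ?_, ?_, ?_⟩
    · calc (EV w)⁻¹ * n * z * ((EV w)⁻¹ * n)⁻¹ = (EV w)⁻¹ * (n * z * n⁻¹) * EV w := by group
        _ = (EV w)⁻¹ * (s * EV w) := by rw [nz]; group
        _ = s := by rw [← ws1]; group
    · calc (EV w)⁻¹ * n * s * ((EV w)⁻¹ * n)⁻¹ = (EV w)⁻¹ * (n * s * n⁻¹) * EV w := by group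
        _ = (EV w)⁻¹ * (s * (z * EV w)) := by rw [ns]; group
        _ = (EV w)⁻¹ * (s * EV w) * z := by rw [← wz1]; group
        _ = s * z := by rw [← ws1]; group
    · have e2 : (EV w)⁻¹ * n * (x₁ * x₂) * ((EV w)⁻¹ * n)⁻¹ = (EV w)⁻¹ * (EV t * EV w) := by
        rw [← ht]; group
      rcases hP with hP | hP
      · left
        rw [e2, emul, hP, ← emul, er]; group
      · right
        rw [e2, emul, hP, ← emul, ← emul, er]; group
  -- Step C2: `n` centralises `ρ`
  obtain ⟨n, nz, ns, nr⟩ : ∃ n : G, n * z * n⁻¹ = s ∧ n * s * n⁻¹ = s * z ∧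
      n * (x₁ * x₂) * n⁻¹ = x₁ * x₂ := by
    rcases nr with nr | nr
    · exact ⟨n, nz, ns, nr⟩
    · have e3 := nsz n nz ns
      have n4z : n * (n * (n * (n * z * n⁻¹) * n⁻¹) * n⁻¹) * n⁻¹ = s := by
        rw [nz, ns, e3, nz]
      have n4s : n * (n * (n * (n * s * n⁻¹) * n⁻¹) * n⁻¹) * n⁻¹ = s * z := by
        rw [ns, e3, nz, ns]
      have nrr : n * ((x₁ * x₂) * (x₁ * x₂)) * n⁻¹ = x₁ * x₂ := by
        calc n * ((x₁ * x₂) * (x₁ * x₂)) * n⁻¹ = (n * (x₁ * x₂) * n⁻¹) * (n * (x₁ * x₂) * n⁻¹) := by group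
          _ = (x₁ * x₂) * ((x₁ * x₂) * ((x₁ * x₂) * (x₁ * x₂))) := by rw [nr]; simp only [mul_assoc]
          _ = x₁ * x₂ := by rw [r3, mul_one]
      have n4r : n * (n * (n * (n * (x₁ * x₂) * n⁻¹) * n⁻¹) * n⁻¹) * n⁻¹ = x₁ * x₂ := by
        rw [nr, nrr, nr, nrr]
      refine ⟨n * n * n * n, ?_, ?_, ?_⟩
      · calc n * n * n * n * z * (n * n * n * n)⁻¹
            = n * (n * (n * (n * z * n⁻¹) * n⁻¹) * n⁻¹) * n⁻¹ := by group
          _ = s := n4z
      · calc n * n * n * n * s * (n * n * n * n)⁻¹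
            = n * (n * (n * (n * s * n⁻¹) * n⁻¹) * n⁻¹) * n⁻¹ := by group
          _ = s * z := n4s
      · calc n * n * n * n * (x₁ * x₂) * (n * n * n * n)⁻¹
            = n * (n * (n * (n * (x₁ * x₂) * n⁻¹) * n⁻¹) * n⁻¹) * n⁻¹ := by group
          _ = x₁ * x₂ := n4r
  -- Step C3: `n` centralises `i k`
  have Ri : (x₁ * x₂) * (i * k) * (x₁ * x₂)⁻¹ = j * l := by
    rw [mul_inv_eq_iff_eq_mul]; coll R
  have Rj : (x₁ * x₂) * (j * l) * (x₁ * x₂)⁻¹ = i * k * (j * l) := by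
    rw [mul_inv_eq_iff_eq_mul]; coll R
  have Ra : (x₁ * x₂) * (i * k * (j * l)) * (x₁ * x₂)⁻¹ = i * k := by
    rw [mul_inv_eq_iff_eq_mul]; coll R
  have ikz : (i * k) * z = z * (i * k) := by coll R
  have iks : (i * k) * s = s * (i * k) := by coll R
  have jlz : (j * l) * z = z * (j * l) := by coll R
  have jls : (j * l) * s = s * (j * l) := by coll R
  have jl2 : (j * l) * (j * l) = 1 := by coll R
  have jl1 : (j * l)⁻¹ = j * l := inv_eq_of_mul_eq_one_left jl2
  have ikne : i * k ≠ 1 := by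
    intro h'
    have : EV tik = EV T.one := by rw [eik, e1, h']
    have := congrArg (fun t : T => t.w.a) (inj this)
    exact absurd this (by decide)
  have rinv : (x₁ * x₂)⁻¹ = (x₁ * x₂) * (x₁ * x₂) := by
    rw [inv_eq_iff_mul_eq_one]; exact r3
  obtain ⟨n, nz, ns, nr, nik⟩ : ∃ n : G, n * z * n⁻¹ = s ∧ n * s * n⁻¹ = s * z ∧
      n * (x₁ * x₂) * n⁻¹ = x₁ * x₂ ∧ n * (i * k) * n⁻¹ = i * k := by
    obtain ⟨h2, h3⟩ := ncent n nz ns (j * l) jlz jls
    obtain ⟨u, hu, hK⟩ := inK _ h2 h3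
    have h4 : mu u u = T.one := by
      apply inj
      show EV (mu u u) = EV T.one
      rw [← emul, ← hu, e1]
      calc n * (j * l) * n⁻¹ * (n * (j * l) * n⁻¹) = n * ((j * l) * (j * l)) * n⁻¹ := by group
        _ = 1 := by rw [jl2]; group
    have h5 := allT_spec fact4 u
    simp only [chk4, Bool.or_eq_true, Bool.not_eq_true', hK, Bool.true_eq_false, false_or] at h5
    have h6 : ∃ v ∈ [T.one, tik, tjl, ta], mu (mu (mu tr u) (mu tr tr)) u = v := by
      rcases h5 with h5 | h5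
      · rw [← Bool.not_eq_true, T.beq_iff] at h5
        exact absurd h4 h5
      · obtain ⟨v, hv, hP⟩ := anyL_mem h5
        exact ⟨v, hv, T.eq_of_beq hP⟩
    obtain ⟨v, hv, hv'⟩ := h6
    have e4 : n * (i * k) * n⁻¹ = EV v := by
      have e5 : i * k = (x₁ * x₂) * (j * l) * (x₁ * x₂)⁻¹ * (j * l) := by
        rw [Rj]
        calc i * k = i * k * ((j * l) * (j * l)) := by rw [jl2, mul_one]
          _ = _ := by group
      have nri : n * (x₁ * x₂)⁻¹ * n⁻¹ = (x₁ * x₂)⁻¹ := by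
        calc n * (x₁ * x₂)⁻¹ * n⁻¹ = (n * (x₁ * x₂) * n⁻¹)⁻¹ := by group
          _ = _ := by rw [nr]
      calc n * (i * k) * n⁻¹ = n * ((x₁ * x₂) * (j * l) * (x₁ * x₂)⁻¹ * (j * l)) * n⁻¹ := by rw [← e5]
        _ = (n * (x₁ * x₂) * n⁻¹) * (n * (j * l) * n⁻¹) * (n * (x₁ * x₂)⁻¹ * n⁻¹) * (n * (j * l) * n⁻¹) := by group
        _ = (x₁ * x₂) * EV u * ((x₁ * x₂) * (x₁ * x₂)) * EV u := by rw [nr, nri, hu, rinv]
        _ = EV v := by rw [← er, emul, emul, emul, emul, hv']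
    have e6 : EV v ≠ 1 := by
      intro h'
      rw [h'] at e4
      apply ikne
      calc i * k = n⁻¹ * (n * (i * k) * n⁻¹) * n := by group
        _ = 1 := by rw [e4]; group
    have key : ∀ m : G, m * z = z * m → m * s = s * m → m * (x₁ * x₂) * m⁻¹ = x₁ * x₂ → m * EV v * m⁻¹ = i * k →
        ∃ n : G, n * z * n⁻¹ = s ∧ n * s * n⁻¹ = s * z ∧
      n * (x₁ * x₂) * n⁻¹ = x₁ * x₂ ∧ n * (i * k) * n⁻¹ = i * k := by
      intro m mz ms mr mv
      refine ⟨m * n, ?_, ?_, ?_, ?_⟩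
      · calc m * n * z * (m * n)⁻¹ = m * (n * z * n⁻¹) * m⁻¹ := by group
          _ = m * s * m⁻¹ := by rw [nz]
          _ = s := by rw [ms]; group
      · calc m * n * s * (m * n)⁻¹ = m * (n * s * n⁻¹) * m⁻¹ := by group
          _ = m * s * z * m⁻¹ := by rw [ns]; group
          _ = s * (m * z) * m⁻¹ := by rw [ms]; group
          _ = s * z := by rw [mz]; group
      · calc m * n * (x₁ * x₂) * (m * n)⁻¹ = m * (n * (x₁ * x₂) * n⁻¹) * m⁻¹ := by group
          _ = _ := by rw [nr, mr]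
      · calc m * n * (i * k) * (m * n)⁻¹ = m * (n * (i * k) * n⁻¹) * m⁻¹ := by group
          _ = _ := by rw [e4, mv]
    simp only [List.mem_cons, List.not_mem_nil, or_false] at hv
    rcases hv with rfl | rfl | rfl | rfl
    · exact absurd e1 e6
    · refine key 1 (by simp) (by simp) (by simp) (by rw [eik]; simp)
    · refine key ((x₁ * x₂) * (x₁ * x₂)) ?_ ?_ ?_ ?_
      · coll R
      · coll R
      · group
      · rw [ejl]
        calc (x₁ * x₂) * (x₁ * x₂) * (j * l) * ((x₁ * x₂) * (x₁ * x₂))⁻¹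
            = (x₁ * x₂) * ((x₁ * x₂) * (j * l) * (x₁ * x₂)⁻¹) * (x₁ * x₂)⁻¹ := by group
          _ = i * k := by rw [Rj, Ra]
    · refine key (x₁ * x₂) rz rs (by group) ?_
      rw [ea, Ra]
  have njl : n * (j * l) * n⁻¹ = j * l := by
    have nri : n * (x₁ * x₂)⁻¹ * n⁻¹ = (x₁ * x₂)⁻¹ := by
      calc n * (x₁ * x₂)⁻¹ * n⁻¹ = (n * (x₁ * x₂) * n⁻¹)⁻¹ := by group
        _ = _ := by rw [nr]
    calc n * (j * l) * n⁻¹ = n * ((x₁ * x₂) * (i * k) * (x₁ * x₂)⁻¹) * n⁻¹ := by rw [Ri]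
      _ = (n * (x₁ * x₂) * n⁻¹) * (n * (i * k) * n⁻¹) * (n * (x₁ * x₂)⁻¹ * n⁻¹) := by group
      _ = j * l := by rw [nr, nik, nri, Ri]
  -- elements of `C(z, s, ρ, ik)`
  have inV : ∀ u, u * z = z * u → u * s = s * u → u * (x₁ * x₂) = (x₁ * x₂) * u → u * (i * k) = (i * k) * u →
      u = 1 ∨ u = z ∨ u = s ∨ u = s * z := by
    intro u h1 h2 h3 h4
    obtain ⟨t, rfl, hK⟩ := inK u h1 h2
    have h5 := allT_spec fact5 t
    simp only [chk5, Bool.or_eq_true, Bool.not_eq_true', hK, Bool.true_eq_false, false_or] at h5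
    rcases h5 with h5 | h5 | h5
    · rw [← Bool.not_eq_true, T.beq_iff] at h5
      exact absurd (inj (show EV (mu t tr) = EV (mu tr t) by rw [← emul, ← emul, er, h3])) h5
    · rw [← Bool.not_eq_true, T.beq_iff] at h5
      exact absurd (inj (show EV (mu t tik) = EV (mu tik t) by rw [← emul, ← emul, eik, h4])) h5
    · obtain ⟨v, hv, hP⟩ := anyL_mem h5
      have hP' := T.eq_of_beq hP
      simp only [List.mem_cons, List.not_mem_nil, or_false] at hv
      rcases hv with rfl | rfl | rfl | rfl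
      · left; rw [hP', e1]
      · right; left; rw [hP', ez]
      · right; right; left; rw [hP', es]
      · right; right; right; rw [hP', esz]
  have ac : ∀ {c a b : G}, c * a * c⁻¹ = b → c * a = b * c := by
    intro c a b hab; rw [← hab]; group
  have ca : ∀ {c a b : G}, c * a = b * c → c * a * c⁻¹ = b := by
    intro c a b hab; rw [hab]; group
  -- `n³ = 1`
  have n3 : n * (n * n) = 1 := by
    have e3 := nsz n nz ns
    have c1 : n * (n * n) * z = z * (n * (n * n)) := by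
      apply ac
      calc n * (n * n) * z * (n * (n * n))⁻¹ = n * (n * (n * z * n⁻¹) * n⁻¹) * n⁻¹ := by group
        _ = z := by rw [nz, ns, e3]
    have c2 : n * (n * n) * s = s * (n * (n * n)) := by
      apply ac
      calc n * (n * n) * s * (n * (n * n))⁻¹ = n * (n * (n * s * n⁻¹) * n⁻¹) * n⁻¹ := by group
        _ = s := by rw [ns, e3, nz]
    have c3 : n * (n * n) * (x₁ * x₂) = (x₁ * x₂) * (n * (n * n)) := by
      apply ac
      calc n * (n * n) * (x₁ * x₂) * (n * (n * n))⁻¹ = n * (n * (n * (x₁ * x₂) * n⁻¹) * n⁻¹) * n⁻¹ := by group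
        _ = _ := by rw [nr, nr, nr]
    have c4 : n * (n * n) * (i * k) = (i * k) * (n * (n * n)) := by
      apply ac
      calc n * (n * n) * (i * k) * (n * (n * n))⁻¹ = n * (n * (n * (i * k) * n⁻¹) * n⁻¹) * n⁻¹ := by group
        _ = _ := by rw [nik, nik, nik]
    have c5 : n * (n * (n * n)) * n⁻¹ = n * (n * n) := by group
    rcases inV _ c1 c2 c3 c4 with h1 | h1 | h1 | h1
    · exact h1
    · exfalso; rw [h1, nz] at c5; exact sz c5
    · exfalso; rw [h1, ns] at c5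
      exact zne (mul_eq_left.1 c5)
    · exfalso; rw [h1, e3] at c5
      exact sne (mul_eq_right.1 c5.symm)
  -- Step D
  have ikc := ac nik
  have jlc := ac njl
  have rc := ac nr
  have yr : y⁻¹ * (x₁ * x₂) * y = (x₁ * x₂)⁻¹ := by
    rw [rinv]
    calc y⁻¹ * (x₁ * x₂) * y = y⁻¹ * ((x₁ * x₂) * y) := by group
      _ = y⁻¹ * (y * ((x₁ * x₂) * (x₁ * x₂))) := by
          congr 1; coll R
      _ = _ := by group
  have yik : y⁻¹ * (i * k) * y = j * l := by
    calc y⁻¹ * (i * k) * y = y⁻¹ * ((i * k) * y) := by group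
      _ = y⁻¹ * (y * (j * l)) := by congr 1; coll R
      _ = _ := by group
  have ys' : y⁻¹ * s * y = s * z := by
    calc y⁻¹ * s * y = y⁻¹ * (y * (s * z) * y⁻¹) * y := by rw [ysz]
      _ = _ := by group
  have yz' : y⁻¹ * z * y = z := by
    calc y⁻¹ * z * y = y⁻¹ * (y * z * y⁻¹) * y := by rw [yz]
      _ = _ := by group
  set w := n * (y * n * y⁻¹) with hw
  have hsz3 := nsz n nz ns
  have w1 : w * z = z * w := by
    apply ac
    calc w * z * w⁻¹ = n * (y * (n * (y⁻¹ * z * y) * n⁻¹) * y⁻¹) * n⁻¹ := by rw [hw]; group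
      _ = z := by rw [yz', nz, ys, hsz3]
  have w2 : w * s = s * w := by
    apply ac
    calc w * s * w⁻¹ = n * (y * (n * (y⁻¹ * s * y) * n⁻¹) * y⁻¹) * n⁻¹ := by rw [hw]; group
      _ = s := by rw [ys', hsz3, yz, nz]
  have w3 : w * (x₁ * x₂) = (x₁ * x₂) * w := by
    apply ac
    have e : n * (x₁ * x₂)⁻¹ * n⁻¹ = (x₁ * x₂)⁻¹ := by
      calc n * (x₁ * x₂)⁻¹ * n⁻¹ = (n * (x₁ * x₂) * n⁻¹)⁻¹ := by group
        _ = _ := by rw [nr]
    calc w * (x₁ * x₂) * w⁻¹ = n * (y * (n * (y⁻¹ * (x₁ * x₂) * y) * n⁻¹) * y⁻¹) * n⁻¹ := by rw [hw]; group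
      _ = n * (y * (y⁻¹ * (x₁ * x₂) * y) * y⁻¹) * n⁻¹ := by rw [yr, e]
      _ = n * (x₁ * x₂) * n⁻¹ := by group
      _ = _ := nr
  have w4 : w * (i * k) = (i * k) * w := by
    apply ac
    calc w * (i * k) * w⁻¹ = n * (y * (n * (y⁻¹ * (i * k) * y) * n⁻¹) * y⁻¹) * n⁻¹ := by rw [hw]; group
      _ = n * (y * (y⁻¹ * (i * k) * y) * y⁻¹) * n⁻¹ := by rw [yik, njl]
      _ = n * (i * k) * n⁻¹ := by group
      _ = _ := nik
  have hyn : ∀ v, w = v → y * n * y⁻¹ = n⁻¹ * v := by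
    rintro v rfl
    rw [hw]; group
  -- the square of `y`
  have hyy : y * (y * n * y⁻¹) * y⁻¹ = z * n * z⁻¹ := by
    calc y * (y * n * y⁻¹) * y⁻¹ = (y * y) * n * (y * y)⁻¹ := by group
      _ = _ := by rw [h.yz]
  have zinv : z⁻¹ = z := inv_eq_of_mul_eq_one_left R.zz
  have sinv : s⁻¹ = s := inv_eq_of_mul_eq_one_left h.sz
  have hn3 : n ^ 3 = 1 := by rw [pow_succ, pow_two, mul_assoc]; exact n3
  rcases inV w w1 w2 w3 w4 with hv | hv | hv | hv
  · exfalso
    have e := hyn _ hv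
    rw [mul_one] at e
    have e2 : y * n⁻¹ * y⁻¹ = n := by
      calc y * n⁻¹ * y⁻¹ = (y * n * y⁻¹)⁻¹ := by group
        _ = n := by rw [e, inv_inv]
    rw [e, e2] at hyy
    apply sz
    calc s = n * z * n⁻¹ := nz.symm
      _ = (z * n * z⁻¹) * z * n⁻¹ := by rw [← hyy]
      _ = z := by group
  · have e := hyn _ hv
    exact ⟨n, hn3, nz, ns, ikc, jlc, rc, e⟩
  · -- conjugate by `s`
    have e := hyn _ hv
    refine ⟨s * n * s⁻¹, ?_, ?_, ?_, ?_, ?_, ?_, ?_⟩
    · rw [conj_pow, hn3]; group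
    · calc s * n * s⁻¹ * z * (s * n * s⁻¹)⁻¹ = s * n * (s⁻¹ * (z * s)) * n⁻¹ * s⁻¹ := by group
        _ = s * n * (s⁻¹ * (s * z)) * n⁻¹ * s⁻¹ := by rw [zs]
        _ = s * (n * z * n⁻¹) * s⁻¹ := by group
        _ = s := by rw [nz]; group
    · calc s * n * s⁻¹ * s * (s * n * s⁻¹)⁻¹ = s * (n * s * n⁻¹) * s⁻¹ := by group
        _ = s * (s * z) * s⁻¹ := by rw [ns]
        _ = s * (z * s) * s⁻¹ := by rw [zs]
        _ = s * z := by group
    · calc s * n * s⁻¹ * (i * k) = s * n * (s⁻¹ * ((i * k) * s)) * s⁻¹ := by group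
        _ = s * n * (s⁻¹ * (s * (i * k))) * s⁻¹ := by rw [iks]
        _ = s * (n * (i * k)) * s⁻¹ := by group
        _ = (s * (i * k)) * n * s⁻¹ := by rw [ikc]; group
        _ = (i * k) * (s * n * s⁻¹) := by rw [← iks]; group
    · calc s * n * s⁻¹ * (j * l) = s * n * (s⁻¹ * ((j * l) * s)) * s⁻¹ := by group
        _ = s * n * (s⁻¹ * (s * (j * l))) * s⁻¹ := by rw [jls]
        _ = s * (n * (j * l)) * s⁻¹ := by group
        _ = (s * (j * l)) * n * s⁻¹ := by rw [jlc]; group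
        _ = (j * l) * (s * n * s⁻¹) := by rw [← jls]; group
    · calc s * n * s⁻¹ * (x₁ * x₂) = s * n * (s⁻¹ * ((x₁ * x₂) * s)) * s⁻¹ := by group
        _ = s * n * (s⁻¹ * (s * (x₁ * x₂))) * s⁻¹ := by rw [rs]
        _ = s * (n * (x₁ * x₂)) * s⁻¹ := by group
        _ = (s * (x₁ * x₂)) * n * s⁻¹ := by rw [rc]; group
        _ = (x₁ * x₂) * (s * n * s⁻¹) := by rw [← rs]; group
    · -- `y (s n s) y⁻¹ = s z n⁻¹ s s z`
      have e5 : z * n⁻¹ = n⁻¹ * s := by
        rw [← nz]; group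
      calc y * (s * n * s⁻¹) * y⁻¹ = (y * s * y⁻¹) * (y * n * y⁻¹) * (y * s * y⁻¹)⁻¹ := by group
        _ = (s * z) * (n⁻¹ * s) * (s * z)⁻¹ := by rw [ys, e]
        _ = s * (z * n⁻¹) * s * z⁻¹ * s⁻¹ := by group
        _ = s * n⁻¹ * (s * s) * z⁻¹ * s⁻¹ := by rw [e5]; group
        _ = s * n⁻¹ * (z * s) := by rw [h.sz, zinv, sinv]; group
        _ = (s * n⁻¹ * s) * z := by rw [zs]; group
        _ = (s * n * s⁻¹)⁻¹ * z := by rw [mul_inv_rev, mul_inv_rev, inv_inv, sinv, ← mul_assoc]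
  · exfalso
    have e := hyn _ hv
    have e2 : y * (n⁻¹ * (s * z)) * y⁻¹ = (s * z)⁻¹ * n * s := by
      calc y * (n⁻¹ * (s * z)) * y⁻¹ = (y * n * y⁻¹)⁻¹ * (y * (s * z) * y⁻¹) := by group
        _ = (s * z)⁻¹ * n * s := by rw [e, ysz]; group
    rw [e, e2] at hyy
    -- `(s z)⁻¹ n s = z n z⁻¹`
    have e3 : (s * z)⁻¹ = z * s := by rw [mul_inv_rev, zinv, sinv]
    rw [e3, zinv] at hyy
    have e4 : s * n * s = n * z := by
      have : z * (s * n * s) = z * (n * z) := by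
        calc z * (s * n * s) = z * s * n * s := by group
          _ = z * n * z := hyy
          _ = _ := by group
      exact mul_left_cancel this
    have e5 : n * z = s * n := ac nz
    rw [e5] at e4
    exact sne (mul_eq_left.1 e4)

end main

end Cfsg.Agent.LargeExtra.W2.U43.ExistsD
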