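import Cfsg.Agent.LargeExtra.W2.U43.Defs
import Cfsg.Agent.LargeExtra.TwoCentral

/-!
# S1759, `C / Q = S₃ × S₃`, case II: the fusion of `U₄(3)` (helper123): finite checks

`a = i j k l`, `V = ⟨z, a⟩`, `C_G(V)` has order `64`, every element is `v (i k)^α (j k)^β y^γ s^δ` with `v ∈ V`.
For `θ : z → a → a z → z` the images of `i k`, `j k`, `y`, `s` are restricted by the squaring map and the commutators.
-/

set_option autoImplicit false

namespace Cfsg.Agent.LargeExtra.W2.U43.FusBase

open Cfsg.Agent.Co2Type.Quad Cfsg.Agent.LargeExtra.W2.CM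

/-! ### quantifiers -/

def imp (a b : Bool) : Bool := !a || b

theorem imp_spec {a b : Bool} (h : imp a b = true) (ha : a = true) : b = true := by
  subst ha; simpa [imp] using h

def anyB (p : Bool → Bool) : Bool := p false || p true

def any3 (p : C3 → Bool) : Bool := p C3.o || (p C3.p || p C3.q)

theorem anyB_spec {p : Bool → Bool} (h : anyB p = true) : ∃ a, p a = true := by
  simp only [anyB, Bool.or_eq_true] at h
  rcases h with h | h
  · exact ⟨_, h⟩
  · exact ⟨_, h⟩

theorem any3_spec {p : C3 → Bool} (h : any3 p = true) : ∃ a, p a = true := by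
  simp only [any3, Bool.or_eq_true] at h
  rcases h with h | h | h
  · exact ⟨_, h⟩
  · exact ⟨_, h⟩
  · exact ⟨_, h⟩

/-! ### elements -/

/-- `a = i j k l` -/
def ta : T := ⟨⟨false, true, true, true, true⟩, C3.o, C3.o, false, false⟩
/-- `i k` -/
def tik : T := ⟨⟨false, true, false, true, false⟩, C3.o, C3.o, false, false⟩

/-- `z^c a^d` -/
def va (c d : Bool) : T := ⟨⟨c, d, d, d, d⟩, C3.o, C3.o, false, false⟩

abbrev P := Bool × Bool × Bool × Bool

/-- `(i k)^α (j k)^β y^γ s^δ` up to `z` -/
def rp (p : P) : T := ⟨⟨false, p.1, p.2.1, xor p.1 p.2.1, false⟩, C3.o, C3.o, p.2.2.1, p.2.2.2⟩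

def cm (al be ga : Bool) (t u : T) : Bool := T.beq (T.mul al be ga t u) (T.mul al be ga u t)

def sq1 (al be ga : Bool) (t : T) : Bool := T.beq (T.mul al be ga t t) T.one

/-- `w t = u w` -/
def cjw (al be ga : Bool) (t u w : T) : Bool := T.beq (T.mul al be ga w t) (T.mul al be ga u w)

/-- squares -/
def qz (al be ga : Bool) (p : P) : Bool :=
  xor (al && p.2.2.1) (xor (be && p.2.2.2) (xor (p.1 && p.2.1) (xor (p.2.1 && p.2.2.1)
    (xor (p.2.1 && p.2.2.2) (ga && (p.2.2.1 && p.2.2.2))))))

def qa (p : P) : Bool :=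
  xor (p.1 && p.2.2.1) (xor (p.2.1 && p.2.2.1) (p.2.1 && p.2.2.2))

/-- commutators -/
def bz (ga : Bool) (p q : P) : Bool :=
  xor (xor (p.1 && q.2.1) (q.1 && p.2.1)) (xor (xor (p.2.1 && q.2.2.1) (q.2.1 && p.2.2.1))
    (xor (xor (p.2.1 && q.2.2.2) (q.2.1 && p.2.2.2)) (ga && (xor (p.2.2.1 && q.2.2.2) (q.2.2.1 && p.2.2.2)))))

def ba (p q : P) : Bool :=
  xor (xor (p.1 && q.2.2.1) (q.1 && p.2.2.1)) (xor (xor (p.2.1 && q.2.2.1) (q.2.1 && p.2.2.1))
    (xor (p.2.1 && q.2.2.2) (q.2.1 && p.2.2.2)))

def allP (f : P → Bool) : Bool := allB fun a => allB fun b => allB fun c => allB fun d => f (a, b, c, d)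

theorem allP_spec {f : P → Bool} (h : allP f = true) : ∀ p, f p = true := by
  rintro ⟨a, b, c, d⟩
  exact allB_spec (allB_spec (allB_spec (allB_spec h a) b) c) d

/-! ### checks -/

def chk1 (al be ga : Bool) (t : T) : Bool :=
  imp (cm al be ga t ta)
    (t.beq (T.mul al be ga (va false t.w.d) (rp (xor t.w.a t.w.d, xor t.w.b t.w.d, t.e, t.f)))
    || t.beq (T.mul al be ga (va true t.w.d) (rp (xor t.w.a t.w.d, xor t.w.b t.w.d, t.e, t.f))))

theorem chk1_all : allB (fun al => allB fun be => allB fun ga => allT (chk1 al be ga)) = true := by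
  decide +kernel

theorem chk_sq : allB (fun al => allB fun be => allB fun ga => allB fun c => allB fun d => allP fun p =>
    T.beq (T.mul al be ga (T.mul al be ga (va c d) (rp p)) (T.mul al be ga (va c d) (rp p)))
      (va (qz al be ga p) (qa p))) = true := by
  decide +kernel

theorem chk_comm : allB (fun al => allB fun be => allB fun ga => allP fun p => allP fun q =>
    T.beq (T.mul al be ga (rp p) (rp q)) (T.mul al be ga (va (bz ga p q) (ba p q))
      (T.mul al be ga (rp q) (rp p)))) = true := by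
  decide +kernel

theorem chk_va : allB (fun al => allB fun be => allB fun ga => allB fun c => allB fun d =>
    allP (fun p => cm al be ga (va c d) (rp p)) && allB fun c' => allB fun d' =>
      cm al be ga (va c d) (va c' d')) = true := by
  decide +kernel

/-! ### the images of `i k`, `j k`, `y`, `s` -/

def e1 : P := (true, false, false, false)
def e2 : P := (false, true, false, false)
def e3 : P := (false, false, true, false)
def e4 : P := (false, false, false, true)

def peq (p q : P) : Bool := (p.1 == q.1) && ((p.2.1 == q.2.1) && ((p.2.2.1 == q.2.2.1) && (p.2.2.2 == q.2.2.2)))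

theorem peq_spec {p q : P} (h : peq p q = true) : p = q := by
  obtain ⟨a, b, c, d⟩ := p
  obtain ⟨a', b', c', d'⟩ := q
  simp only [peq, Bool.and_eq_true, beq_iff_eq] at h
  obtain ⟨rfl, rfl, rfl, rfl⟩ := h
  rfl

/-- `q (p') = θ (q p)` -/
def sqok (al be ga : Bool) (p p' : P) : Bool :=
  (qz al be ga p' == qa p) && (qa p' == xor (qz al be ga p) (qa p))

/-- `b (p', q') = θ (b (p, q))` -/
def bok (ga : Bool) (p q p' q' : P) : Bool :=
  (bz ga p' q' == ba p q) && (ba p' q' == xor (bz ga p q) (ba p q))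

/-- the three cases -/
def concl (al be ga : Bool) (p1 p2 : P) : Bool :=
  (al && (!be && (ga && ((peq p1 (false, false, false, true) && peq p2 (false, true, true, true)) ||
    (peq p2 (false, false, false, true) && peq p1 (false, true, true, true)))))) ||
  ((!be && (ga && ((peq p1 e1 || peq p2 e1) && (al || (peq p1 e3 || peq p2 e3))))) ||
  (xor al be && (ga && ((peq p1 e2 || peq p2 e2) &&
    (al || (peq p1 (true, true, true, false) || peq p2 (true, true, true, false)))))))

theorem chk_main : allB (fun al => allB fun be => allB fun ga => allP fun p1 =>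
    imp (sqok al be ga e1 p1) (allP fun p2 =>
    imp (sqok al be ga e2 p2 && bok ga e1 e2 p1 p2) (allP fun p3 =>
    imp (sqok al be ga e3 p3 && (bok ga e1 e3 p1 p3 && bok ga e2 e3 p2 p3)) (allP fun p4 =>
    imp (sqok al be ga e4 p4 && (bok ga e1 e4 p1 p4 && (bok ga e2 e4 p2 p4 && bok ga e3 e4 p3 p4)))
      (concl al be ga p1 p2))))) = true := by
  decide +kernel

end Cfsg.Agent.LargeExtra.W2.U43.FusBase
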