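import Cfsg.Agent.LargeExtra.W2.U43.FusBase

/-!
# S1759, `C / Q = S₃ × S₃`, case II: the fusion of `U₄(3)` (helper123): finite checks, second part
-/

set_option autoImplicit false

namespace Cfsg.Agent.LargeExtra.W2.U43.FusChk

open Cfsg.Agent.Co2Type.Quad Cfsg.Agent.LargeExtra.W2.CM Cfsg.Agent.LargeExtra.W2.U43.FusBase

/-- `z^c a^d (i k)^e s^f` -/
def dE (c d e f : Bool) : T :=
  ⟨(Qt.mul ⟨c, d, d, d, d⟩ ⟨false, e, false, e, false⟩), C3.o, C3.o, false, f⟩

/-- `i^a x₁^m x₂^n` -/
def any18 (p : T → Bool) : Bool := anyB fun a => any3 fun m => any3 fun n =>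
  p ⟨⟨false, a, false, false, false⟩, m, n, false, false⟩

/-- `x₁^m x₂^n i^a j^b k^c` -/
def any72 (p : T → Bool) : Bool := anyB fun a => anyB fun b => anyB fun c => any3 fun m => any3 fun n =>
  p ⟨Qt.X1 m (Qt.X2 n ⟨false, a, b, c, false⟩), m, n, false, false⟩

/-- `q y^e` -/
def any32 (p : T → Bool) : Bool := anyB fun a => anyB fun b => anyB fun c => anyB fun d => anyB fun e =>
  p ⟨⟨false, a, b, c, d⟩, C3.o, C3.o, e, false⟩

/-- `q (x₁ x₂)^m y^e` -/
def allN (p : T → Bool) : Bool := allB fun s => allB fun a => allB fun b => allB fun c => allB fun d =>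
  all3 fun m => allB fun e => p ⟨⟨s, a, b, c, d⟩, m, m, e, false⟩

/-- `i^a j^b (x₁ x₂)^m` -/
def any12 (p : T → Bool) : Bool := anyB fun a => anyB fun b => any3 fun m =>
  p ⟨⟨false, a, b, false, false⟩, m, m, false, false⟩

theorem any18_spec {p : T → Bool} (h : any18 p = true) : ∃ w, p w = true := by
  obtain ⟨a, h⟩ := anyB_spec h
  obtain ⟨m, h⟩ := any3_spec h
  obtain ⟨n, h⟩ := any3_spec h
  exact ⟨_, h⟩

theorem any72_spec {p : T → Bool} (h : any72 p = true) : ∃ w, p w = true := by
  obtain ⟨a, h⟩ := anyB_spec h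
  obtain ⟨b, h⟩ := anyB_spec h
  obtain ⟨c, h⟩ := anyB_spec h
  obtain ⟨m, h⟩ := any3_spec h
  obtain ⟨n, h⟩ := any3_spec h
  exact ⟨_, h⟩

theorem any32_spec {p : T → Bool} (h : any32 p = true) : ∃ w : T, w.m = C3.o ∧ w.n = C3.o ∧ w.f = false ∧
    p w = true := by
  obtain ⟨a, h⟩ := anyB_spec h
  obtain ⟨b, h⟩ := anyB_spec h
  obtain ⟨c, h⟩ := anyB_spec h
  obtain ⟨d, h⟩ := anyB_spec h
  obtain ⟨e, h⟩ := anyB_spec h
  exact ⟨_, rfl, rfl, rfl, h⟩

theorem any12_spec {p : T → Bool} (h : any12 p = true) : ∃ w : T, w.m = w.n ∧ w.f = false ∧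
    p w = true := by
  obtain ⟨a, h⟩ := anyB_spec h
  obtain ⟨b, h⟩ := anyB_spec h
  obtain ⟨m, h⟩ := any3_spec h
  exact ⟨_, rfl, rfl, h⟩

theorem allN_spec {p : T → Bool} (h : allN p = true) (w : T) (h1 : w.m = w.n) (h2 : w.f = false) :
    p w = true := by
  obtain ⟨⟨s, a, b, c, d⟩, m, n, e, f⟩ := w
  obtain rfl : m = n := h1
  obtain rfl : f = false := h2
  exact allB_spec (all3_spec (allB_spec (allB_spec (allB_spec (allB_spec (allB_spec h s) a) b) c) d) m) e

def tzm (t : T) : T := ⟨⟨!t.w.s, t.w.a, t.w.b, t.w.c, t.w.d⟩, t.m, t.n, t.e, t.f⟩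

/-- `z t = tzm t` -/
theorem mul_tz (al be ga : Bool) (t : T) : T.mul al be ga tz t = tzm t := by
  obtain ⟨⟨s, a, b, c, d⟩, m, n, e, f⟩ := t
  cases m <;> cases n <;> simp [T.mul, tz, tzm, Qt.S, Qt.Y, Qt.X1, Qt.X2, Qt.mul, Qt.sg, C3.add, ng]

/-- candidates conjugating an involution `t ≠ z` to `z t` -/
def cand (p : T → Bool) : Bool :=
  p ⟨⟨false, true, true, false, false⟩, C3.o, C3.o, false, false⟩ ||
  (p ⟨⟨false, false, true, false, false⟩, C3.o, C3.o, false, false⟩ ||
  (p ⟨⟨true, true, false, false, false⟩, C3.o, C3.o, false, false⟩ ||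
  (p ⟨⟨true, false, false, false, false⟩, C3.q, C3.q, true, true⟩ ||
  (p ⟨⟨false, true, true, false, true⟩, C3.q, C3.q, true, true⟩ ||
  (p ⟨⟨false, false, true, true, true⟩, C3.o, C3.p, true, false⟩ ||
  (p ⟨⟨false, true, false, false, true⟩, C3.q, C3.p, false, true⟩ ||
  (p ⟨⟨true, false, false, true, true⟩, C3.o, C3.o, false, false⟩ ||
  (p ⟨⟨false, true, true, true, false⟩, C3.q, C3.p, false, true⟩ ||
  (p ⟨⟨true, true, false, true, true⟩, C3.o, C3.p, true, false⟩ ||
  (p ⟨⟨true, false, true, true, true⟩, C3.q, C3.q, true, true⟩ ||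
  p ⟨⟨true, false, false, false, true⟩, C3.o, C3.o, false, false⟩))))))))))

theorem cand_spec {p : T → Bool} (h : cand p = true) : ∃ w, p w = true := by
  simp only [cand, Bool.or_eq_true] at h
  rcases h with h | h | h | h | h | h | h | h | h | h | h | h <;> exact ⟨_, h⟩

def chk_k1 (al : Bool) (t : T) : Bool :=
  imp (sq1 al false true t) (t.beq T.one || (t.beq tz || cand (fun w => cjw al false true t (tzm t) w)))

theorem k1 : allB (fun al => allT (chk_k1 al)) = true := by decide +kernel

def chk_k2 (al : Bool) (t : T) : Bool :=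
  imp (!t.f) (imp (sq1 al false true t) (t.beq T.one || (t.beq tz ||
    bif t.e then (!al && any72 (fun w => cjw al false true ty t w))
    else any18 (fun w => cjw al false true t ta w))))

theorem k2 : allB (fun al => allT (chk_k2 al)) = true := by decide +kernel

def chk_k3 (al : Bool) (t : T) : Bool :=
  imp (cm al false true t ta) (imp (cm al false true t tik)
    (t.beq (dE false t.w.d (xor t.w.a t.w.d) t.f) || t.beq (dE true t.w.d (xor t.w.a t.w.d) t.f)))

theorem k3 : allB (fun al => allT (chk_k3 al)) = true := by decide +kernel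

def chk_k6 (al : Bool) (t : T) : Bool :=
  imp (cm al false true t ts) (imp (sq1 al false true t)
    (t.beq (dE false t.w.d (xor t.w.a t.w.d) t.f) || t.beq (dE true t.w.d (xor t.w.a t.w.d) t.f)))

theorem k6 : allB (fun al => allT (chk_k6 al)) = true := by decide +kernel

theorem k11 : allB (fun al => allB fun c => allB fun d => allB fun e => allB fun f =>
    allB fun c' => allB fun d' => allB fun e' => allB fun f' =>
    T.beq (T.mul al false true (dE c d e f) (dE c' d' e' f'))
      (dE (xor c c') (xor d d') (xor e e') (xor f f'))) = true := by decide +kernel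

theorem kinj : allB (fun c => allB fun d => allB fun e => allB fun f =>
    allB fun c' => allB fun d' => allB fun e' => allB fun f' =>
    imp (T.beq (dE c d e f) (dE c' d' e' f'))
      ((c == c') && ((d == d') && ((e == e') && (f == f'))))) = true := by decide +kernel

theorem k8 : allB (fun al => allB fun c => allB fun d => allB fun e =>
    any32 (fun w => cjw al false true ts (dE c d e true) w)) = true := by decide +kernel

theorem k9 : allB (fun al => allB fun c => allB fun d => allB fun e =>
    imp (d || e) (any12 (fun w => cjw al false true ta (dE c d e false) w))) = true := by decide +kernel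

theorem k10 : allB (fun al => allN (fun w => (anyB fun c => anyB fun d => anyB fun e =>
    cjw al false true ta (dE c d e false) w) && (anyB fun c => anyB fun d => anyB fun e =>
    cjw al false true tik (dE c d e false) w))) = true := by decide +kernel

theorem k12a : allB (fun c => allB fun d =>
    any72 (fun w => cjw false false true ty (T.mul false false true (va c d) (rp e3)) w)) = true := by
  decide +kernel

theorem k12b : allB (fun c => allB fun d =>
    any72 (fun w => cjw false true true ty (T.mul false true true (va c d) (rp (true, true, true, false))) w)) =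
      true := by
  decide +kernel

theorem k13a : allB (fun c => allB fun d =>
    any32 (fun w => cjw true false true ts (T.mul true false true (va c d) (rp e4)) w)) = true := by
  decide +kernel

theorem k13b : allB (fun c => allB fun d =>
    any32 (fun w => cjw true false true (T.mul true false true ty ts)
      (T.mul true false true (va c d) (rp (false, true, true, true))) w)) = true := by
  decide +kernel

theorem k14 : allB (fun al => allB fun be => allB fun ga =>
    any18 (fun w => cjw al be ga (rp e1) ta w) && any18 (fun w => cjw al be ga (rp e2) ta w)) = true := by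
  decide +kernel

/-- an element of `Q` -/
def tq (w : Qt) : T := ⟨w, C3.o, C3.o, false, false⟩

theorem k15 : allB (fun al => allB fun be => allB fun ga => allB fun s => allB fun a => allB fun b => allB fun c =>
    allB fun d => imp (sq1 al be ga (tq ⟨s, a, b, c, d⟩)) ((tq ⟨s, a, b, c, d⟩).beq T.one ||
      ((tq ⟨s, a, b, c, d⟩).beq tz || any18 (fun w => cjw al be ga (tq ⟨s, a, b, c, d⟩) ta w)))) = true := by
  decide +kernel

end Cfsg.Agent.LargeExtra.W2.U43.FusChk
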