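import Cfsg.Agent.LargeExtra.W2.U43.FusTri
import Cfsg.Agent.LargeExtra.W2.U43.FusChk
import Cfsg.Agent.TwoFusion.IndexTwo

/-!
# S1759, `C / Q = S₃ × S₃`, case II: the fusion of `U₄(3)` (helper123): the case `|Q ∩ Q^g| = 8` is impossible

`D = ⟨z, a, i k⟩`, `E = C_G(D) = D ⟨s⟩`; `N_G(D)` is transitive on `D#`; if `s ~ z` then `N_G(E)` is transitive on
`E#`, so `|N_G(E)| = 15 |N_C(E)|`, a contradiction to `7 ∣ |N_G(D)|`; so `s ≁ z`, but all involutions of
`Q⟨x₁, x₂, y⟩` are conjugate to `z`: a contradiction to Thompson's transfer lemma.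
-/

set_option autoImplicit false

namespace Cfsg.Agent.LargeExtra.W2.U43.FusKill

open Cfsg.Agent.Co2Type.Quad Cfsg.Agent.LargeExtra.W2.CM Cfsg.Agent.LargeExtra.W2.U43.FusBase
  Cfsg.Agent.LargeExtra.W2.U43.FusTri Cfsg.Agent.LargeExtra.W2.U43.FusChk

/-! ### counting -/

/-- `|N| = |{g z g⁻¹ : g ∈ N}| |C_N(z)|` -/
theorem card_eq {G : Type*} [Group G] [Finite G] (N : Subgroup G) (z : G) :
    ∃ m : ℕ, m ∣ Nat.card (Subgroup.centralizer ({z} : Set G)) ∧
      Nat.card N = Set.ncard {x : G | ∃ g ∈ N, g * z * g⁻¹ = x} * m := by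
  set H : Subgroup N := (Subgroup.centralizer ({z} : Set G)).comap N.subtype with hH
  refine ⟨Nat.card H, Subgroup.card_comap_dvd_of_injective _ _ N.subtype_injective, ?_⟩
  rw [Subgroup.card_eq_card_quotient_mul_card_subgroup H]
  congr 1
  let f : N ⧸ H → G := Quotient.lift (fun g : N => (g : G) * z * (g : G)⁻¹) (by
    intro a b hab
    have h1 : a⁻¹ * b ∈ H := QuotientGroup.leftRel_apply.1 hab
    have h2 : (a : G)⁻¹ * b * z = z * ((a : G)⁻¹ * b) :=
      Subgroup.mem_centralizer_singleton_iff.1 (Subgroup.mem_comap.1 h1)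
    show (a : G) * z * (a : G)⁻¹ = b * z * (b : G)⁻¹
    calc (a : G) * z * (a : G)⁻¹ = a * (z * ((a : G)⁻¹ * b)) * (b : G)⁻¹ := by group
      _ = a * ((a : G)⁻¹ * b * z) * (b : G)⁻¹ := by rw [h2]
      _ = _ := by group)
  have hf : Function.Injective f := by
    intro a b
    induction a using QuotientGroup.induction_on with | _ a =>
    induction b using QuotientGroup.induction_on with | _ b =>
    intro hab
    have h1 : (a : G) * z * (a : G)⁻¹ = b * z * (b : G)⁻¹ := hab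
    apply QuotientGroup.eq.2
    rw [hH, Subgroup.mem_comap]
    apply Subgroup.mem_centralizer_singleton_iff.2
    show (a : G)⁻¹ * b * z = z * ((a : G)⁻¹ * b)
    calc (a : G)⁻¹ * b * z = (a : G)⁻¹ * (b * z * (b : G)⁻¹) * b := by group
      _ = _ := by rw [← h1]; group
  have hr : {x : G | ∃ g ∈ N, g * z * g⁻¹ = x} = Set.range f := by
    ext x
    constructor
    · rintro ⟨g, hg, rfl⟩
      exact ⟨((⟨g, hg⟩ : N) : N ⧸ H), rfl⟩
    · rintro ⟨q, rfl⟩
      induction q using QuotientGroup.induction_on with | _ a =>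
      exact ⟨a, a.2, rfl⟩
  rw [hr, ← Nat.card_coe_set_eq, Nat.card_range_of_injective hf]

/-- a finite group: `g H g⁻¹ ⊆ H` suffices -/
theorem mem_norm {G : Type*} [Group G] [Finite G] (H : Subgroup G) {g : G} (hg : ∀ x ∈ H, g * x * g⁻¹ ∈ H) :
    g ∈ Subgroup.normalizer (H : Set G) :=
  Subgroup.mem_normalizer_fintype hg

variable {G : Type*} [Group G] [Finite G] {Q : Subgroup G} {al : Bool} {z i j k l x₁ x₂ y s : G}

local notation "𝔼" => T.ev z i j k l x₁ x₂ y s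

section groups

variable (R : Rules al false true z i j k l x₁ x₂ y s)

omit [Finite G] in
include R in
theorem dmul (c d e f c' d' e' f' : Bool) :
    𝔼 (dE c d e f) * 𝔼 (dE c' d' e' f') = 𝔼 (dE (xor c c') (xor d d') (xor e e') (xor f f')) := by
  have h1 := allB_spec (allB_spec (allB_spec (allB_spec (allB_spec (allB_spec (allB_spec (allB_spec
    (allB_spec k11 al) c) d) e) f) c') d') e') f'
  rw [mulE R, T.eq_of_beq h1]

omit [Finite G] in
theorem d_one : 𝔼 (dE false false false false) = 1 := by simp [T.ev, Qt.ev, pw, pw3, dE, Qt.mul]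

omit [Finite G] in
theorem d_z : 𝔼 (dE true false false false) = z := by simp [T.ev, Qt.ev, pw, pw3, dE, Qt.mul]

omit [Finite G] in
theorem d_a : 𝔼 (dE false true false false) = 𝔼 ta := by simp [T.ev, Qt.ev, pw, pw3, dE, Qt.mul, ta]

omit [Finite G] in
theorem d_ik : 𝔼 (dE false false true false) = 𝔼 tik := by simp [T.ev, Qt.ev, pw, pw3, dE, Qt.mul, tik]

omit [Finite G] in
theorem d_s : 𝔼 (dE false false false true) = s := by simp [T.ev, Qt.ev, pw, pw3, dE, Qt.mul]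

omit [Finite G] in
include R in
theorem dsq (c d e f : Bool) : 𝔼 (dE c d e f) * 𝔼 (dE c d e f) = 1 := by
  rw [dmul R]; simp only [Bool.xor_self]; exact d_one

omit [Finite G] in
include R in
theorem dinv (c d e f : Bool) : (𝔼 (dE c d e f))⁻¹ = 𝔼 (dE c d e f) :=
  inv_eq_of_mul_eq_one_left (dsq R c d e f)

omit [Finite G] in
include R in
theorem dcomm (c d e f c' d' e' f' : Bool) :
    𝔼 (dE c d e f) * 𝔼 (dE c' d' e' f') = 𝔼 (dE c' d' e' f') * 𝔼 (dE c d e f) := by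
  rw [dmul R, dmul R]
  congr 2 <;> exact Bool.xor_comm _ _

/-- `E = ⟨z, a, i k, s⟩` -/
def EE : Subgroup G where
  carrier := {x | ∃ c d e f, x = 𝔼 (dE c d e f)}
  one_mem' := ⟨false, false, false, false, d_one.symm⟩
  mul_mem' := by
    rintro a b ⟨c, d, e, f, rfl⟩ ⟨c', d', e', f', rfl⟩
    exact ⟨_, _, _, _, dmul R _ _ _ _ _ _ _ _⟩
  inv_mem' := by
    rintro a ⟨c, d, e, f, rfl⟩
    exact ⟨_, _, _, _, dinv R _ _ _ _⟩

/-- `D = ⟨z, a, i k⟩` -/
def DD : Subgroup G where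
  carrier := {x | ∃ c d e, x = 𝔼 (dE c d e false)}
  one_mem' := ⟨false, false, false, d_one.symm⟩
  mul_mem' := by
    rintro a b ⟨c, d, e, rfl⟩ ⟨c', d', e', rfl⟩
    exact ⟨_, _, _, dmul R _ _ _ _ _ _ _ _⟩
  inv_mem' := by
    rintro a ⟨c, d, e, rfl⟩
    exact ⟨_, _, _, dinv R _ _ _ _⟩

omit [Finite G] in
theorem mem_EE {x : G} : x ∈ EE R ↔ ∃ c d e f, x = 𝔼 (dE c d e f) := Iff.rfl

omit [Finite G] in
theorem mem_DD {x : G} : x ∈ DD R ↔ ∃ c d e, x = 𝔼 (dE c d e false) := Iff.rfl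

omit [Finite G] in
theorem z_mem_DD : z ∈ DD R := ⟨_, _, _, d_z.symm⟩
omit [Finite G] in
theorem a_mem_DD : 𝔼 ta ∈ DD R := ⟨_, _, _, d_a.symm⟩
omit [Finite G] in
theorem ik_mem_DD : 𝔼 tik ∈ DD R := ⟨_, _, _, d_ik.symm⟩

omit [Finite G] in
/-- `D = ⟨z, a, i k⟩` -/
theorem DD_le {K : Subgroup G} (h1 : z ∈ K) (h2 : 𝔼 ta ∈ K) (h3 : 𝔼 tik ∈ K) : DD R ≤ K := by
  rintro x ⟨c, d, e, rfl⟩
  have h4 : 𝔼 (dE c d e false) = pw c z * (pw d (𝔼 ta) * pw e (𝔼 tik)) := by
    have e1 : pw c z = 𝔼 (dE c false false false) := by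
      cases c
      · exact d_one.symm
      · exact d_z.symm
    have e2 : pw d (𝔼 ta) = 𝔼 (dE false d false false) := by
      cases d
      · exact d_one.symm
      · exact d_a.symm
    have e3 : pw e (𝔼 tik) = 𝔼 (dE false false e false) := by
      cases e
      · exact d_one.symm
      · exact d_ik.symm
    rw [e1, e2, e3, dmul R, dmul R]
    simp
  have hp : ∀ (b : Bool) {g : G}, g ∈ K → pw b g ∈ K := by
    intro b g hg
    cases b
    · exact one_mem _
    · exact hg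
  rw [h4]
  exact mul_mem (hp _ h1) (mul_mem (hp _ h2) (hp _ h3))

omit [Finite G] in
theorem DD_le_EE : DD R ≤ EE R := by
  rintro x ⟨c, d, e, rfl⟩
  exact ⟨_, _, _, _, rfl⟩

variable (h : Case9aa Q z i j k l x₁ x₂ y s)

include h in
theorem mem_EE_of_comm {x : G} (h1 : x * z = z * x) (h2 : x * 𝔼 ta = 𝔼 ta * x) (h3 : x * 𝔼 tik = 𝔼 tik * x) :
    x ∈ EE R := by
  obtain ⟨t, rfl⟩ := exists_ev h R h1
  have h4 := allT_spec (allB_spec k3 al) t
  have h5 := imp_spec (imp_spec h4 (cm_of_comm h R h2)) (cm_of_comm h R h3)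
  rw [Bool.or_eq_true] at h5
  rcases h5 with h5 | h5
  · exact ⟨_, _, _, _, congrArg _ (T.eq_of_beq h5)⟩
  · exact ⟨_, _, _, _, congrArg _ (T.eq_of_beq h5)⟩

include h in
theorem mem_EE_of_comm_s {x : G} (h1 : x * z = z * x) (h2 : x * s = s * x) (h3 : x * x = 1) : x ∈ EE R := by
  obtain ⟨t, rfl⟩ := exists_ev h R h1
  have h4 := allT_spec (allB_spec k6 al) t
  have h2' : 𝔼 t * 𝔼 ts = 𝔼 ts * 𝔼 t := by rw [ev_s]; exact h2
  have h5 := imp_spec (imp_spec h4 (cm_of_comm h R h2')) (sq1_of_sq h R h3)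
  rw [Bool.or_eq_true] at h5
  rcases h5 with h5 | h5
  · exact ⟨_, _, _, _, congrArg _ (T.eq_of_beq h5)⟩
  · exact ⟨_, _, _, _, congrArg _ (T.eq_of_beq h5)⟩

omit [Finite G] in
theorem EE_comm {x x' : G} (hx : x ∈ EE R) (hx' : x' ∈ EE R) : x * x' = x' * x := by
  obtain ⟨c, d, e, f, rfl⟩ := hx
  obtain ⟨c', d', e', f', rfl⟩ := hx'
  exact dcomm R _ _ _ _ _ _ _ _

omit [Finite G] in
theorem EE_sq {x : G} (hx : x ∈ EE R) : x * x = 1 := by
  obtain ⟨c, d, e, f, rfl⟩ := hx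
  exact dsq R _ _ _ _

include h in
theorem norm_le : Subgroup.normalizer ((DD R : Subgroup G) : Set G) ≤
    Subgroup.normalizer ((EE R : Subgroup G) : Set G) := by
  intro g hg
  rw [Subgroup.mem_normalizer_iff] at hg
  apply mem_norm
  intro x hx
  have key : ∀ d ∈ DD R, g * x * g⁻¹ * d = d * (g * x * g⁻¹) := by
    intro d hd
    have h1 : g⁻¹ * d * g ∈ DD R := by
      rw [hg]
      have : g * (g⁻¹ * d * g) * g⁻¹ = d := by group
      rwa [this]
    have h2 := EE_comm R hx (DD_le_EE R h1)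
    calc g * x * g⁻¹ * d = g * (x * (g⁻¹ * d * g)) * g⁻¹ := by group
      _ = g * ((g⁻¹ * d * g) * x) * g⁻¹ := by rw [h2]
      _ = _ := by group
  exact mem_EE_of_comm R h (key _ (z_mem_DD R)) (key _ (a_mem_DD R)) (key _ (ik_mem_DD R))

include h R in
theorem inj_dE {c d e f c' d' e' f' : Bool} (he : 𝔼 (dE c d e f) = 𝔼 (dE c' d' e' f')) :
    c = c' ∧ d = d' ∧ e = e' ∧ f = f' := by
  have h1 := eqT h R he
  have h2 : T.beq (dE c d e f) (dE c' d' e' f') = true := by rw [h1]; exact T.beq_self _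
  have h3 := imp_spec (allB_spec (allB_spec (allB_spec (allB_spec (allB_spec (allB_spec (allB_spec
    (allB_spec kinj c) d) e) f) c') d') e') f') h2
  simpa only [Bool.and_eq_true, beq_iff_eq] using h3

include h in
theorem ncard_DD : Set.ncard {x : G | x ∈ DD R ∧ x ≠ 1} = 7 := by
  have h1 : Set.ncard ((DD R : Subgroup G) : Set G) = 8 := by
    have h2 : ((DD R : Subgroup G) : Set G) = Set.range (fun p : Bool × Bool × Bool => 𝔼 (dE p.1 p.2.1 p.2.2 false)) := by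
      ext x
      constructor
      · rintro ⟨c, d, e, rfl⟩
        exact ⟨(c, d, e), rfl⟩
      · rintro ⟨⟨c, d, e⟩, rfl⟩
        exact ⟨_, _, _, rfl⟩
    rw [h2, ← Nat.card_coe_set_eq, Nat.card_range_of_injective]
    · simp
    · rintro ⟨c, d, e⟩ ⟨c', d', e'⟩ hh
      obtain ⟨rfl, rfl, rfl, -⟩ := inj_dE R h hh
      rfl
  have h3 : {x : G | x ∈ DD R ∧ x ≠ 1} = ((DD R : Subgroup G) : Set G) \ {1} := by
    ext x; simp
  rw [h3, Set.ncard_sdiff_singleton_of_mem (one_mem (DD R)), h1]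

include h in
theorem ncard_EE : Set.ncard {x : G | x ∈ EE R ∧ x ≠ 1} = 15 := by
  have h1 : Set.ncard ((EE R : Subgroup G) : Set G) = 16 := by
    have h2 : ((EE R : Subgroup G) : Set G) =
        Set.range (fun p : Bool × Bool × Bool × Bool => 𝔼 (dE p.1 p.2.1 p.2.2.1 p.2.2.2)) := by
      ext x
      constructor
      · rintro ⟨c, d, e, f, rfl⟩
        exact ⟨(c, d, e, f), rfl⟩
      · rintro ⟨⟨c, d, e, f⟩, rfl⟩
        exact ⟨_, _, _, _, rfl⟩
    rw [h2, ← Nat.card_coe_set_eq, Nat.card_range_of_injective]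
    · simp
    · rintro ⟨c, d, e, f⟩ ⟨c', d', e', f'⟩ hh
      obtain ⟨rfl, rfl, rfl, rfl⟩ := inj_dE R h hh
      rfl
  have h3 : {x : G | x ∈ EE R ∧ x ≠ 1} = ((EE R : Subgroup G) : Set G) \ {1} := by
    ext x; simp
  rw [h3, Set.ncard_sdiff_singleton_of_mem (one_mem (EE R)), h1]

omit [Finite G] in
theorem conj_eq {be ga : Bool} (R : Rules al be ga z i j k l x₁ x₂ y s) {t u w : T} (hw : cjw al be ga t u w = true) :
    𝔼 w * 𝔼 t * (𝔼 w)⁻¹ = 𝔼 u := by
  have h1 := T.eq_of_beq hw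
  have h2 : 𝔼 w * 𝔼 t = 𝔼 u * 𝔼 w := by rw [mulE R, mulE R, h1]
  rw [h2, mul_inv_cancel_right]

/-- `𝔼 w` normalises `D` -/
theorem mem_ND {w : T} (h1 : w.m = w.n) (h2 : w.f = false) :
    𝔼 w ∈ Subgroup.normalizer ((DD R : Subgroup G) : Set G) := by
  apply mem_norm
  have h3 := allN_spec (allB_spec k10 al) w h1 h2
  rw [Bool.and_eq_true] at h3
  obtain ⟨⟨c, h4⟩, ⟨c', h5⟩⟩ := And.imp anyB_spec anyB_spec h3
  obtain ⟨⟨d, h4⟩, ⟨d', h5⟩⟩ := And.imp anyB_spec anyB_spec ⟨h4, h5⟩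
  obtain ⟨⟨e, h4⟩, ⟨e', h5⟩⟩ := And.imp anyB_spec anyB_spec ⟨h4, h5⟩
  have hle : DD R ≤ (DD R).comap (MulAut.conj (𝔼 w)).toMonoidHom := by
    apply DD_le R
    · show 𝔼 w * z * (𝔼 w)⁻¹ ∈ DD R
      have h6 : 𝔼 w * z = z * 𝔼 w := ev_comm R w
      rw [h6, mul_inv_cancel_right]
      exact z_mem_DD R
    · show 𝔼 w * 𝔼 ta * (𝔼 w)⁻¹ ∈ DD R
      rw [conj_eq R h4]
      exact ⟨_, _, _, rfl⟩
    · show 𝔼 w * 𝔼 tik * (𝔼 w)⁻¹ ∈ DD R
      rw [conj_eq R h5]
      exact ⟨_, _, _, rfl⟩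
  intro x hx
  exact hle hx

omit [Finite G] in
include R in
theorem ss_one : s * s = 1 := R.ss

include h R in
theorem s_ne_one : s ≠ 1 := by
  intro he
  have h1 : 𝔼 ts = 𝔼 T.one := by rw [ev_s, ev_one]; exact he
  have h2 := eqT h R h1
  have h3 := congrArg T.f h2
  exact Bool.noConfusion h3

include h R in
theorem s_ne_z : s ≠ z := by
  intro he
  have h1 : 𝔼 ts = 𝔼 tz := by rw [ev_s, ev_z]; exact he
  have h2 := eqT h R h1
  have h3 := congrArg T.f h2
  exact Bool.noConfusion h3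

include h in
theorem orbit_D {A : Subgroup G} {b : G} (hA : Large A b)
    (hb : b = 𝔼 ta ∨ b = 𝔼 ta * z) (hzA : z ∈ A) (hik : 𝔼 tik ∈ A) {x : G} (hx : x ∈ DD R) (hx1 : x ≠ 1) :
    ∃ g ∈ Subgroup.normalizer ((DD R : Subgroup G) : Set G), g * z * g⁻¹ = x := by
  have hzz : z * z = 1 := R.zz
  have haz : 𝔼 ta * z = z * 𝔼 ta := ev_comm R ta
  have hbA : b ∈ A := hA.z_mem
  have htA : 𝔼 ta ∈ A := by
    rcases hb with hb | hb
    · rwa [← hb]
    · have h1 : 𝔼 ta = b * z := by rw [hb, mul_assoc, hzz, mul_one]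
      rw [h1]
      exact mul_mem hbA hzA
  have hDA : DD R ≤ A := DD_le R hzA htA hik
  have hbD : b ∈ DD R := by
    rcases hb with hb | hb
    · rw [hb]; exact a_mem_DD R
    · rw [hb]; exact mul_mem (a_mem_DD R) (z_mem_DD R)
  -- `A` normalises `D`
  have hAN : A ≤ Subgroup.normalizer ((DD R : Subgroup G) : Set G) := by
    intro g hg
    apply mem_norm
    intro d hd
    rcases hA.comm g hg d (hDA hd) with h1 | h1
    · rw [h1, mul_inv_cancel_right]; exact hd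
    · have h2 : g * d * g⁻¹ = d * b := by
        have h3 := hA.comm_z g hg
        rw [h1, mul_assoc d g b, h3]; group
      rw [h2]
      exact mul_mem hd hbD
  -- `z → b z`
  have hzb : z ≠ b := by
    rcases hb with hb | hb
    · intro he
      have h1 : 𝔼 tz = 𝔼 ta := by rw [ev_z]; exact he.trans hb
      have h2 := eqT h R h1
      have h3 := congrArg (fun t : T => t.w.a) h2
      exact Bool.noConfusion h3
    · intro he
      rw [hb] at he
      have h1 : 𝔼 ta = 𝔼 T.one := by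
        rw [ev_one]
        have : 1 * z = 𝔼 ta * z := by rw [one_mul]; exact he
        exact (mul_right_cancel this).symm
      have h2 := eqT h R h1
      have h3 := congrArg (fun t : T => t.w.a) h2
      exact Bool.noConfusion h3
  obtain ⟨g1, hg1, hg2⟩ := Cfsg.Agent.LargeExtra.Base.exists_not_comm hA hzA h.large.z_ne hzb
  have hg3 : g1 * z * g1⁻¹ = z * b := by
    have h3 := hA.comm_z g1 hg1
    rw [hg2, mul_assoc z g1 b, h3]; group
  have hzb' : ∃ c', z * b = 𝔼 (dE c' true false false) := by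
    rcases hb with hb | hb
    · refine ⟨true, ?_⟩
      have h1 := dmul R true false false false false true false false
      rw [d_z, d_a] at h1
      rw [hb, h1]; rfl
    · refine ⟨false, ?_⟩
      rw [hb, haz, ← mul_assoc, hzz, one_mul, d_a]
  obtain ⟨c', hc'⟩ := hzb'
  obtain ⟨w0, w1, w2, w3⟩ := any12_spec (imp_spec (allB_spec (allB_spec (allB_spec (allB_spec k9 al) c') true) false) rfl)
  have hw0 := conj_eq R w3
  obtain ⟨c, d, e, rfl⟩ := hx
  by_cases hde : (d || e) = true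
  · obtain ⟨v0, v1, v2, v3⟩ := any12_spec (imp_spec (allB_spec (allB_spec (allB_spec (allB_spec k9 al) c) d) e) hde)
    have hv0 := conj_eq R v3
    refine ⟨𝔼 v0 * (𝔼 w0)⁻¹ * g1, mul_mem (mul_mem (mem_ND R v1 v2) (inv_mem (mem_ND R w1 w2))) (hAN hg1), ?_⟩
    calc 𝔼 v0 * (𝔼 w0)⁻¹ * g1 * z * (𝔼 v0 * (𝔼 w0)⁻¹ * g1)⁻¹
        = 𝔼 v0 * ((𝔼 w0)⁻¹ * (g1 * z * g1⁻¹) * 𝔼 w0) * (𝔼 v0)⁻¹ := by group
      _ = 𝔼 v0 * 𝔼 ta * (𝔼 v0)⁻¹ := by rw [hg3, hc', ← hw0]; group
      _ = _ := hv0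
  · obtain ⟨rfl, rfl⟩ : d = false ∧ e = false := by
      cases d <;> cases e <;> simp_all
    cases c
    · exact absurd d_one hx1
    · exact ⟨1, one_mem _, by rw [d_z]; group⟩

include h in
theorem seven_dvd {A : Subgroup G} {b : G} (hA : Large A b)
    (hb : b = 𝔼 ta ∨ b = 𝔼 ta * z) (hzA : z ∈ A) (hik : 𝔼 tik ∈ A) :
    7 ∣ Nat.card (Subgroup.normalizer ((EE R : Subgroup G) : Set G)) := by
  obtain ⟨m, hm, hN⟩ := card_eq (Subgroup.normalizer ((DD R : Subgroup G) : Set G)) z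
  have h1 : {x : G | ∃ g ∈ Subgroup.normalizer ((DD R : Subgroup G) : Set G), g * z * g⁻¹ = x} =
      {x : G | x ∈ DD R ∧ x ≠ 1} := by
    ext x
    constructor
    · rintro ⟨g, hg, rfl⟩
      refine ⟨(Subgroup.mem_normalizer_iff.1 hg z).1 (z_mem_DD R), ?_⟩
      intro he
      apply h.large.z_ne
      have : z = g⁻¹ * (g * z * g⁻¹) * g := by group
      rw [this, he]; group
    · rintro ⟨hx, hx1⟩
      exact orbit_D R h hA hb hzA hik hx hx1
  rw [h1, ncard_DD R h] at hN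
  exact (Dvd.intro _ hN.symm).trans (Subgroup.card_dvd_of_le (norm_le R h))

include h R in
/-- `s ≁ z` -/
theorem not_conj {A : Subgroup G} {b : G} (hA : Large A b)
    (hb : b = 𝔼 ta ∨ b = 𝔼 ta * z) (hzA : z ∈ A) (hik : 𝔼 tik ∈ A) : ¬ IsConj z s := by
  intro hzs
  obtain ⟨g, hg⟩ := isConj_iff.1 hzs
  have hzz : z * z = 1 := R.zz
  have hsz : s * z = z * s := R.zs
  have hss : s * s = 1 := R.ss
  have hys : y * s * y⁻¹ = z * s := by
    have h1 : s * y = z * (y * s) := R.sy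
    have h2 : y * s = z * (s * y) := by rw [h1, ← mul_assoc, hzz, one_mul]
    rw [h2]; group
  have hg' : g⁻¹ * s * g = z := by rw [← hg]; group
  -- `z' = g⁻¹ z g`
  set z' := g⁻¹ * z * g with hz'
  have hz'z : z' * z = z * z' := by
    calc z' * z = g⁻¹ * z * g * (g⁻¹ * s * g) := by rw [hg']
      _ = g⁻¹ * (z * s) * g := by group
      _ = (g⁻¹ * s * g) * (g⁻¹ * z * g) := by rw [← hsz]; group
      _ = _ := by rw [hg']
  have hz'1 : z' ≠ 1 := by
    intro he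
    apply h.large.z_ne
    have : z = g * z' * g⁻¹ := by rw [hz']; group
    rw [this, he]; group
  have hz'2 : z' ≠ z := by
    intro he
    apply s_ne_z R h
    rw [← hg]
    calc g * z * g⁻¹ = g * z' * g⁻¹ := by rw [he]
      _ = z := by rw [hz']; group
  have hz'3 : z' * z' = 1 := by
    calc z' * z' = g⁻¹ * (z * z) * g := by rw [hz']; group
      _ = 1 := by rw [hzz]; group
  obtain ⟨t, ht⟩ := exists_ev h R hz'z
  rw [ht] at hz'1 hz'2 hz'3
  have hk := imp_spec (allT_spec (allB_spec k1 al) t) (sq1_of_sq h R hz'3)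
  rw [Bool.or_eq_true, Bool.or_eq_true] at hk
  rcases hk with hk | hk | hk
  · exact hz'1 (by rw [T.eq_of_beq hk, ev_one])
  · exact hz'2 (by rw [T.eq_of_beq hk, ev_z])
  obtain ⟨w, hw⟩ := cand_spec hk
  have hw1 := conj_eq R hw
  have hw2 : 𝔼 (tzm t) = z * z' := by
    rw [← mul_tz al false true t, ← mulE R, ev_z, ← ht]
  rw [hw2, ← ht] at hw1
  have hwz : 𝔼 w * z = z * 𝔼 w := ev_comm R w
  set hh := g * 𝔼 w * g⁻¹ with hhh
  have hh1 : hh * s * hh⁻¹ = s := by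
    calc hh * s * hh⁻¹ = g * (𝔼 w * (g⁻¹ * s * g) * (𝔼 w)⁻¹) * g⁻¹ := by rw [hhh]; group
      _ = g * z * g⁻¹ := by rw [hg', hwz]; group
      _ = s := hg
  have hh2 : hh * z * hh⁻¹ = s * z := by
    calc hh * z * hh⁻¹ = g * (𝔼 w * z' * (𝔼 w)⁻¹) * g⁻¹ := by rw [hhh, hz']; group
      _ = (g * z * g⁻¹) * (g * z' * g⁻¹) := by rw [hw1]; group
      _ = s * z := by rw [hg, hz']; group
  set d0 := y * hh with hd0
  have hd1 : d0 * z * d0⁻¹ = s := by
    have hyz : y * z = z * y := R.zy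
    calc d0 * z * d0⁻¹ = y * (hh * z * hh⁻¹) * y⁻¹ := by rw [hd0]; group
      _ = (y * s * y⁻¹) * (y * z * y⁻¹) := by rw [hh2]; group
      _ = (z * s) * z := by rw [hys, hyz]; group
      _ = s := by rw [mul_assoc, hsz, ← mul_assoc, hzz, one_mul]
  have hd2 : d0 * s * d0⁻¹ = z * s := by
    calc d0 * s * d0⁻¹ = y * (hh * s * hh⁻¹) * y⁻¹ := by rw [hd0]; group
      _ = z * s := by rw [hh1, hys]
  have hzE : z ∈ EE R := ⟨_, _, _, _, d_z.symm⟩
  have hsE : s ∈ EE R := ⟨_, _, _, _, d_s.symm⟩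
  have hdN : d0 ∈ Subgroup.normalizer ((EE R : Subgroup G) : Set G) := by
    apply mem_norm
    intro x hx
    have c1 : d0 * x * d0⁻¹ * s = s * (d0 * x * d0⁻¹) := by
      calc d0 * x * d0⁻¹ * s = d0 * x * d0⁻¹ * (d0 * z * d0⁻¹) := by rw [hd1]
        _ = d0 * (x * z) * d0⁻¹ := by group
        _ = (d0 * z * d0⁻¹) * (d0 * x * d0⁻¹) := by rw [EE_comm R hx hzE]; group
        _ = _ := by rw [hd1]
    have c2 : d0 * x * d0⁻¹ * (z * s) = (z * s) * (d0 * x * d0⁻¹) := by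
      calc d0 * x * d0⁻¹ * (z * s) = d0 * x * d0⁻¹ * (d0 * s * d0⁻¹) := by rw [hd2]
        _ = d0 * (x * s) * d0⁻¹ := by group
        _ = (d0 * s * d0⁻¹) * (d0 * x * d0⁻¹) := by rw [EE_comm R hx hsE]; group
        _ = _ := by rw [hd2]
    have c3 : d0 * x * d0⁻¹ * z = z * (d0 * x * d0⁻¹) := by
      have hz3 : z = (z * s) * s := by rw [mul_assoc, hss, mul_one]
      generalize d0 * x * d0⁻¹ = u at *
      calc u * z = u * (z * s) * s := by rw [mul_assoc, ← hz3]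
        _ = (z * s) * (u * s) := by rw [c2, mul_assoc]
        _ = (z * s) * s * u := by rw [c1, ← mul_assoc]
        _ = z * u := by rw [← hz3]
    refine mem_EE_of_comm_s R h c3 c1 ?_
    calc d0 * x * d0⁻¹ * (d0 * x * d0⁻¹) = d0 * (x * x) * d0⁻¹ := by group
      _ = 1 := by rw [EE_sq R hx]; group
  have hle := norm_le R h
  obtain ⟨m, hm, hN⟩ := card_eq (Subgroup.normalizer ((EE R : Subgroup G) : Set G)) z
  have h1 : {x : G | ∃ g ∈ Subgroup.normalizer ((EE R : Subgroup G) : Set G), g * z * g⁻¹ = x} =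
      {x : G | x ∈ EE R ∧ x ≠ 1} := by
    ext x
    constructor
    · rintro ⟨g, hg, rfl⟩
      refine ⟨(Subgroup.mem_normalizer_iff.1 hg z).1 hzE, ?_⟩
      intro he
      apply h.large.z_ne
      have : z = g⁻¹ * (g * z * g⁻¹) * g := by group
      rw [this, he]; group
    · rintro ⟨⟨c, d, e, f, rfl⟩, hx1⟩
      cases f
      · obtain ⟨g, hg, hg1⟩ := orbit_D R h hA hb hzA hik (x := 𝔼 (dE c d e false)) ⟨_, _, _, rfl⟩ hx1
        exact ⟨g, hle hg, hg1⟩
      · obtain ⟨v, v1, v2, v3, v4⟩ := any32_spec (allB_spec (allB_spec (allB_spec (allB_spec k8 al) c) d) e)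
        have hv := conj_eq R v4
        rw [ev_s] at hv
        refine ⟨𝔼 v * d0, mul_mem (hle (mem_ND R (v1.trans v2.symm) v3)) hdN, ?_⟩
        rw [← hv, ← hd1]
        group
  rw [h1, ncard_EE R h] at hN
  have h7 := seven_dvd R h hA hb hzA hik
  rw [hN] at h7
  rw [h.card_cent] at hm
  have h8 : 7 ∣ m := (Nat.Coprime.dvd_of_dvd_mul_left (by norm_num) h7)
  exact absurd (h8.trans hm) (by norm_num)

/-- the subgroup `Q⟨x₁, x₂, y⟩` of `C_G(z)` -/
def MM : Subgroup (Subgroup.centralizer ({z} : Set G)) where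
  carrier := {c | ∃ t : T, t.f = false ∧ (c : G) = 𝔼 t}
  one_mem' := ⟨T.one, rfl, ev_one.symm⟩
  mul_mem' := by
    rintro a b ⟨t, ht, ha⟩ ⟨u, hu, hb⟩
    refine ⟨T.mul al false true t u, ?_, ?_⟩
    · show xor t.f u.f = false
      rw [ht, hu]; rfl
    · rw [← mulE R, ← ha, ← hb]; rfl
  inv_mem' := by
    rintro a ⟨t, ht, ha⟩
    have h1 : (a⁻¹ : G) * z = z * (a⁻¹ : G) :=
      Subgroup.mem_centralizer_singleton_iff.1 (a⁻¹).2
    obtain ⟨u, hu⟩ := exists_ev h R h1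
    refine ⟨u, ?_, hu⟩
    have h2 : 𝔼 (T.mul al false true t u) = 𝔼 T.one := by
      rw [← mulE R, ← hu, ← ha, ev_one, mul_inv_cancel]
    have h3 : xor t.f u.f = false := congrArg T.f (eqT h R h2)
    rw [ht, Bool.false_xor] at h3
    exact h3

theorem mem_MM {c : Subgroup.centralizer ({z} : Set G)} {t : T} (hc : (c : G) = 𝔼 t) :
    c ∈ MM R h ↔ t.f = false := by
  constructor
  · rintro ⟨u, hu, hc'⟩
    rw [hc] at hc'
    rw [eqT h R hc']
    exact hu
  · intro ht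
    exact ⟨t, ht, hc⟩

theorem index_MM : (MM R h).index = 2 := by
  rw [Subgroup.index_eq_two_iff]
  refine ⟨⟨s, Subgroup.mem_centralizer_singleton_iff.2 R.zs⟩, fun b => ?_⟩
  obtain ⟨t, ht⟩ := exists_ev h R (Subgroup.mem_centralizer_singleton_iff.1 b.2)
  rw [mem_MM R h ht, mem_MM R h (t := T.mul al false true t ts) (by
    rw [← mulE R, ← ht, ev_s]; rfl)]
  have h1 : (T.mul al false true t ts).f = !t.f := by
    show xor t.f true = _
    rw [Bool.xor_true]
  rw [h1]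
  cases t.f <;> simp

end groups

/-- The case `i k ∈ A`. -/
theorem kill (hG : ∀ H : Subgroup G, H.index ≠ 2) (h : Case9aa Q z i j k l x₁ x₂ y s)
    (R : Rules al false true z i j k l x₁ x₂ y s) (hza : IsConj z (𝔼 ta)) {A : Subgroup G} {b : G}
    (hA : Large A b) (hb : b = 𝔼 ta ∨ b = 𝔼 ta * z) (hzA : z ∈ A) (hik : i * k ∈ A)
    (hy : al = true ∨ IsConj z y) : False := by
  rw [← E_tik (z := z) (i := i) (j := j) (k := k) (l := l) (x₁ := x₁) (x₂ := x₂) (y := y) (s := s)] at hik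
  apply not_conj R h hA hb hzA hik
  obtain ⟨g, hg1, hg2⟩ := Cfsg.Agent.TwoFusion.IndexTwo.exists_conj_mem hG (Subgroup.centralizer ({z} : Set G))
    (Cfsg.Agent.LargeExtra.TwoCentral.odd_index h.large) (MM R h) (index_MM R h)
    ⟨s, Subgroup.mem_centralizer_singleton_iff.2 R.zs⟩ (Subtype.ext R.ss)
  obtain ⟨t, ht, ht1⟩ := hg2
  have ht2 : g⁻¹ * s * g = 𝔼 t := ht1
  have hc : IsConj (𝔼 t) s := by
    rw [isConj_iff]
    exact ⟨g, by rw [← ht2]; group⟩
  refine IsConj.trans ?_ hc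
  have hsq : 𝔼 t * 𝔼 t = 1 := by
    have hss : s * s = 1 := R.ss
    rw [← ht2]
    calc g⁻¹ * s * g * (g⁻¹ * s * g) = g⁻¹ * (s * s) * g := by group
      _ = 1 := by rw [hss]; group
  have hk := imp_spec (imp_spec (allT_spec (allB_spec k2 al) t) (by rw [ht]; rfl)) (sq1_of_sq h R hsq)
  rw [Bool.or_eq_true, Bool.or_eq_true] at hk
  rcases hk with hk | hk | hk
  · exfalso
    apply s_ne_one R h
    have h1 : 𝔼 t = 1 := by rw [T.eq_of_beq hk, ev_one]
    rw [h1] at ht2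
    calc s = g * (g⁻¹ * s * g) * g⁻¹ := by group
      _ = 1 := by rw [ht2]; group
  · rw [T.eq_of_beq hk, ev_z]
  · cases hte : t.e
    · rw [hte, cond_false] at hk
      obtain ⟨w, hw⟩ := any18_spec hk
      exact hza.trans (conj_of_cjw R hw).symm
    · rw [hte, cond_true, Bool.and_eq_true] at hk
      obtain ⟨w, hw⟩ := any72_spec hk.2
      have h2 := conj_of_cjw R hw
      rw [ev_y] at h2
      rcases hy with hy | hy
      · rw [hy] at hk; exact absurd hk.1 (by decide)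
      · exact hy.trans h2

end Cfsg.Agent.LargeExtra.W2.U43.FusKill
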