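import Cfsg.Agent.LargeExtra.W2.U43.FusBase

/-!
# S1759, `C / Q = S₃ × S₃`, case II: the fusion of `U₄(3)` (helper123): the three cases
-/

set_option autoImplicit false

namespace Cfsg.Agent.LargeExtra.W2.U43.FusTri

open Cfsg.Agent.Co2Type.Quad Cfsg.Agent.LargeExtra.W2.CM Cfsg.Agent.LargeExtra.W2.U43.FusBase

variable {G : Type*} [Group G] [Finite G] {Q : Subgroup G} {al be ga : Bool} {z i j k l x₁ x₂ y s : G}

local notation "𝔼" => T.ev z i j k l x₁ x₂ y s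

section basic

variable (h : Case9aa Q z i j k l x₁ x₂ y s) (R : Rules al be ga z i j k l x₁ x₂ y s)

omit [Finite G] in
include R in
theorem mulE (t u : T) : 𝔼 t * 𝔼 u = 𝔼 (T.mul al be ga t u) := ev_mul R t u

include h R in
theorem eqT {t u : T} (htu : 𝔼 t = 𝔼 u) : t = u := ev_inj h R htu

omit [Finite G] in
theorem E_ta : 𝔼 ta = i * (j * (k * l)) := by simp [T.ev, Qt.ev, pw, pw3, ta]

omit [Finite G] in
theorem E_tik : 𝔼 tik = i * k := by simp [T.ev, Qt.ev, pw, pw3, tik]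

omit [Finite G] in
theorem E_va (c d : Bool) : 𝔼 (va c d) = pw c z * pw d (𝔼 ta) := by
  cases c <;> cases d <;> simp [T.ev, Qt.ev, pw, pw3, ta, va]

omit [Finite G] in
theorem E_rp_e1 : 𝔼 (rp e1) = i * k := by simp [T.ev, Qt.ev, pw, pw3, rp, e1]
omit [Finite G] in
theorem E_rp_e2 : 𝔼 (rp e2) = j * k := by simp [T.ev, Qt.ev, pw, pw3, rp, e2]
omit [Finite G] in
theorem E_rp_e3 : 𝔼 (rp e3) = y := by simp [T.ev, Qt.ev, pw, pw3, rp, e3]
omit [Finite G] in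
theorem E_rp_e4 : 𝔼 (rp e4) = s := by simp [T.ev, Qt.ev, pw, pw3, rp, e4]

omit [Finite G] in
include R in
theorem conj_of_cjw {t u w : T} (hw : cjw al be ga t u w = true) : IsConj (𝔼 t) (𝔼 u) := by
  rw [isConj_iff]
  refine ⟨𝔼 w, ?_⟩
  have h1 := T.eq_of_beq hw
  have h2 : 𝔼 w * 𝔼 t = 𝔼 u * 𝔼 w := by rw [mulE R, mulE R, h1]
  rw [h2, mul_inv_cancel_right]

omit [Finite G] in
include R in
theorem comm_of_cm {t u : T} (hw : cm al be ga t u = true) : 𝔼 t * 𝔼 u = 𝔼 u * 𝔼 t := by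
  rw [mulE R, mulE R, T.eq_of_beq hw]

include h R in
theorem cm_of_comm {t u : T} (hw : 𝔼 t * 𝔼 u = 𝔼 u * 𝔼 t) : cm al be ga t u = true := by
  rw [mulE R, mulE R] at hw
  rw [cm, eqT h R hw]
  exact T.beq_self _

include h R in
theorem sq1_of_sq {t : T} (hw : 𝔼 t * 𝔼 t = 1) : sq1 al be ga t = true := by
  have h1 : 𝔼 T.one = 1 := ev_one
  rw [mulE R, ← h1] at hw
  rw [sq1, eqT h R hw]
  exact T.beq_self _

end basic

/-- `u = v (i k)^α (j k)^β y^γ s^δ` with `v ∈ ⟨z, a⟩` -/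
def Rep (z i j k l x₁ x₂ y s u : G) (p : P) : Prop :=
  ∃ c d : Bool, u = T.ev z i j k l x₁ x₂ y s (va c d) * T.ev z i j k l x₁ x₂ y s (rp p)

section rep

variable (h : Case9aa Q z i j k l x₁ x₂ y s) (R : Rules al be ga z i j k l x₁ x₂ y s)

include h R in
theorem exists_rep {u : G} (hz : u * z = z * u) (ha : u * 𝔼 ta = 𝔼 ta * u) :
    ∃ p : P, Rep z i j k l x₁ x₂ y s u p := by
  obtain ⟨t, rfl⟩ := exists_ev h R hz
  have h1 := cm_of_comm h R ha
  have h2 := allT_spec (allB_spec (allB_spec (allB_spec chk1_all al) be) ga) t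
  have h3 := imp_spec h2 h1
  rw [Bool.or_eq_true] at h3
  rcases h3 with h3 | h3
  · refine ⟨(xor t.w.a t.w.d, xor t.w.b t.w.d, t.e, t.f), false, t.w.d, ?_⟩
    rw [mulE R, ← T.eq_of_beq h3]
  · refine ⟨(xor t.w.a t.w.d, xor t.w.b t.w.d, t.e, t.f), true, t.w.d, ?_⟩
    rw [mulE R, ← T.eq_of_beq h3]

omit [Finite G] in
include R in
theorem va_comm (c d c' d' : Bool) : 𝔼 (va c d) * 𝔼 (va c' d') = 𝔼 (va c' d') * 𝔼 (va c d) := by
  have h1 := allB_spec (allB_spec (allB_spec (allB_spec (allB_spec chk_va al) be) ga) c) d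
  rw [Bool.and_eq_true] at h1
  exact comm_of_cm R (allB_spec (allB_spec h1.2 c') d')

omit [Finite G] in
include R in
theorem va_rp (c d : Bool) (p : P) : 𝔼 (va c d) * 𝔼 (rp p) = 𝔼 (rp p) * 𝔼 (va c d) := by
  have h1 := allB_spec (allB_spec (allB_spec (allB_spec (allB_spec chk_va al) be) ga) c) d
  rw [Bool.and_eq_true] at h1
  exact comm_of_cm R (allP_spec h1.1 p)

omit [Finite G] in
include R in
theorem rep_sq {u : G} {p : P} (hu : Rep z i j k l x₁ x₂ y s u p) : u * u = 𝔼 (va (qz al be ga p) (qa p)) := by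
  obtain ⟨c, d, rfl⟩ := hu
  have h1 := allP_spec (allB_spec (allB_spec (allB_spec (allB_spec (allB_spec chk_sq al) be) ga) c) d) p
  rw [mulE R, mulE R, T.eq_of_beq h1]

omit [Finite G] in
include R in
theorem rep_comm {u v : G} {p q : P} (hu : Rep z i j k l x₁ x₂ y s u p) (hv : Rep z i j k l x₁ x₂ y s v q) :
    u * v = 𝔼 (va (bz ga p q) (ba p q)) * (v * u) := by
  obtain ⟨c, d, rfl⟩ := hu
  obtain ⟨c', d', rfl⟩ := hv
  have h1 : 𝔼 (rp p) * 𝔼 (rp q) = 𝔼 (va (bz ga p q) (ba p q)) * (𝔼 (rp q) * 𝔼 (rp p)) := by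
    have := allP_spec (allP_spec (allB_spec (allB_spec (allB_spec chk_comm al) be) ga) p) q
    rw [mulE R, mulE R, mulE R, T.eq_of_beq this]
  have h2 := va_rp R c' d' p
  have h3 := va_rp R c d q
  have h4 := va_comm R c d c' d'
  have h5 := va_comm R c d (bz ga p q) (ba p q)
  have h6 := va_comm R c' d' (bz ga p q) (ba p q)
  generalize 𝔼 (va c d) = v1 at *
  generalize 𝔼 (va c' d') = v2 at *
  generalize 𝔼 (va (bz ga p q) (ba p q)) = w at *
  generalize 𝔼 (rp p) = a at *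
  generalize 𝔼 (rp q) = b at *
  calc v1 * a * (v2 * b) = v1 * (a * v2) * b := by group
    _ = (v1 * v2) * (a * b) := by rw [← h2]; group
    _ = v2 * (v1 * w) * (b * a) := by rw [h1, h4]; group
    _ = (v2 * w) * (v1 * b) * a := by rw [h5]; group
    _ = w * (v2 * b * (v1 * a)) := by rw [h6, h3]; group

include h R in
theorem va_inj {c d c' d' : Bool} (e : 𝔼 (va c d) = 𝔼 (va c' d')) : c = c' ∧ d = d' := by
  have h1 := eqT h R e
  simp only [va, T.mk.injEq, Qt.mk.injEq] at h1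
  exact ⟨h1.1.1, h1.1.2.1⟩

end rep

section main

variable (h : Case9aa Q z i j k l x₁ x₂ y s) (R : Rules al be ga z i j k l x₁ x₂ y s)

omit [Finite G] in
include R in
theorem a_sq : 𝔼 ta * 𝔼 ta = 1 := by
  have : 𝔼 T.one = 1 := ev_one
  rw [mulE R, ← this]
  cases al <;> cases be <;> cases ga <;> rfl

omit [Finite G] in
include R in
theorem θ_va {θ : G} (t1 : θ * z * θ⁻¹ = 𝔼 ta) (t2 : θ * 𝔼 ta * θ⁻¹ = 𝔼 ta * z) (c d : Bool) :
    θ * 𝔼 (va c d) * θ⁻¹ = 𝔼 (va d (xor c d)) := by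
  have hz : 𝔼 ta * z = z * 𝔼 ta := ev_comm R ta
  have hzz : z * z = 1 := R.zz
  rw [E_va, E_va]
  cases c <;> cases d
  · simp [pw]
  · simp only [pw, cond_true, cond_false, one_mul, Bool.false_xor, Bool.xor_false]
    rw [t2, hz]
  · simp only [pw, cond_true, cond_false, one_mul, mul_one, Bool.true_xor, Bool.not_false]
    exact t1
  · simp only [pw, cond_true, cond_false, one_mul, mul_one, Bool.true_xor, Bool.not_true]
    calc θ * (z * 𝔼 ta) * θ⁻¹ = (θ * z * θ⁻¹) * (θ * 𝔼 ta * θ⁻¹) := by group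
      _ = z := by rw [t1, t2, ← mul_assoc, a_sq R, one_mul]

include h R in
/-- The three cases. -/
theorem trichotomy {θ : G} (t1 : θ * z * θ⁻¹ = 𝔼 ta) (t2 : θ * 𝔼 ta * θ⁻¹ = 𝔼 ta * z) :
    ∃ p1 p2 : P, Rep z i j k l x₁ x₂ y s (θ * (i * k) * θ⁻¹) p1 ∧
      Rep z i j k l x₁ x₂ y s (θ * (j * k) * θ⁻¹) p2 ∧ concl al be ga p1 p2 = true := by
  have hzt : 𝔼 ta * z = z * 𝔼 ta := ev_comm R ta
  -- `θ⁻¹ z θ = a z`
  have t3 : θ * (𝔼 ta * z) * θ⁻¹ = z := by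
    calc θ * (𝔼 ta * z) * θ⁻¹ = (θ * 𝔼 ta * θ⁻¹) * (θ * z * θ⁻¹) := by group
      _ = z * (𝔼 ta * 𝔼 ta) := by rw [t1, t2, hzt, mul_assoc]
      _ = z := by rw [a_sq R, mul_one]
  -- representatives
  have hex : ∀ p : P, ∃ p' : P, Rep z i j k l x₁ x₂ y s (θ * 𝔼 (rp p) * θ⁻¹) p' := by
    intro p
    have c1 : 𝔼 (rp p) * z = z * 𝔼 (rp p) := ev_comm R _
    have c2 : 𝔼 (rp p) * 𝔼 ta = 𝔼 ta * 𝔼 (rp p) := by
      have := va_rp R false true p
      have e : va false true = ta := rfl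
      rw [e] at this
      exact this.symm
    apply exists_rep h R
    · generalize 𝔼 (rp p) = r at *
      generalize 𝔼 ta = A at *
      have e : θ⁻¹ * z * θ = A * z := by
        calc θ⁻¹ * z * θ = θ⁻¹ * (θ * (A * z) * θ⁻¹) * θ := by rw [t3]
          _ = A * z := by group
      calc θ * r * θ⁻¹ * z = θ * (r * (θ⁻¹ * z * θ)) * θ⁻¹ := by group
        _ = θ * ((θ⁻¹ * z * θ) * r) * θ⁻¹ := by
            rw [e]
            congr 2
            rw [← mul_assoc, c2, mul_assoc, c1, mul_assoc]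
        _ = z * (θ * r * θ⁻¹) := by group
    · generalize 𝔼 (rp p) = r at *
      generalize 𝔼 ta = A at *
      have e : θ⁻¹ * A * θ = z := by
        rw [← t1]; group
      calc θ * r * θ⁻¹ * A = θ * (r * (θ⁻¹ * A * θ)) * θ⁻¹ := by group
        _ = θ * ((θ⁻¹ * A * θ) * r) * θ⁻¹ := by rw [e, c1]
        _ = A * (θ * r * θ⁻¹) := by group
  have hsq : ∀ p p' : P, Rep z i j k l x₁ x₂ y s (θ * 𝔼 (rp p) * θ⁻¹) p' → sqok al be ga p p' = true := by
    intro p p' hp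
    have h1 := rep_sq R hp
    have h0 : Rep z i j k l x₁ x₂ y s (𝔼 (rp p)) p := ⟨false, false, by
      rw [E_va]; simp [pw]⟩
    have h2 := rep_sq R h0
    have h3 : 𝔼 (va (qz al be ga p') (qa p')) = 𝔼 (va (qa p) (xor (qz al be ga p) (qa p))) := by
      rw [← h1, ← θ_va R t1 t2, ← h2]; group
    obtain ⟨h4, h5⟩ := va_inj h R h3
    simp [sqok, h4, h5]
  have hco : ∀ p q p' q' : P, Rep z i j k l x₁ x₂ y s (θ * 𝔼 (rp p) * θ⁻¹) p' →
      Rep z i j k l x₁ x₂ y s (θ * 𝔼 (rp q) * θ⁻¹) q' → bok ga p q p' q' = true := by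
    intro p q p' q' hp hq
    have h1 := rep_comm R hp hq
    have h0 : ∀ p : P, Rep z i j k l x₁ x₂ y s (𝔼 (rp p)) p := fun p => ⟨false, false, by
      rw [E_va]; simp [pw]⟩
    have h2 := rep_comm R (h0 p) (h0 q)
    have h3 : 𝔼 (va (bz ga p' q') (ba p' q')) = 𝔼 (va (ba p q) (xor (bz ga p q) (ba p q))) := by
      rw [← θ_va R t1 t2]
      apply mul_right_cancel (b := θ * 𝔼 (rp q) * θ⁻¹ * (θ * 𝔼 (rp p) * θ⁻¹))
      rw [← h1]
      calc θ * 𝔼 (rp p) * θ⁻¹ * (θ * 𝔼 (rp q) * θ⁻¹) = θ * (𝔼 (rp p) * 𝔼 (rp q)) * θ⁻¹ := by group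
        _ = _ := by rw [h2]; group
    obtain ⟨h4, h5⟩ := va_inj h R h3
    simp [bok, h4, h5]
  obtain ⟨p1, r1⟩ := hex e1
  obtain ⟨p2, r2⟩ := hex e2
  obtain ⟨p3, r3⟩ := hex e3
  obtain ⟨p4, r4⟩ := hex e4
  refine ⟨p1, p2, E_rp_e1 (i := i) (k := k) (z := z) (j := j) (l := l) (x₁ := x₁) (x₂ := x₂) (y := y) (s := s) ▸ r1,
    E_rp_e2 (i := i) (k := k) (z := z) (j := j) (l := l) (x₁ := x₁) (x₂ := x₂) (y := y) (s := s) ▸ r2, ?_⟩
  have c0 := allP_spec (allB_spec (allB_spec (allB_spec chk_main al) be) ga) p1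
  have c1 := allP_spec (imp_spec c0 (hsq _ _ r1)) p2
  have c2 := allP_spec (imp_spec c1 (by rw [hsq _ _ r2, hco _ _ _ _ r1 r2]; rfl)) p3
  have c3 := allP_spec (imp_spec c2 (by rw [hsq _ _ r3, hco _ _ _ _ r1 r3, hco _ _ _ _ r2 r3]; rfl)) p4
  exact imp_spec c3 (by rw [hsq _ _ r4, hco _ _ _ _ r1 r4, hco _ _ _ _ r2 r4, hco _ _ _ _ r3 r4]; rfl)

end main

end Cfsg.Agent.LargeExtra.W2.U43.FusTri
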