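import Cfsg.Agent.LargeExtra.W2.U43.PermModel
import Cfsg.Agent.LargeExtra.W2.U43.CertAll
import Cfsg.Agent.LargeExtra.W2.U43.Defs
import Cfsg.Agent.LargeExtra.W2.Graph
import Cfsg.Agent.SporadicRecognition.CosetCertHyp
import Cfsg.Agent.SporadicStructure.U43Herm
import Cfsg.Agent.SporadicStructure.PsuMatch
import Cfsg.Agent.S0280
import Cfsg.Agent.S0283

/-!
# `⟨C, d, e⟩ ≅ U₄(3)` (helper926, certificate and relations by helper893)

`C = ⟨i, j, k, l, x₁, x₂, y, s⟩` with the rules of the twist `y² = z`, `s² = 1`, `s y s⁻¹ = y z`, `Del d`, the mirror image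
`Del e`, `[x₁, x₁ᵈ] = 1` and `e ρ e⁻¹ = κ_s κ_sz⁻¹` generate a group isomorphic to `PSU(4, 3)`.
-/

set_option autoImplicit false
set_option maxRecDepth 10000
set_option linter.unusedSimpArgs false
set_option linter.unusedVariables false

namespace Cfsg.Agent.LargeExtra.W2.U43.Ident

open Cfsg Cfsg.Agent.LargeExtra.W2.CM Cfsg.Agent.SporadicRecognition.CosetCert
  Cfsg.Agent.SporadicRecognition.CosetCertHyp

/-! ### the order of the group defined by `Rules` -/

section card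

variable {G : Type*} [Group G] {al be ga : Bool} {z i j k l x₁ x₂ y s : G}

/-- The normal forms are a subgroup. -/
noncomputable def nf (R : Rules al be ga z i j k l x₁ x₂ y s) : Subgroup G where
  carrier := Set.range fun t : T => t.ev z i j k l x₁ x₂ y s
  one_mem' := ⟨T.one, ev_one⟩
  mul_mem' := by
    rintro _ _ ⟨t, rfl⟩ ⟨u, rfl⟩
    exact ⟨T.mul al be ga t u, (ev_mul R t u).symm⟩
  inv_mem' := by
    rintro _ ⟨t, rfl⟩
    have hfin : Finite (Set.range fun t : T => t.ev z i j k l x₁ x₂ y s) := Set.finite_range _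
    let f : (Set.range fun t : T => t.ev z i j k l x₁ x₂ y s) → (Set.range fun t : T => t.ev z i j k l x₁ x₂ y s) :=
      fun u => ⟨t.ev z i j k l x₁ x₂ y s * u.1, by
        obtain ⟨_, u, rfl⟩ := u
        exact ⟨T.mul al be ga t u, (ev_mul R t u).symm⟩⟩
    have hf : Function.Injective f := by
      intro a b hab
      exact Subtype.ext (mul_left_cancel (congrArg Subtype.val hab))
    obtain ⟨u, hu⟩ := (Finite.injective_iff_surjective.1 hf) ⟨1, T.one, ev_one⟩
    have h1 : t.ev z i j k l x₁ x₂ y s * u.1 = 1 := congrArg Subtype.val hu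
    rw [inv_eq_of_mul_eq_one_right h1]
    exact u.2

theorem card_nf (R : Rules al be ga z i j k l x₁ x₂ y s) : Finite (nf R) ∧ Nat.card (nf R) ≤ 1152 := by
  have hs : Function.Surjective (fun t : T => (⟨t.ev z i j k l x₁ x₂ y s, t, rfl⟩ : nf R)) := by
    rintro ⟨_, t, rfl⟩
    exact ⟨t, rfl⟩
  exact ⟨Finite.of_surjective _ hs, by rw [← card_T]; exact Nat.card_le_card_of_surjective _ hs⟩

/-- `|⟨i, …, s⟩| ≤ 1152` -/
theorem card_closure_rules (R : Rules al be ga z i j k l x₁ x₂ y s) :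
    Finite (Subgroup.closure ({i, j, k, l, x₁, x₂, y, s} : Set G)) ∧
      Nat.card (Subgroup.closure ({i, j, k, l, x₁, x₂, y, s} : Set G)) ≤ 1152 := by
  have hle : Subgroup.closure ({i, j, k, l, x₁, x₂, y, s} : Set G) ≤ nf R := by
    rw [Subgroup.closure_le]
    rintro c (rfl | rfl | rfl | rfl | rfl | rfl | rfl | rfl)
    · exact ⟨ti, ev_i⟩
    · exact ⟨tj, ev_j⟩
    · exact ⟨tk, ev_k⟩
    · exact ⟨tl, ev_l⟩
    · exact ⟨tx₁, ev_x₁⟩
    · exact ⟨tx₂, ev_x₂⟩
    · exact ⟨ty, ev_y⟩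
    · exact ⟨ts, ev_s⟩
  have h := card_nf R
  have := h.1
  exact ⟨Finite.of_injective _ (Subgroup.inclusion_injective hle),
    (Nat.card_le_card_of_injective _ (Subgroup.inclusion_injective hle)).trans h.2⟩

end card

/-! ### pairs -/

theorem Rules.prod {G P : Type*} [Group G] [Group P] {z i j k l x₁ x₂ y s : G} {z' i' j' k' l' x₁' x₂' y' s' : P}
    (R : Rules true false true z i j k l x₁ x₂ y s) (R' : Rules true false true z' i' j' k' l' x₁' x₂' y' s') :
    Rules true false true (z, z') (i, i') (j, j') (k, k') (l, l') (x₁, x₁') (x₂, x₂') (y, y') (s, s') where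
  zz := Prod.ext R.zz R'.zz
  zi := Prod.ext R.zi R'.zi
  zj := Prod.ext R.zj R'.zj
  zk := Prod.ext R.zk R'.zk
  zl := Prod.ext R.zl R'.zl
  zx := Prod.ext R.zx R'.zx
  zw := Prod.ext R.zw R'.zw
  zy := Prod.ext R.zy R'.zy
  zs := Prod.ext R.zs R'.zs
  ii := Prod.ext R.ii R'.ii
  jj := Prod.ext R.jj R'.jj
  kk := Prod.ext R.kk R'.kk
  ll := Prod.ext R.ll R'.ll
  ji := Prod.ext R.ji R'.ji
  lk := Prod.ext R.lk R'.lk
  ki := Prod.ext R.ki R'.ki
  li := Prod.ext R.li R'.li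
  kj := Prod.ext R.kj R'.kj
  lj := Prod.ext R.lj R'.lj
  xi := Prod.ext R.xi R'.xi
  xj := Prod.ext R.xj R'.xj
  xk := Prod.ext R.xk R'.xk
  xl := Prod.ext R.xl R'.xl
  wi := Prod.ext R.wi R'.wi
  wj := Prod.ext R.wj R'.wj
  wk := Prod.ext R.wk R'.wk
  wl := Prod.ext R.wl R'.wl
  yi := Prod.ext R.yi R'.yi
  yj := Prod.ext R.yj R'.yj
  yk := Prod.ext R.yk R'.yk
  yl := Prod.ext R.yl R'.yl
  si := Prod.ext R.si R'.si
  sj := Prod.ext R.sj R'.sj
  sk := Prod.ext R.sk R'.sk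
  sl := Prod.ext R.sl R'.sl
  wx := Prod.ext R.wx R'.wx
  xxx := Prod.ext R.xxx R'.xxx
  www := Prod.ext R.www R'.www
  yx := Prod.ext R.yx R'.yx
  yw := Prod.ext R.yw R'.yw
  sx := Prod.ext R.sx R'.sx
  sw := Prod.ext R.sw R'.sw
  sy := Prod.ext R.sy R'.sy
  yy := Prod.ext R.yy R'.yy
  ss := Prod.ext R.ss R'.ss

theorem ev_prod {G P : Type*} [Group G] [Group P] (a : ℕ → G) (b : ℕ → P) (w : List ℕ) :
    ev (fun t => (a t, b t)) w = (ev a w, ev b w) := by
  induction w with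
  | nil => rfl
  | cons c w ih => rw [ev_cons, ev_cons, ev_cons, ih]; rfl

/-! ### the relators -/

section rels

variable {G : Type*} [Group G] {z i j k l x₁ x₂ y s d e : G}

/-- the letters of the certificate -/
def letters (i z x y s d e : G) : ℕ → G
  | 0 => i
  | 1 => i⁻¹
  | 2 => z
  | 3 => x
  | 4 => x⁻¹
  | 5 => y
  | 6 => y⁻¹
  | 7 => s
  | 8 => d
  | 9 => d⁻¹
  | 10 => e
  | 11 => e⁻¹
  | _ => 1

macro "unf" : tactic => `(tactic| simp only [ev, List.map_cons, List.map_nil, List.prod_cons, List.prod_nil, letters])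

/-- The relators hold. -/
theorem rels_G (R : Rules true false true z i j k l x₁ x₂ y s) (hd : Del z i j k l x₁ x₂ y s d)
    (he : Del z i j (l * z) (k * z) x₁ x₂⁻¹ y (y * s) e) (j1 : x₁ * (d * x₁ * d⁻¹) = d * x₁ * d⁻¹ * x₁)
    (j2 : e * (x₁ * x₂) * e⁻¹ = d * (x₁ * x₂⁻¹) * d⁻¹ * (d⁻¹ * (x₁ * x₂⁻¹) * d)⁻¹) :
    ∀ r ∈ CertData.rels, ev (letters i z x₁ y s d e) r = 1 := by
  have iz : z⁻¹ = z := inv_eq_of_mul_eq_one_left R.zz
  have ii : i⁻¹ = i * z := by
    rw [inv_eq_iff_mul_eq_one]; coll R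
  have ik : k⁻¹ = k * z := by
    rw [inv_eq_iff_mul_eq_one]; coll R
  have il : l⁻¹ = l * z := by
    rw [inv_eq_iff_mul_eq_one]; coll R
  have ix1 := inv_x₁ R
  have ix2 := inv_x₂ R
  have iy : y⁻¹ = y * z := by
    rw [inv_eq_iff_mul_eq_one]; coll R
  have is : s⁻¹ = s := by
    rw [inv_eq_iff_mul_eq_one]; coll R
  have ss := R.ss
  simp only [pw, cond_false] at ss
  have zz := R.zz
  have yy : y * y = z := R.yy
  have key : ∀ (a b : G) (A A' B : G), a * b = 1 → a * A = A' * a → A' * B = 1 → a * (A * (b * B)) = 1 := by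
    intro a b A A' B hab h1 h2
    calc a * (A * (b * B)) = (a * A) * b * B := by group
      _ = A' * (a * b) * B := by rw [h1]; group
      _ = 1 := by rw [hab, mul_one, h2]
  have r5 : d * (d * (d * 1)) = 1 := by
    have h := hd.d3
    rw [mul_one]
    rw [pow_succ, pow_two, mul_assoc] at h
    exact h
  have r6 : e * (e * (e * 1)) = 1 := by
    have h := he.d3
    rw [mul_one]
    rw [pow_succ, pow_two, mul_assoc] at h
    exact h
  have r8 : d * (z * (d⁻¹ * (s * 1))) = 1 := by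
    calc d * (z * (d⁻¹ * (s * 1))) = (d * z * d⁻¹) * s := by group
      _ = 1 := by rw [hd.dz, ss]
  have r12 : d * (s * (d⁻¹ * (z * (s * 1)))) = 1 := by
    calc d * (s * (d⁻¹ * (z * (s * 1)))) = (d * s * d⁻¹) * z * s := by group
      _ = s * (z * z) * s := by rw [hd.ds]; group
      _ = 1 := by rw [zz, mul_one, ss]
  have r13 : y * (d * (y⁻¹ * (z * (d * 1)))) = 1 := by
    calc y * (d * (y⁻¹ * (z * (d * 1)))) = (y * d * y⁻¹) * z * d := by group
      _ = d⁻¹ * (z * z) * d := by rw [hd.dy]; group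
      _ = 1 := by rw [zz]; group
  have r14 : e * (z * (e⁻¹ * (s * (y⁻¹ * 1)))) = 1 := by
    calc e * (z * (e⁻¹ * (s * (y⁻¹ * 1)))) = (e * z * e⁻¹) * s * y⁻¹ := by group
      _ = y * (s * s) * y⁻¹ := by rw [he.dz]; group
      _ = 1 := by rw [ss]; group
  have r15 : y * (e * (y⁻¹ * (z * (e * 1)))) = 1 := by
    calc y * (e * (y⁻¹ * (z * (e * 1)))) = (y * e * y⁻¹) * z * e := by group
      _ = e⁻¹ * (z * z) * e := by rw [he.dy]; group
      _ = 1 := by rw [zz]; group
  have r21 : e * (y * (s * (e⁻¹ * (z * (s * (y⁻¹ * 1)))))) = 1 := by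
    calc e * (y * (s * (e⁻¹ * (z * (s * (y⁻¹ * 1)))))) = (e * (y * s) * e⁻¹) * z * s * y⁻¹ := by group
      _ = y * s * (z * z) * s * y⁻¹ := by rw [he.ds]; group
      _ = y * (s * s) * y⁻¹ := by rw [zz]; group
      _ = 1 := by rw [ss]; group
  have r27 : x₁ * (d * (x₁ * (d⁻¹ * (x₁⁻¹ * (d * (x₁⁻¹ * (d⁻¹ * 1))))))) = 1 := by
    calc x₁ * (d * (x₁ * (d⁻¹ * (x₁⁻¹ * (d * (x₁⁻¹ * (d⁻¹ * 1)))))))
        = (x₁ * (d * x₁ * d⁻¹)) * (d * x₁ * d⁻¹ * x₁)⁻¹ := by group
      _ = 1 := by rw [j1]; group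
  have hik : i * (s * (i * s)) = i * k := by coll R
  have hjl : x₁ * (i * (x₁⁻¹ * (s * (x₁ * (i * (x₁⁻¹ * s)))))) = j * l := by
    simp only [ix1]; coll R
  have hr : x₁ * (s * (x₁ * s)) = x₁ * x₂ := by coll R
  have hk : x₁ * (s * (x₁⁻¹ * s)) = x₁ * x₂⁻¹ := by
    simp only [ix1, ix2]; coll R
  have hk' : s * (x₁ * (s * x₁⁻¹)) = (x₁ * x₂⁻¹)⁻¹ := by
    rw [mul_inv_rev, inv_inv]; simp only [ix1, ix2]; coll R
  have hilz : i * (s * (x₁ * (i * (x₁⁻¹ * (s * z))))) = i * (l * z) := by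
    simp only [ix1]; coll R
  have hjkz : x₁ * (i * (x₁⁻¹ * (s * (i * (s * z))))) = j * (k * z) := by
    simp only [ix1]; coll R
  have r29 : d * (i * (s * (i * (s * (d⁻¹ * (s * (i⁻¹ * (s * (i⁻¹ * 1))))))))) = 1 := by
    have h := key d d⁻¹ (i * k) (i * k) (s * (i⁻¹ * (s * (i⁻¹ * 1)))) (mul_inv_cancel d) hd.dik
      (by simp only [ii]; coll R)
    rw [← hik] at h
    simpa only [mul_assoc] using h
  have r30 : d * (x₁ * (s * (x₁ * (s * (d⁻¹ * (s * (x₁⁻¹ * (s * (x₁⁻¹ * 1))))))))) = 1 := by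
    have h := key d d⁻¹ (x₁ * x₂) (x₁ * x₂) (s * (x₁⁻¹ * (s * (x₁⁻¹ * 1)))) (mul_inv_cancel d) hd.dr
      (by simp only [ix1]; coll R)
    rw [← hr] at h
    simpa only [mul_assoc] using h
  have r31 : e * (x₁ * (s * (x₁⁻¹ * (s * (e⁻¹ * (s * (x₁ * (s * (x₁⁻¹ * 1))))))))) = 1 := by
    have h := key e e⁻¹ (x₁ * x₂⁻¹) (x₁ * x₂⁻¹) (s * (x₁ * (s * (x₁⁻¹ * 1)))) (mul_inv_cancel e) he.dr
      (by simp only [ix1, ix2]; coll R)
    rw [← hk] at h
    simpa only [mul_assoc] using h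
  have r40 : e * (i * (s * (x₁ * (i * (x₁⁻¹ * (s * (z * (e⁻¹ * (z * (s * (x₁ * (i⁻¹ * (x₁⁻¹ *
      (s * (i⁻¹ * 1))))))))))))))) = 1 := by
    have h := key e e⁻¹ (i * (l * z)) (i * (l * z)) (z * (s * (x₁ * (i⁻¹ * (x₁⁻¹ * (s * (i⁻¹ * 1)))))))
      (mul_inv_cancel e) he.dik (by simp only [ix1, ii]; coll R)
    rw [← hilz] at h
    simpa only [mul_assoc] using h
  have r41 : e * (x₁ * (i * (x₁⁻¹ * (s * (i * (s * (z * (e⁻¹ * (z * (s * (i⁻¹ * (s * (x₁ *
      (i⁻¹ * (x₁⁻¹ * 1))))))))))))))) = 1 := by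
    have h := key e e⁻¹ (j * (k * z)) (j * (k * z)) (z * (s * (i⁻¹ * (s * (x₁ * (i⁻¹ * (x₁⁻¹ * 1)))))))
      (mul_inv_cancel e) he.djl (by simp only [ix1, ii]; coll R)
    rw [← hjkz] at h
    simpa only [mul_assoc] using h
  have r42 : d * (x₁ * (i * (x₁⁻¹ * (s * (x₁ * (i * (x₁⁻¹ * (s * (d⁻¹ * (s * (x₁ * (i⁻¹ * (x₁⁻¹ *
      (s * (x₁ * (i⁻¹ * (x₁⁻¹ * 1))))))))))))))))) = 1 := by
    have h := key d d⁻¹ (j * l) (j * l) (s * (x₁ * (i⁻¹ * (x₁⁻¹ * (s * (x₁ * (i⁻¹ * (x₁⁻¹ * 1))))))))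
      (mul_inv_cancel d) hd.djl (by simp only [ix1, ii]; coll R)
    rw [← hjl] at h
    simpa only [mul_assoc] using h
  have r43 : e * (x₁ * (s * (x₁ * (s * (e⁻¹ * (d⁻¹ * (x₁ * (s * (x₁⁻¹ * (s * (d * (d * (s * (x₁ * (s *
      (x₁⁻¹ * (d⁻¹ * 1))))))))))))))))) = 1 := by
    calc e * (x₁ * (s * (x₁ * (s * (e⁻¹ * (d⁻¹ * (x₁ * (s * (x₁⁻¹ * (s * (d * (d * (s * (x₁ * (s *
      (x₁⁻¹ * (d⁻¹ * 1)))))))))))))))))
        = (e * (x₁ * (s * (x₁ * s))) * e⁻¹) * (d⁻¹ * (x₁ * (s * (x₁⁻¹ * s))) * d) *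
            (d * (s * (x₁ * (s * x₁⁻¹))) * d⁻¹) := by group
      _ = (e * (x₁ * x₂) * e⁻¹) * (d⁻¹ * (x₁ * x₂⁻¹) * d) * (d * (x₁ * x₂⁻¹)⁻¹ * d⁻¹) := by
          rw [hr, hk, hk']
      _ = 1 := by rw [j2]; group
  simp only [CertData.rels, List.forall_mem_cons]
  refine ⟨?_, ?_, ?_, ?_, ?_, ?_, ?_, ?_, ?_, ?_, ?_, ?_, ?_, ?_, ?_, ?_, ?_, ?_, ?_, ?_, ?_, ?_, ?_, ?_, ?_, ?_, ?_, ?_, ?_, ?_, ?_, ?_, ?_, ?_, ?_, ?_, ?_, ?_, ?_, ?_, ?_, ?_, ?_, fun _ h => absurd h (by simp)⟩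
  · unf; try simp only [ix1, ii, iy]
    coll R
  · unf; try simp only [ix1, ii, iy]
    coll R
  · unf; try simp only [ix1, ii, iy]
    coll R
  · unf; try simp only [ix1, ii, iy]
    coll R
  · unf; exact r5
  · unf; exact r6
  · unf; try simp only [ix1, ii, iy]
    coll R
  · unf; exact r8
  · unf; try simp only [ix1, ii, iy]
    coll R
  · unf; try simp only [ix1, ii, iy]
    coll R
  · unf; try simp only [ix1, ii, iy]
    coll R
  · unf; exact r12
  · unf; exact r13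
  · unf; exact r14
  · unf; exact r15
  · unf; try simp only [ix1, ii, iy]
    coll R
  · unf; try simp only [ix1, ii, iy]
    coll R
  · unf; try simp only [ix1, ii, iy]
    coll R
  · unf; try simp only [ix1, ii, iy]
    coll R
  · unf; try simp only [ix1, ii, iy]
    coll R
  · unf; exact r21
  · unf; try simp only [ix1, ii, iy]
    coll R
  · unf; try simp only [ix1, ii, iy]
    coll R
  · unf; try simp only [ix1, ii, iy]
    coll R
  · unf; try simp only [ix1, ii, iy]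
    coll R
  · unf; try simp only [ix1, ii, iy]
    coll R
  · unf; exact r27
  · unf; try simp only [ix1, ii, iy]
    coll R
  · unf; exact r29
  · unf; exact r30
  · unf; exact r31
  · unf; try simp only [ix1, ii, iy]
    coll R
  · unf; try simp only [ix1, ii, iy]
    coll R
  · unf; try simp only [ix1, ii, iy]
    coll R
  · unf; try simp only [ix1, ii, iy]
    coll R
  · unf; try simp only [ix1, ii, iy]
    coll R
  · unf; try simp only [ix1, ii, iy]
    coll R
  · unf; try simp only [ix1, ii, iy]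
    coll R
  · unf; try simp only [ix1, ii, iy]
    coll R
  · unf; exact r40
  · unf; exact r41
  · unf; exact r42
  · unf; exact r43

theorem letters_inv (x : ℕ) (hs : s * s = 1) (hz : z * z = 1) (hx : x < 12) :
    letters i z x₁ y s d e x * letters i z x₁ y s d e (CertData.C.inv x) = 1 := by
  interval_cases x
  · exact mul_inv_cancel i
  · exact inv_mul_cancel i
  · exact hz
  · exact mul_inv_cancel x₁
  · exact inv_mul_cancel x₁
  · exact mul_inv_cancel y
  · exact inv_mul_cancel y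
  · exact hs
  · exact mul_inv_cancel d
  · exact inv_mul_cancel d
  · exact mul_inv_cancel e
  · exact inv_mul_cancel e

end rels

/-! ### the identification -/

open Cfsg.Agent.SporadicStructure.FieldNine

theorem card_psu : Nat.card (Cfsg.PSU 4 K9 3) = 3265920 := by
  have h := Cfsg.Agent.S0280.result (F := K9) (q := 3) K9.card_K9' 4 (by norm_num)
  have h1 : Nat.gcd 4 (3 + 1) = 4 := by decide
  have h2 : 3 ^ (4 * (4 - 1) / 2) * ∏ i ∈ Finset.range 4,
      (if Even i then 3 ^ (i + 1) + 1 else 3 ^ (i + 1) - 1) = 52254720 := by decide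
  rw [h1, h2] at h
  omega

/-- the permutation group -/
def M : Subgroup (Equiv.Perm (Fin 280)) := Subgroup.closure (Set.range SporadicStructure.U43Perm.σ)

theorem psu_iso : Nonempty (Cfsg.PSU 4 K9 3 ≃* M) :=
  SporadicStructure.PsuMatch.psu_iso_closure_of_match K9.card_K9' (by norm_num)
    SporadicStructure.U43Herm.P SporadicStructure.U43Herm.P_nonprop SporadicStructure.U43Herm.M
    SporadicStructure.U43Perm.σ SporadicStructure.U43Herm.act
    (card_psu.le.trans SporadicStructure.U43Perm.card_ge)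

theorem simple_M : IsSimpleGroup M := by
  obtain ⟨e⟩ := psu_iso
  have hs : IsSimpleGroup (Cfsg.PSU 4 K9 3) := S0283.result K9.card_K9' 4 (by norm_num) (by norm_num)
  exact (MulEquiv.isSimpleGroup_congr e).mp hs

variable {G : Type*} [Group G] {z i j k l x₁ x₂ y s d e : G}

/-- the order of the group generated by the pairs -/
theorem card_pairs (R : Rules true false true z i j k l x₁ x₂ y s) (hd : Del z i j k l x₁ x₂ y s d)
    (he : Del z i j (l * z) (k * z) x₁ x₂⁻¹ y (y * s) e) (j1 : x₁ * (d * x₁ * d⁻¹) = d * x₁ * d⁻¹ * x₁)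
    (j2 : e * (x₁ * x₂) * e⁻¹ = d * (x₁ * x₂⁻¹) * d⁻¹ * (d⁻¹ * (x₁ * x₂⁻¹) * d)⁻¹) :
    Finite (Subgroup.closure ((fun t => (letters i z x₁ y s d e t, PermModel.P t)) '' {x | x < 12})) ∧
      Nat.card (Subgroup.closure ((fun t => (letters i z x₁ y s d e t, PermModel.P t)) '' {x | x < 12}))
        ≤ 3265920 := by
  have R2 := Rules.prod R PermModel.rules_P
  obtain ⟨hf, hc⟩ := card_closure_rules R2
  set H : Subgroup (G × Equiv.Perm (Fin 280)) := Subgroup.closure
    {(i, PermModel.P 0), (j, PermModel.P 13), (k, PermModel.P 15), (l, PermModel.P 17), (x₁, PermModel.P 3),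
      (x₂, PermModel.P 19), (y, PermModel.P 5), (s, PermModel.P 7)} with hH
  set g : ℕ → G × Equiv.Perm (Fin 280) := fun t => (letters i z x₁ y s d e t, PermModel.P t) with hg
  have ss := R.ss
  simp only [pw, cond_false] at ss
  have m0 : (i, PermModel.P 0) ∈ H := Subgroup.subset_closure (by simp)
  have hyp : Hyp CertData.C H g := by
    apply hyp_of_checks H g CertData.C CertData.rels CertData.subw
    · exact Prod.ext rfl PermModel.P12
    · intro x hx
      exact ⟨(PermModel.inv_P x hx).1, Prod.ext (letters_inv x ss R.zz hx) (PermModel.inv_P x hx).2⟩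
    · intro r hr
      rw [hg, ev_prod]
      exact Prod.ext (rels_G R hd he j1 j2 r hr) (PermModel.rels_P r hr)
    · have h1 : ∀ a : ℕ, g a ∈ H → ev g [a] ∈ H := by
        intro a ha
        rw [ev_cons, ev_nil, mul_one]
        exact ha
      simp only [CertData.subw, List.forall_mem_cons]
      refine ⟨h1 _ m0, h1 _ (Subgroup.subset_closure (by simp [hg, letters])),
        h1 _ (Subgroup.subset_closure (by simp [hg, letters])),
        h1 _ (Subgroup.subset_closure (by simp [hg, letters])), h1 _ ?_, fun _ h => absurd h (by simp)⟩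
      have h2 : g 2 = (i, PermModel.P 0) * (i, PermModel.P 0) :=
        Prod.ext R.ii.symm PermModel.rules_P.ii.symm
      rw [h2]
      exact mul_mem m0 m0
    · decide +kernel
  have h3 := card_closure_le CertData.C H g hyp CertAll.part
  exact ⟨h3.1, h3.2.trans ((Nat.mul_le_mul_left 2835 hc).trans (by norm_num))⟩

/-- the two sets of generators -/
theorem closure_letters (R : Rules true false true z i j k l x₁ x₂ y s) :
    Subgroup.closure (letters i z x₁ y s d e '' {x | x < 12}) =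
      Subgroup.closure {i, j, k, l, x₁, x₂, y, s, d, e} := by
  apply le_antisymm
  · rw [Subgroup.closure_le]
    have mi : i ∈ Subgroup.closure ({i, j, k, l, x₁, x₂, y, s, d, e} : Set G) :=
      Subgroup.subset_closure (by simp)
    rintro _ ⟨t, ht, rfl⟩
    have ht' : t < 12 := ht
    interval_cases t
    · exact mi
    · exact inv_mem mi
    · show z ∈ _
      rw [← R.ii]; exact mul_mem mi mi
    · exact Subgroup.subset_closure (by simp [letters])
    · exact inv_mem (Subgroup.subset_closure (by simp))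
    · exact Subgroup.subset_closure (by simp [letters])
    · exact inv_mem (Subgroup.subset_closure (by simp))
    · exact Subgroup.subset_closure (by simp [letters])
    · exact Subgroup.subset_closure (by simp [letters])
    · exact inv_mem (Subgroup.subset_closure (by simp))
    · exact Subgroup.subset_closure (by simp [letters])
    · exact inv_mem (Subgroup.subset_closure (by simp))
  · rw [Subgroup.closure_le]
    set K := Subgroup.closure (letters i z x₁ y s d e '' {x | x < 12}) with hK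
    have m : ∀ n, n < 12 → letters i z x₁ y s d e n ∈ K := fun n hn => Subgroup.subset_closure ⟨n, hn, rfl⟩
    have mi : i ∈ K := m 0 (by norm_num)
    have mx : x₁ ∈ K := m 3 (by norm_num)
    have my : y ∈ K := m 5 (by norm_num)
    have ms : s ∈ K := m 7 (by norm_num)
    have md : d ∈ K := m 8 (by norm_num)
    have me : e ∈ K := m 10 (by norm_num)
    have mj : j ∈ K := by
      have : j = x₁ * i * x₁⁻¹ := by rw [R.xi]; group
      rw [this]; exact mul_mem (mul_mem mx mi) (inv_mem mx)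
    have mk : k ∈ K := by
      have : k = s * i * s⁻¹ := by rw [R.si]; group
      rw [this]; exact mul_mem (mul_mem ms mi) (inv_mem ms)
    have ml : l ∈ K := by
      have : l = s * j * s⁻¹ := by rw [R.sj]; group
      rw [this]; exact mul_mem (mul_mem ms mj) (inv_mem ms)
    have mw : x₂ ∈ K := by
      have : x₂ = s * x₁ * s⁻¹ := by rw [R.sx]; group
      rw [this]; exact mul_mem (mul_mem ms mx) (inv_mem ms)
    rintro c (rfl | rfl | rfl | rfl | rfl | rfl | rfl | rfl | rfl | rfl)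
    · exact mi
    · exact mj
    · exact mk
    · exact ml
    · exact mx
    · exact mw
    · exact my
    · exact ms
    · exact md
    · exact me

/-- **Identification.** -/
theorem ident_aux (R : Rules true false true z i j k l x₁ x₂ y s) (hz : z ≠ 1) (hd : Del z i j k l x₁ x₂ y s d)
    (he : Del z i j (l * z) (k * z) x₁ x₂⁻¹ y (y * s) e) (j1 : x₁ * (d * x₁ * d⁻¹) = d * x₁ * d⁻¹ * x₁)
    (j2 : e * (x₁ * x₂) * e⁻¹ = d * (x₁ * x₂⁻¹) * d⁻¹ * (d⁻¹ * (x₁ * x₂⁻¹) * d)⁻¹) :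
    Nonempty (↥(Subgroup.closure ({i, j, k, l, x₁, x₂, y, s, d, e} : Set G)) ≃* Cfsg.PSU 4 K9 3) := by
  obtain ⟨hf, hc⟩ := card_pairs R hd he j1 j2
  set L := Subgroup.closure ((fun t => (letters i z x₁ y s d e t, PermModel.P t)) '' {x | x < 12}) with hL
  have h1 : L.map (MonoidHom.fst G (Equiv.Perm (Fin 280))) =
      Subgroup.closure ({i, j, k, l, x₁, x₂, y, s, d, e} : Set G) := by
    rw [hL, Graph.map_fst_closure (letters i z x₁ y s d e) PermModel.P, closure_letters R]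
  have h2 : M ≤ L.map (MonoidHom.snd G (Equiv.Perm (Fin 280))) := by
    rw [hL, Graph.map_snd_closure (letters i z x₁ y s d e) PermModel.P]
    exact PermModel.range_le
  have h3 : L.map (MonoidHom.fst G (Equiv.Perm (Fin 280))) ≠ ⊥ := by
    rw [h1]
    intro h
    apply hz
    have hi : i ∈ Subgroup.closure ({i, j, k, l, x₁, x₂, y, s, d, e} : Set G) :=
      Subgroup.subset_closure (by simp)
    rw [h, Subgroup.mem_bot] at hi
    rw [← R.ii, hi, mul_one]
  obtain ⟨_, ⟨f⟩⟩ := Graph.iso_of_graph L M simple_M h2 (hc.trans SporadicStructure.U43Perm.card_ge) h3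
  obtain ⟨f'⟩ := psu_iso
  rw [h1] at f
  exact ⟨f.trans f'.symm⟩

/-- **Identification of `U₄(3)`** over any field with nine elements. -/
theorem ident (R : Rules true false true z i j k l x₁ x₂ y s) (hz : z ≠ 1) (hd : Del z i j k l x₁ x₂ y s d)
    (he : Del z i j (l * z) (k * z) x₁ x₂⁻¹ y (y * s) e) (j1 : x₁ * (d * x₁ * d⁻¹) = d * x₁ * d⁻¹ * x₁)
    (j2 : e * (x₁ * x₂) * e⁻¹ = d * (x₁ * x₂⁻¹) * d⁻¹ * (d⁻¹ * (x₁ * x₂⁻¹) * d)⁻¹)
    (F : Type*) [Field F] [Fintype F] (hF : Fintype.card F = 9) :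
    Nonempty (↥(Subgroup.closure ({i, j, k, l, x₁, x₂, y, s, d, e} : Set G)) ≃* Cfsg.PSU 4 F 3) := by
  obtain ⟨f⟩ := ident_aux R hz hd he j1 j2
  obtain ⟨f'⟩ := SporadicStructure.PsuMatch.psu_iso_of_card (F := F) (K := K9)
    (hF.trans K9.card_K9.symm) 4 3
  exact ⟨f.trans f'.symm⟩

/-- the order and simplicity of `⟨C, d, e⟩` -/
theorem card_simple (R : Rules true false true z i j k l x₁ x₂ y s) (hz : z ≠ 1)
    (hd : Del z i j k l x₁ x₂ y s d)
    (he : Del z i j (l * z) (k * z) x₁ x₂⁻¹ y (y * s) e) (j1 : x₁ * (d * x₁ * d⁻¹) = d * x₁ * d⁻¹ * x₁)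
    (j2 : e * (x₁ * x₂) * e⁻¹ = d * (x₁ * x₂⁻¹) * d⁻¹ * (d⁻¹ * (x₁ * x₂⁻¹) * d)⁻¹) :
    Nat.card ↥(Subgroup.closure ({i, j, k, l, x₁, x₂, y, s, d, e} : Set G)) = 3265920 ∧
      IsSimpleGroup ↥(Subgroup.closure ({i, j, k, l, x₁, x₂, y, s, d, e} : Set G)) := by
  obtain ⟨f⟩ := ident_aux R hz hd he j1 j2
  have hs : IsSimpleGroup (Cfsg.PSU 4 K9 3) := S0283.result K9.card_K9' 4 (by norm_num) (by norm_num)
  exact ⟨by rw [Nat.card_congr f.toEquiv, card_psu], (MulEquiv.isSimpleGroup_congr f).mpr hs⟩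

end Cfsg.Agent.LargeExtra.W2.U43.Ident
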