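import Cfsg.Agent.LargeExtra.W2.U43.ExistsD

/-!
# S1759, `U₄(3)`: one class of involutions (helper893)
-/

set_option autoImplicit false
set_option linter.unusedSimpArgs false
set_option linter.unusedVariables false

namespace Cfsg.Agent.LargeExtra.W2.U43.InvClass

open Cfsg.Agent.Co2Type.Quad Cfsg.Agent.LargeExtra.W2.CM Cfsg.Agent.LargeExtra.W2.U43
open Cfsg.Agent.LargeExtra.W2.U43.ExistsD

def tys : T := mu ty ts

def conjs : List T :=
  [T.one, ty].flatMap fun e => [T.one, ti, tj, mu ti tj].flatMap fun q =>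
    [T.one, tx₁, mu tx₁ tx₁].flatMap fun a => [T.one, tx₂, mu tx₂ tx₂].map fun b => mu q (mu a (mu b e))

def chk : T → Bool := fun t =>
  !(T.beq (mu t t) T.one) || (T.beq t T.one || anyL conjs (fun c => anyL [tz, tik, ts, tys]
    (fun r => T.beq (mu c t) (mu r c))))

theorem fact : allT chk = true := by decide +kernel

variable {G : Type*} [Group G] {Q : Subgroup G} {z i j k l x₁ x₂ y s d e : G}

/-- The classes of involutions of `C_G(z)`: `z`, `i k`, `s`, `y s`. -/
theorem inv_class [Finite G] (h : Tw Q z i j k l x₁ x₂ y s) {u : G} (hu : u * z = z * u) (u2 : u * u = 1)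
    (u1 : u ≠ 1) : ∃ c, c * z = z * c ∧
      (c * u = z * c ∨ c * u = i * k * c ∨ c * u = s * c ∨ c * u = y * s * c) := by
  have R := h.rules
  have inj := ev_inj h.toCase9aa R
  set EV : T → G := fun t => t.ev z i j k l x₁ x₂ y s with hEV
  have emul : ∀ t u, EV t * EV u = EV (mu t u) := fun t u => ev_mul R t u
  have e1 : EV T.one = 1 := ev_one
  have ez : EV tz = z := ev_z
  have es : EV ts = s := ev_s
  have eik : EV tik = i * k := by rw [tik, ← emul]; simp only [hEV, ev_i, ev_k]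
  have eys : EV tys = y * s := by rw [tys, ← emul]; simp only [hEV, ev_y, ev_s]
  obtain ⟨t, rfl⟩ : ∃ t, u = EV t := exists_ev h.toCase9aa R hu
  have h1 : mu t t = T.one := by
    apply inj
    show EV (mu t t) = EV T.one
    rw [← emul, u2, e1]
  have h2 : t ≠ T.one := by
    rintro rfl
    exact u1 e1
  have h3 := allT_spec fact t
  simp only [chk, Bool.or_eq_true, Bool.not_eq_true'] at h3
  rcases h3 with h3 | h3 | h3
  · rw [← Bool.not_eq_true, T.beq_iff] at h3
    exact absurd h1 h3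
  · exact absurd (T.eq_of_beq h3) h2
  · obtain ⟨c, -, hc⟩ := anyL_mem h3
    obtain ⟨r, hr, hc⟩ := anyL_mem hc
    have hc := T.eq_of_beq hc
    refine ⟨EV c, ev_comm R c, ?_⟩
    rw [emul, hc, ← emul]
    simp only [List.mem_cons, List.not_mem_nil, or_false] at hr
    rcases hr with rfl | rfl | rfl | rfl
    · exact Or.inl (by rw [ez])
    · exact Or.inr (Or.inl (by rw [eik]))
    · exact Or.inr (Or.inr (Or.inl (by rw [es])))
    · exact Or.inr (Or.inr (Or.inr (by rw [eys])))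

/-- `z` is conjugate to `i k` under `⟨C, d⟩`. -/
theorem conj_ik (h : Tw Q z i j k l x₁ x₂ y s) (hd : Del z i j k l x₁ x₂ y s d) :
    (j⁻¹ * d⁻¹ * i * d * d) * z * (j⁻¹ * d⁻¹ * i * d * d)⁻¹ = i * k := by
  have R := h.rules
  have d1 : d * z = s * d := by
    rw [← hd.dz]; group
  have d2 : d * s = s * z * d := by
    rw [← hd.ds]; group
  have e1 : d * d * z = s * z * (d * d) := by
    rw [mul_assoc, d1, ← mul_assoc, d2, mul_assoc]
  have e2 : i * (s * z) = i * k * s * i := by coll R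
  have e3 : d⁻¹ * (i * k * s) = i * k * z * d⁻¹ := by
    rw [inv_mul_eq_iff_eq_mul]
    rw [← mul_assoc, ← mul_assoc, hd.dik, mul_assoc (i * k), d1]
    group
  have e4 : j⁻¹ * (i * k * z) = i * k * j⁻¹ := by
    rw [inv_mul_eq_iff_eq_mul, ← mul_assoc, eq_mul_inv_iff_mul_eq]
    coll R
  calc (j⁻¹ * d⁻¹ * i * d * d) * z * (j⁻¹ * d⁻¹ * i * d * d)⁻¹
      = (j⁻¹ * d⁻¹ * i) * (d * d * z) * (j⁻¹ * d⁻¹ * i * d * d)⁻¹ := by group
    _ = (j⁻¹ * d⁻¹) * (i * (s * z)) * (d * d) * (j⁻¹ * d⁻¹ * i * d * d)⁻¹ := by rw [e1]; group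
    _ = j⁻¹ * (d⁻¹ * (i * k * s)) * (i * (d * d)) * (j⁻¹ * d⁻¹ * i * d * d)⁻¹ := by rw [e2]; group
    _ = (j⁻¹ * (i * k * z)) * (d⁻¹ * (i * (d * d))) * (j⁻¹ * d⁻¹ * i * d * d)⁻¹ := by rw [e3]; group
    _ = i * k := by rw [e4]; group

/-- One class of involutions in a subgroup of order `|U₄(3)|` containing `C_G(z)`, `d`, `e`. -/
theorem one_class [Finite G] (h : Tw Q z i j k l x₁ x₂ y s) (hd : Del z i j k l x₁ x₂ y s d)
    (he : Del z i j (l * z) (k * z) x₁ x₂⁻¹ y (y * s) e) (H : Subgroup G)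
    (hC : Subgroup.centralizer ({z} : Set G) ≤ H) (hdH : d ∈ H) (heH : e ∈ H)
    (hcard : Nat.card H = 3265920) : ∀ x ∈ H, orderOf x = 2 → ∃ g ∈ H, g * z * g⁻¹ = x := by
  have R := h.rules
  have mC : ∀ {c : G}, c * z = z * c → c ∈ H := fun hc => hC (Subgroup.mem_centralizer_singleton_iff.2 hc)
  -- involutions of `C_G(z)`
  have key : ∀ u : G, u * z = z * u → u * u = 1 → u ≠ 1 → ∃ g ∈ H, g * z * g⁻¹ = u := by
    intro u h1 h2 h3
    have hdz : d * z * d⁻¹ = s := hd.dz
    have hez : e * z * e⁻¹ = y * s := he.dz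
    have fin : ∀ {c w g : G}, c * z = z * c → c * u = w * c → g ∈ H → g * z * g⁻¹ = w →
        ∃ g ∈ H, g * z * g⁻¹ = u := by
      intro c w g hc hw hg hgw
      refine ⟨c⁻¹ * g, mul_mem (inv_mem (mC hc)) hg, ?_⟩
      calc c⁻¹ * g * z * (c⁻¹ * g)⁻¹ = c⁻¹ * (g * z * g⁻¹) * c := by group
        _ = c⁻¹ * (w * c) := by rw [hgw]; group
        _ = u := by rw [← hw]; group
    obtain ⟨c, hc, h4 | h4 | h4 | h4⟩ := inv_class h h1 h2 h3
    · exact fin hc h4 (one_mem H) (by group)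
    · refine fin hc h4 ?_ (conj_ik h hd)
      have hi : i ∈ H := mC (by coll R)
      have hj : j ∈ H := mC (by coll R)
      exact mul_mem (mul_mem (mul_mem (mul_mem (inv_mem hj) (inv_mem hdH)) hi) hdH) hdH
    · exact fin hc h4 hdH hdz
    · exact fin hc h4 heH hez
  -- Sylow
  intro x hx hx2
  haveI : Fact (Nat.Prime 2) := ⟨Nat.prime_two⟩
  let C := Subgroup.centralizer ({z} : Set G)
  have hCc : Nat.card C = 1152 := h.card_cent
  obtain ⟨P⟩ : Nonempty (Sylow 2 C) := inferInstance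
  have hPc : Nat.card P = 2 ^ 7 := by
    rw [Sylow.card_eq_multiplicity, hCc]
    have : (1152 : ℕ).factorization 2 = 7 := by
      have : (1152 : ℕ) = 2 ^ 7 * 9 := by norm_num
      rw [this, Nat.factorization_mul (by norm_num) (by norm_num), Nat.Prime.factorization_pow Nat.prime_two]
      simp [Nat.factorization_eq_zero_of_not_dvd]
    rw [this]
  let P' : Subgroup H := (P : Subgroup C).map (Subgroup.inclusion hC)
  have hP'c : Nat.card P' = 2 ^ (Nat.card H).factorization 2 := by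
    have h1 : Nat.card P' = Nat.card P :=
      Nat.card_congr ((P : Subgroup C).equivMapOfInjective _ (Subgroup.inclusion_injective hC)).toEquiv.symm
    rw [h1, hPc, hcard]
    have : (3265920 : ℕ).factorization 2 = 7 := by
      have : (3265920 : ℕ) = 2 ^ 7 * 25515 := by norm_num
      rw [this, Nat.factorization_mul (by norm_num) (by norm_num), Nat.Prime.factorization_pow Nat.prime_two]
      simp [Nat.factorization_eq_zero_of_not_dvd]
    rw [this]
  let S : Sylow 2 H := Sylow.ofCard P' hP'c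
  have hx' : IsPGroup 2 (Subgroup.zpowers (⟨x, hx⟩ : H)) := by
    apply IsPGroup.of_card (n := 1)
    rw [Nat.card_zpowers, Subgroup.orderOf_mk, hx2, pow_one]
  obtain ⟨S', hS'⟩ := hx'.exists_le_sylow
  obtain ⟨g, hg⟩ := MulAction.exists_smul_eq H S' S
  have hxS : (⟨x, hx⟩ : H) ∈ (S' : Subgroup H) := hS' (Subgroup.mem_zpowers _)
  have hgx : g * ⟨x, hx⟩ * g⁻¹ ∈ (S : Subgroup H) := by
    rw [← hg]
    exact Subgroup.mem_map.2 ⟨⟨x, hx⟩, hxS, rfl⟩
  obtain ⟨c, hc, hcg⟩ := Subgroup.mem_map.1 hgx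
  have hc' : (c : G) = g * x * (g : G)⁻¹ := congrArg Subtype.val hcg
  have hx3 : x * x = 1 := by rw [← pow_two, ← hx2]; exact pow_orderOf_eq_one x
  have hx4 : x ≠ 1 := by
    rintro rfl
    rw [orderOf_one] at hx2
    exact absurd hx2 (by norm_num)
  obtain ⟨w, hw, hwx⟩ := key (c : G) (Subgroup.mem_centralizer_singleton_iff.1 c.2)
    (by
      rw [hc']
      calc (g : G) * x * (g : G)⁻¹ * (g * x * (g : G)⁻¹) = g * (x * x) * (g : G)⁻¹ := by group
        _ = 1 := by rw [hx3]; group)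
    (by
      rw [hc']
      intro h'
      apply hx4
      calc x = (g : G)⁻¹ * (g * x * (g : G)⁻¹) * g := by group
        _ = 1 := by rw [h']; group)
  refine ⟨(g : G)⁻¹ * w, mul_mem (inv_mem g.2) hw, ?_⟩
  calc (g : G)⁻¹ * w * z * ((g : G)⁻¹ * w)⁻¹ = (g : G)⁻¹ * (w * z * w⁻¹) * g := by group
    _ = x := by rw [hwx, hc']; group

end Cfsg.Agent.LargeExtra.W2.U43.InvClass
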