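import Cfsg.Agent.LargeExtra.W2.U43.ThreeLoc
import Cfsg.Agent.Lib.KleinGen

/-!
# `U₄(3)` (S1759): the second 3-local relation (helper865)

* `inv_mem` : the elements of order three of `C_G(ρ, κ)` inverted by `z` lie in `⟨κ_s, κ_{sz}⟩`.
* `j2` : `e ρ e⁻¹ = κ_s κ_{sz}⁻¹` for `e` or for `z e z⁻¹`, `κ_s = d κ d⁻¹`, `κ_{sz} = d⁻¹ κ d`.
-/

set_option autoImplicit false
set_option linter.unusedSimpArgs false
set_option linter.unusedVariables false

namespace Cfsg.Agent.LargeExtra.W2.U43.ThreeLocJ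

open Cfsg.Agent.LargeExtra.W2.CM Cfsg.Agent.LargeExtra.W2.U43 Cfsg.Agent.LargeExtra.W2.ThreeLocal
open Cfsg.Agent.LargeExtra.W2.U43.ThreeLoc

section general

variable {G : Type*} [Group G]

theorem conj_comm {g a b : G} (h : Commute a b) : Commute (g * a * g⁻¹) (g * b * g⁻¹) := by
  show g * a * g⁻¹ * (g * b * g⁻¹) = g * b * g⁻¹ * (g * a * g⁻¹)
  calc g * a * g⁻¹ * (g * b * g⁻¹) = g * (a * b) * g⁻¹ := by group
    _ = g * (b * a) * g⁻¹ := by rw [h.eq]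
    _ = _ := by group

/-- `{p u^a w^b}`, `p ∈ P`, commuting elements -/
def mGrp (P : Subgroup G) (u w : G) (huw : Commute u w) (hu : ∀ p ∈ P, Commute p u) (hw : ∀ p ∈ P, Commute p w) :
    Subgroup G where
  carrier := {g | ∃ p ∈ P, ∃ a b : ℤ, g = p * (u ^ a * w ^ b)}
  one_mem' := ⟨1, P.one_mem, 0, 0, by simp⟩
  mul_mem' := by
    rintro _ _ ⟨p, hp, a, b, rfl⟩ ⟨p', hp', a', b', rfl⟩
    refine ⟨p * p', P.mul_mem hp hp', a + a', b + b', ?_⟩
    have h1 : Commute (u ^ a * w ^ b) p' :=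
      ((hu p' hp').symm.zpow_left a).mul_left ((hw p' hp').symm.zpow_left b)
    have h2 : Commute (w ^ b) (u ^ a') := huw.symm.zpow_zpow b a'
    calc p * (u ^ a * w ^ b) * (p' * (u ^ a' * w ^ b'))
        = p * ((u ^ a * w ^ b) * p') * (u ^ a' * w ^ b') := by group
      _ = p * p' * (u ^ a * (w ^ b * u ^ a') * w ^ b') := by rw [h1.eq]; group
      _ = p * p' * (u ^ (a + a') * w ^ (b + b')) := by rw [h2.eq, zpow_add, zpow_add]; group
  inv_mem' := by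
    rintro _ ⟨p, hp, a, b, rfl⟩
    refine ⟨p⁻¹, P.inv_mem hp, -a, -b, ?_⟩
    have h1 : Commute (u ^ a * w ^ b) p := ((hu p hp).symm.zpow_left a).mul_left ((hw p hp).symm.zpow_left b)
    have h2 : Commute (u ^ a) (w ^ b) := huw.zpow_zpow a b
    rw [← h1.eq, mul_inv_rev, h2.eq, mul_inv_rev, zpow_neg, zpow_neg]

theorem inv_mem [Finite G] {z v ρ c y : G} (h : Loc z v ρ c)
    (hcent : ∀ g, g * z = z * g → g * ρ = ρ * g → g ∈ Subgroup.closure ({ρ, c, z, v} : Set G))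
    (hyρ : y * ρ = ρ * y) (hyz : y * z * y⁻¹ = v) (hyv : y * v * y⁻¹ = z * v) (hy3 : y ^ 3 = 1)
    (hcom : Commute c (y * c * y⁻¹)) {t : G} (htρ : t * ρ = ρ * t) (htc : t * c = c * t)
    (htz : z * t * z⁻¹ = t⁻¹) (ht3 : t ^ 3 = 1) :
    Commute (y * c * y⁻¹) (y⁻¹ * c * y) ∧ ∃ a b : ℤ, t = (y * c * y⁻¹) ^ a * (y⁻¹ * c * y) ^ b := by
  obtain ⟨F, hFodd, hFmem, -⟩ := exists_compl h hcent
  have hyy : y * y = y⁻¹ := by
    rw [eq_inv_iff_mul_eq_one, ← hy3, pow_succ, pow_two]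
  set cs := y * c * y⁻¹ with hcs
  set ct := y⁻¹ * c * y with hct
  have e1 : y * cs * y⁻¹ = ct := by
    calc y * cs * y⁻¹ = (y * y) * c * (y * y)⁻¹ := by rw [hcs]; group
      _ = ct := by rw [hyy, inv_inv]
  have e2 : y * ct * y⁻¹ = c := by rw [hct]; group
  have k1 : Commute cs ct := by
    have := conj_comm (g := y) hcom
    rwa [e1] at this
  have k2 : Commute ct c := by
    have := conj_comm (g := y) k1
    rwa [e1, e2] at this
  have hρρ : y * ρ * y⁻¹ = ρ := by rw [hyρ]; group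
  have hρc : Commute ρ c := h.ρc
  have k3 : Commute ρ cs := by
    have := conj_comm (g := y) hρc
    rwa [hρρ] at this
  have k4 : Commute ρ ct := by
    have := conj_comm (g := y) k3
    rwa [hρρ, e1] at this
  have ku : ∀ p ∈ pGrp ρ c h.ρc, Commute p cs := by
    rintro p ⟨a, b, rfl⟩
    exact (k3.zpow_left a).mul_left (hcom.zpow_left b)
  have kw : ∀ p ∈ pGrp ρ c h.ρc, Commute p ct := by
    rintro p ⟨a, b, rfl⟩
    exact (k4.zpow_left a).mul_left (k2.symm.zpow_left b)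
  refine ⟨k1, ?_⟩
  -- `z` inverts `cs`, `ct`
  have hyzv : y * (z * v) * y⁻¹ = z := by
    have e : y * (z * v) * y⁻¹ = (y * z * y⁻¹) * (y * v * y⁻¹) := by group
    rw [e, hyz, hyv, ← mul_assoc, ← h.zv, mul_assoc, h.vv, mul_one]
  have i1 : z * cs * z⁻¹ = cs⁻¹ := by
    calc z * cs * z⁻¹ = (y * (z * v) * y⁻¹) * cs * (y * (z * v) * y⁻¹)⁻¹ := by rw [hyzv]
      _ = y * ((z * v) * c * (z * v)⁻¹) * y⁻¹ := by rw [hcs]; group
      _ = cs⁻¹ := by rw [h.zvc, hcs]; group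
  have hyvz : y⁻¹ * v * y = z := by rw [← hyz]; group
  have i2 : z * ct * z⁻¹ = ct⁻¹ := by
    calc z * ct * z⁻¹ = (y⁻¹ * v * y) * ct * (y⁻¹ * v * y)⁻¹ := by rw [hyvz]
      _ = y⁻¹ * (v * c * v⁻¹) * y := by rw [hct]; group
      _ = ct⁻¹ := by rw [h.vc, hct]; group
  set M := mGrp (pGrp ρ c h.ρc) cs ct k1 ku kw with hM
  have hFM : F ≤ M := by
    have inF : ∀ f ∈ F, ∀ g : G, g * f * g⁻¹ ∈ kGrp ρ c → g * f * g⁻¹ ∈ F := by
      intro f hf g hg
      rw [hFmem]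
      refine ⟨hg, ?_⟩
      have h1 := ((hFmem f).1 hf).2
      have : orderOf (g * f * g⁻¹) = orderOf f := by
        have := (MulAut.conj g).orderOf_eq f
        simpa using this
      rw [this]; exact h1
    refine Cfsg.Agent.Lib.KleinGen.le_of_klein F M hFodd z v h.zz h.vv h.zv ?_ ?_ ?_ ?_ ?_
    · intro f hf
      apply inF f hf
      exact Subgroup.mul_mem _ (Subgroup.mul_mem _ h.z_mem_k ((hFmem f).1 hf).1)
        (Subgroup.inv_mem _ h.z_mem_k)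
    · intro f hf
      apply inF f hf
      obtain ⟨⟨h1, a, h2⟩, -⟩ := (hFmem f).1 hf
      have hvρ : Commute v ρ := h.vρ
      have hfρ : Commute f ρ := h1
      refine ⟨((hvρ.mul_left hfρ).mul_left hvρ.inv_left).eq, -a, ?_⟩
      have hvc : v⁻¹ * c * v = c⁻¹ := by
        have := h.vc
        rw [h.v_inv] at this ⊢
        exact this
      calc v * f * v⁻¹ * c * (v * f * v⁻¹)⁻¹ = v * (f * (v⁻¹ * c * v) * f⁻¹) * v⁻¹ := by group
        _ = v * (f * c * f⁻¹)⁻¹ * v⁻¹ := by rw [hvc]; group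
        _ = (v * (c * ρ ^ a) * v⁻¹)⁻¹ := by rw [h2]; group
        _ = ((v * c * v⁻¹) * (v * ρ ^ a * v⁻¹))⁻¹ := by group
        _ = (c⁻¹ * ρ ^ a)⁻¹ := by
            have : v * ρ ^ a * v⁻¹ = ρ ^ a := by rw [(hvρ.zpow_right a).eq]; group
            rw [h.vc, this]
        _ = ρ ^ (-a) * c := by group
        _ = c * ρ ^ (-a) := (hρc.zpow_left (-a)).eq
    · rintro f ⟨hf, hfz⟩
      obtain ⟨⟨h1, -⟩, h2⟩ := (hFmem f).1 hf
      have h3 := hcent f (Subgroup.mem_centralizer_singleton_iff.1 hfz) h1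
      exact ⟨f, h.odd_mem h3 h2, 0, 0, by simp⟩
    · rintro f ⟨hf, hfv⟩
      obtain ⟨⟨h1, -⟩, h2⟩ := (hFmem f).1 hf
      have hfv' := Subgroup.mem_centralizer_singleton_iff.1 hfv
      have h3 : (y⁻¹ * f * y) * z = z * (y⁻¹ * f * y) := by
        have := conj_comm (g := y⁻¹) (show Commute f v from hfv')
        rw [inv_inv, hyvz] at this
        exact this.eq
      have h4 : (y⁻¹ * f * y) * ρ = ρ * (y⁻¹ * f * y) := by
        have e : y⁻¹ * ρ * y = ρ := by rw [mul_assoc, ← hyρ]; group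
        have := conj_comm (g := y⁻¹) (show Commute f ρ from h1)
        rw [inv_inv, e] at this
        exact this.eq
      have h5 : Odd (orderOf (y⁻¹ * f * y)) := by
        have := (MulAut.conj y⁻¹).orderOf_eq f
        simp only [MulAut.conj_apply, inv_inv] at this
        rw [this]; exact h2
      obtain ⟨a, b, hab⟩ := h.odd_mem (hcent _ h3 h4) h5
      refine ⟨ρ ^ a, ⟨a, 0, by simp⟩, b, 0, ?_⟩
      calc f = y * (y⁻¹ * f * y) * y⁻¹ := by group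
        _ = y * (ρ ^ a * c ^ b) * y⁻¹ := by rw [hab]
        _ = (y * ρ ^ a * y⁻¹) * (y * c ^ b * y⁻¹) := by group
        _ = ρ ^ a * cs ^ b := by rw [← conj_zpow, ← conj_zpow, hρρ]
        _ = ρ ^ a * (cs ^ b * ct ^ (0 : ℤ)) := by simp
    · rintro f ⟨hf, hfv⟩
      obtain ⟨⟨h1, -⟩, h2⟩ := (hFmem f).1 hf
      have hfv' := Subgroup.mem_centralizer_singleton_iff.1 hfv
      have h3 : (y * f * y⁻¹) * z = z * (y * f * y⁻¹) := by
        have := conj_comm (g := y) (show Commute f (z * v) from hfv')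
        rw [hyzv] at this
        exact this.eq
      have h4 : (y * f * y⁻¹) * ρ = ρ * (y * f * y⁻¹) := by
        have := conj_comm (g := y) (show Commute f ρ from h1)
        rw [hρρ] at this
        exact this.eq
      have h5 : Odd (orderOf (y * f * y⁻¹)) := by
        have := (MulAut.conj y).orderOf_eq f
        simp only [MulAut.conj_apply] at this
        rw [this]; exact h2
      obtain ⟨a, b, hab⟩ := h.odd_mem (hcent _ h3 h4) h5
      refine ⟨ρ ^ a, ⟨a, 0, by simp⟩, 0, b, ?_⟩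
      have e3 : y⁻¹ * ρ * y = ρ := by rw [mul_assoc, ← hyρ]; group
      have e4 : y⁻¹ * ρ ^ a * y = ρ ^ a := by
        have := conj_zpow (i := a) (a := y⁻¹) (b := ρ)
        rw [inv_inv, e3] at this
        exact this.symm
      have e5 : y⁻¹ * c ^ b * y = ct ^ b := by
        have := conj_zpow (i := b) (a := y⁻¹) (b := c)
        rw [inv_inv] at this
        exact this.symm
      calc f = y⁻¹ * (y * f * y⁻¹) * y := by group
        _ = y⁻¹ * (ρ ^ a * c ^ b) * y := by rw [hab]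
        _ = (y⁻¹ * ρ ^ a * y) * (y⁻¹ * c ^ b * y) := by group
        _ = ρ ^ a * ct ^ b := by rw [e4, e5]
        _ = ρ ^ a * (cs ^ (0 : ℤ) * ct ^ b) := by simp
  have htF : t ∈ F := by
    rw [hFmem]
    refine ⟨⟨htρ, 0, by rw [htc]; group⟩, ?_⟩
    have h1 : orderOf t ∣ 3 := orderOf_dvd_of_pow_eq_one ht3
    exact Odd.of_dvd_nat (by decide) h1
  obtain ⟨p, hp, a, b, hab⟩ := hFM htF
  refine ⟨a, b, ?_⟩
  -- `p = 1`
  have h1 : z * p * z⁻¹ = p := by rw [h.z_comm hp]; group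
  have h2 : z * (cs ^ a * ct ^ b) * z⁻¹ = (cs ^ a * ct ^ b)⁻¹ := by
    calc z * (cs ^ a * ct ^ b) * z⁻¹ = (z * cs ^ a * z⁻¹) * (z * ct ^ b * z⁻¹) := by group
      _ = (cs⁻¹) ^ a * (ct⁻¹) ^ b := by rw [← conj_zpow, ← conj_zpow, i1, i2]
      _ = (ct ^ b * cs ^ a)⁻¹ := by
          rw [mul_inv_rev (ct ^ b) (cs ^ a), inv_zpow, inv_zpow]
      _ = (cs ^ a * ct ^ b)⁻¹ := by rw [(k1.zpow_zpow a b).eq]
  have h3 : p * (cs ^ a * ct ^ b)⁻¹ = p⁻¹ * (cs ^ a * ct ^ b)⁻¹ := by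
    have hc : Commute p (cs ^ a * ct ^ b) := ((ku p hp).zpow_right a).mul_right ((kw p hp).zpow_right b)
    calc p * (cs ^ a * ct ^ b)⁻¹ = (z * p * z⁻¹) * (z * (cs ^ a * ct ^ b) * z⁻¹) := by rw [h1, h2]
      _ = z * t * z⁻¹ := by rw [hab]; group
      _ = t⁻¹ := htz
      _ = ((cs ^ a * ct ^ b) * p)⁻¹ := by rw [hab, hc.eq]
      _ = _ := by rw [mul_inv_rev]
  have h4 : p = p⁻¹ := mul_right_cancel h3
  have h5 : p ^ 3 = 1 := h.p_cube hp
  have h6 : p * p = 1 := by nth_rewrite 2 [h4]; group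
  have h7 : p = 1 := by
    rw [pow_succ, pow_two, h6, one_mul] at h5
    exact h5
  rw [hab, h7, one_mul]

theorem zpow_three {x : G} (h3 : x ^ 3 = 1) (a : ℤ) : x ^ a = 1 ∨ x ^ a = x ∨ x ^ a = x⁻¹ := by
  have hmod : x ^ a = x ^ (a % 3) := by
    conv_lhs => rw [← Int.emod_add_mul_ediv a 3]
    rw [zpow_add, zpow_mul]
    have : x ^ (3 : ℤ) = 1 := by exact_mod_cast h3
    rw [this, one_zpow, mul_one]
  have h0 := Int.emod_nonneg a (show (3 : ℤ) ≠ 0 by norm_num)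
  have h1 := Int.emod_lt_of_pos a (show (0 : ℤ) < 3 by norm_num)
  have hcases : a % 3 = 0 ∨ a % 3 = 1 ∨ a % 3 = 2 := by omega
  rcases hcases with h2 | h2 | h2
  · left; rw [hmod, h2, zpow_zero]
  · right; left; rw [hmod, h2, zpow_one]
  · right; right
    rw [hmod, h2]
    have : x ^ (2 : ℤ) = x * x := by rw [show (2 : ℤ) = 1 + 1 by norm_num, zpow_add, zpow_one]
    rw [this]
    rw [pow_succ, pow_two] at h3
    exact eq_inv_of_mul_eq_one_left h3

end general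

section

variable {G : Type*} [Group G] {Q : Subgroup G} {z i j k l x₁ x₂ y s d e : G}

/-- **(J2)** -/
theorem j2 (h : Tw Q z i j k l x₁ x₂ y s) (hd : Del z i j k l x₁ x₂ y s d)
    (he : Del z i j (l * z) (k * z) x₁ x₂⁻¹ y (y * s) e) [Finite G] :
    e * (x₁ * x₂) * e⁻¹ = (d * (x₁ * x₂⁻¹) * d⁻¹) * (d⁻¹ * (x₁ * x₂⁻¹) * d)⁻¹ ∨
    (z * e * z⁻¹) * (x₁ * x₂) * (z * e * z⁻¹)⁻¹ = (d * (x₁ * x₂⁻¹) * d⁻¹) * (d⁻¹ * (x₁ * x₂⁻¹) * d)⁻¹ := by
  have R := h.rules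
  have hL := loc h
  set ρ := x₁ * x₂ with hρ
  set κ := x₁ * x₂⁻¹ with hκ
  have hρκ : Commute ρ κ := hL.ρc
  -- `t = e ρ e⁻¹`
  set t := e * ρ * e⁻¹ with ht
  have hzρ : Commute z ρ := hL.zρ
  have htρ : Commute ρ t := by
    have := j1κ h.mirror he
    rw [inv_inv] at this
    exact this
  have heκ : e * κ * e⁻¹ = κ := by
    rw [show e * κ = κ * e from he.dr]; group
  have htκ : Commute t κ := by
    have := conj_comm (g := e) hρκ
    rwa [heκ] at this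
  have ht3 : t ^ 3 = 1 := by rw [ht, conj_pow, hL.ρ3]; group
  have hρ1 : ρ ≠ 1 := hL.ρ1
  have ht1 : t ≠ 1 := by
    intro h1
    apply hρ1
    calc ρ = e⁻¹ * t * e := by rw [ht]; group
      _ = 1 := by rw [h1]; group
  -- `e : z → y s → y s z → z`
  have e1 : e * z * e⁻¹ = y * s := he.dz
  have e2 : e * (y * s) * e⁻¹ = y * s * z := he.ds
  have ysz : (y * s) * (y * s) = 1 := by coll R
  have yszz : (y * s) * z = z * (y * s) := by coll R
  have e3 : e * (y * s * z) * e⁻¹ = z := by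
    calc e * (y * s * z) * e⁻¹ = (e * (y * s) * e⁻¹) * (e * z * e⁻¹) := by group
      _ = y * s * z * (y * s) := by rw [e1, e2]
      _ = z * ((y * s) * (y * s)) := by rw [yszz]; group
      _ = z := by rw [ysz, mul_one]
  have htys : Commute t (y * s) := by
    have := conj_comm (g := e) hzρ
    rw [e1] at this
    exact this.symm
  have hsρ : s * ρ = ρ * s := hL.vρ
  have hyρ : y * ρ * y⁻¹ = ρ⁻¹ := by
    rw [mul_inv_eq_iff_eq_mul]
    have : ρ⁻¹ = ρ * ρ := by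
      rw [inv_eq_iff_mul_eq_one, ← hL.ρ3, pow_succ, pow_two]; group
    rw [this, hρ]; coll R
  have htz : z * t * z⁻¹ = t⁻¹ := by
    have h1 : (y * s * z) * ρ * (y * s * z)⁻¹ = ρ⁻¹ := by
      calc (y * s * z) * ρ * (y * s * z)⁻¹ = y * (s * (z * ρ * z⁻¹) * s⁻¹) * y⁻¹ := by group
        _ = y * (s * ρ * s⁻¹) * y⁻¹ := by rw [hzρ.eq]; group
        _ = y * ρ * y⁻¹ := by rw [hsρ]; group
        _ = ρ⁻¹ := hyρ
    calc z * t * z⁻¹ = (e * (y * s * z) * e⁻¹) * t * (e * (y * s * z) * e⁻¹)⁻¹ := by rw [e3]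
      _ = e * ((y * s * z) * ρ * (y * s * z)⁻¹) * e⁻¹ := by rw [ht]; group
      _ = t⁻¹ := by rw [h1, ht]; group
  obtain ⟨k1, a, b, hab⟩ := inv_mem hL (fun g hz hr => hcent h hz hr) hd.dr hd.dz (by rw [hd.ds, R.zs]) hd.d3
    (j1κ h hd) htρ.symm.eq htκ.eq htz ht3
  set cs := d * κ * d⁻¹ with hcs
  set ct := d⁻¹ * κ * d with hct
  have hcs3 : cs ^ 3 = 1 := by rw [hcs, conj_pow, hL.c3]; group
  have hct3 : ct ^ 3 = 1 := by
    have := conj_pow (i := 3) (a := d⁻¹) (b := κ)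
    rw [inv_inv, hL.c3] at this
    rw [hct, this]; group
  -- the action of `y s`
  have hyκ : y * κ * y⁻¹ = κ⁻¹ := by
    rw [mul_inv_eq_iff_eq_mul]
    have : κ⁻¹ = κ * κ := by
      rw [inv_eq_iff_mul_eq_one, ← hL.c3, pow_succ, pow_two]; group
    rw [this, hκ, inv_x₂ R]; coll R
  have zz' : z⁻¹ = z := inv_eq_of_mul_eq_one_left R.zz
  have hyd : y * d * y⁻¹ = d⁻¹ * z := hd.dy
  have hzκ : Commute z κ := hL.zc
  have hzκi : z * κ⁻¹ * z⁻¹ = κ⁻¹ := by rw [hzκ.inv_right.eq]; group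
  have ycs : y * cs * y⁻¹ = ct⁻¹ := by
    calc y * cs * y⁻¹ = (y * d * y⁻¹) * (y * κ * y⁻¹) * (y * d * y⁻¹)⁻¹ := by rw [hcs]; group
      _ = d⁻¹ * (z * κ⁻¹ * z⁻¹) * d := by rw [hyd, hyκ]; group
      _ = ct⁻¹ := by rw [hzκi, hct]; group
  have scs : s * cs * s⁻¹ = cs := by
    have : Commute s cs := by
      have := conj_comm (g := d) hzκ
      rwa [hd.dz] at this
    rw [this.eq]; group
  have ds' : d⁻¹ * (s * z) * d = s := by rw [← hd.ds]; group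
  have sct : s * ct * s⁻¹ = ct⁻¹ := by
    have h1 : (s * z) * κ * (s * z)⁻¹ = κ⁻¹ := by
      calc (s * z) * κ * (s * z)⁻¹ = s * (z * κ * z⁻¹) * s⁻¹ := by group
        _ = s * κ * s⁻¹ := by rw [hzκ.eq]; group
        _ = κ⁻¹ := hL.vc
    calc s * ct * s⁻¹ = (d⁻¹ * (s * z) * d) * ct * (d⁻¹ * (s * z) * d)⁻¹ := by rw [ds']
      _ = d⁻¹ * ((s * z) * κ * (s * z)⁻¹) * d := by rw [hct]; group
      _ = ct⁻¹ := by rw [h1, hct]; group
  -- `y` swaps also back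
  have dd : d * z * d⁻¹ = s := hd.dz
  have zcs : z * cs * z⁻¹ = cs⁻¹ := by
    have hdsz : d * (s * z) * d⁻¹ = z := by
      calc d * (s * z) * d⁻¹ = (d * s * d⁻¹) * (d * z * d⁻¹) := by group
        _ = s * (z * s) := by rw [hd.ds, dd]; group
        _ = z := by rw [show z * s = s * z from R.zs.symm, ← mul_assoc, R.ss]; simp [pw]
    have h1 : (s * z) * κ * (s * z)⁻¹ = κ⁻¹ := by
      calc (s * z) * κ * (s * z)⁻¹ = s * (z * κ * z⁻¹) * s⁻¹ := by group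
        _ = s * κ * s⁻¹ := by rw [hzκ.eq]; group
        _ = κ⁻¹ := hL.vc
    calc z * cs * z⁻¹ = (d * (s * z) * d⁻¹) * cs * (d * (s * z) * d⁻¹)⁻¹ := by rw [hdsz]
      _ = d * ((s * z) * κ * (s * z)⁻¹) * d⁻¹ := by rw [hcs]; group
      _ = cs⁻¹ := by rw [h1, hcs]; group
  have yct : y * ct * y⁻¹ = cs := by
    have hydi : y * d⁻¹ * y⁻¹ = z * d := by
      calc y * d⁻¹ * y⁻¹ = (y * d * y⁻¹)⁻¹ := by group
        _ = z * d := by rw [hyd, mul_inv_rev, inv_inv, zz']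
    calc y * ct * y⁻¹ = (y * d⁻¹ * y⁻¹) * (y * κ * y⁻¹) * (y * d⁻¹ * y⁻¹)⁻¹ := by rw [hct]; group
      _ = z * (d * κ⁻¹ * d⁻¹) * z⁻¹ := by rw [hydi, hyκ]; group
      _ = (z * cs * z⁻¹)⁻¹ := by rw [hcs]; group
      _ = cs := by rw [zcs, inv_inv]
  have yscs : (y * s) * cs * (y * s)⁻¹ = ct⁻¹ := by
    calc (y * s) * cs * (y * s)⁻¹ = y * (s * cs * s⁻¹) * y⁻¹ := by group
      _ = ct⁻¹ := by rw [scs, ycs]
  have ysct : (y * s) * ct * (y * s)⁻¹ = cs⁻¹ := by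
    calc (y * s) * ct * (y * s)⁻¹ = y * (s * ct * s⁻¹) * y⁻¹ := by group
      _ = (y * ct * y⁻¹)⁻¹ := by rw [sct]; group
      _ = cs⁻¹ := by rw [yct]
  -- `cs^n = ct^{-n}`, `n = a + b`
  have h1 : t = (ct⁻¹) ^ a * (cs⁻¹) ^ b := by
    calc t = (y * s) * t * (y * s)⁻¹ := by rw [← htys.eq]; group
      _ = ((y * s) * cs ^ a * (y * s)⁻¹) * ((y * s) * ct ^ b * (y * s)⁻¹) := by rw [hab]; group
      _ = _ := by rw [← conj_zpow, ← conj_zpow, yscs, ysct]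
  have h2 : cs ^ (a + b) = ct ^ (-(a + b)) := by
    have e4 : cs ^ a * ct ^ b = ct ^ (-a) * cs ^ (-b) := by
      rw [← hab, h1, inv_zpow, inv_zpow, zpow_neg, zpow_neg]
    have k5 := (k1.zpow_zpow (-b) (-a))
    calc cs ^ (a + b) = (cs ^ a * ct ^ b) * ct ^ (-b) * cs ^ b := by
          rw [zpow_add]; group
      _ = (ct ^ (-a) * cs ^ (-b)) * ct ^ (-b) * cs ^ b := by rw [e4]
      _ = ct ^ (-a) * (cs ^ (-b) * ct ^ (-b)) * cs ^ b := by group
      _ = ct ^ (-a) * (ct ^ (-b) * cs ^ (-b)) * cs ^ b := by rw [(k1.zpow_zpow (-b) (-b)).eq]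
      _ = ct ^ (-(a + b)) := by rw [neg_add, zpow_add]; group
  have h3 : cs ^ (a + b) = ct ^ (a + b) := by
    calc cs ^ (a + b) = s * cs ^ (a + b) * s⁻¹ := by rw [← conj_zpow, scs]
      _ = s * ct ^ (-(a + b)) * s⁻¹ := by rw [h2]
      _ = ct ^ (a + b) := by rw [← conj_zpow, sct, inv_zpow, zpow_neg, inv_inv]
  have h4 : ct ^ (a + b) = 1 := by
    have h5 : ct ^ (a + b) * ct ^ (a + b) = 1 := by
      nth_rewrite 1 [← h3]
      rw [h2, ← zpow_add]
      simp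
    rcases zpow_three hct3 (a + b) with h6 | h6 | h6
    · exact h6
    · rw [h6] at h5 ⊢
      rw [pow_succ, pow_two, h5, one_mul] at hct3
      exact hct3
    · rw [h6] at h5 ⊢
      have h7 : ct * ct = 1 := by
        have : (ct * ct)⁻¹ = 1 := by rw [mul_inv_rev]; exact h5
        exact inv_eq_one.1 this
      rw [pow_succ, pow_two, h7, one_mul] at hct3
      rw [hct3, inv_one]
  have h5 : t = (cs * ct⁻¹) ^ a := by
    have k6 : Commute cs ct⁻¹ := k1.inv_right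
    rw [k6.mul_zpow, hab]
    congr 1
    have : ct ^ b = ct ^ (a + b) * ct ^ (-a) := by rw [← zpow_add]; congr 1; ring
    rw [this, h4, one_mul, inv_zpow, zpow_neg]
  have hD3 : (cs * ct⁻¹) ^ 3 = 1 := by
    have k6 : Commute cs ct⁻¹ := k1.inv_right
    rw [k6.mul_pow, hcs3, inv_pow, hct3, inv_one, one_mul]
  rcases zpow_three hD3 a with h6 | h6 | h6
  · exact absurd (h5.trans h6) ht1
  · left
    exact h5.trans h6
  · right
    have h7 : t = (cs * ct⁻¹)⁻¹ := h5.trans h6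
    calc (z * e * z⁻¹) * ρ * (z * e * z⁻¹)⁻¹ = z * (e * (z⁻¹ * ρ * z) * e⁻¹) * z⁻¹ := by group
      _ = z * t * z⁻¹ := by
          have : z⁻¹ * ρ * z = ρ := by rw [mul_assoc, ← hzρ.eq]; group
          rw [this]
      _ = t⁻¹ := htz
      _ = cs * ct⁻¹ := by rw [h7, inv_inv]

end

end Cfsg.Agent.LargeExtra.W2.U43.ThreeLocJ
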