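import Cfsg.Agent.LargeExtra.W2.U43.Closing
import Cfsg.Agent.LargeExtra.W2.U43.InvClass
import Cfsg.Agent.LargeExtra.W2.U43.ThreeLocJ
import Cfsg.Agent.LargeExtra.W2.U43.Ident

/-!
# Recognition of `U₄(3)` from `Tw` and the fusion `z ~ s ~ y s` (helper893)
-/

set_option autoImplicit false
set_option linter.unusedSimpArgs false
set_option linter.unusedVariables false

namespace Cfsg.Agent.LargeExtra.W2.U43.Recog

open Cfsg.Agent.Co2Type.Quad Cfsg.Agent.LargeExtra.W2.CM Cfsg.Agent.LargeExtra.W2.U43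
open Cfsg.Agent.LargeExtra.W2.U43.InvClass Cfsg.Agent.LargeExtra.W2.U43.Closing
open Cfsg.Agent.LargeExtra.W2.U43.ExistsD Cfsg.Agent.LargeExtra.W2.U43.ThreeLoc
open Cfsg.Agent.LargeExtra.W2.U43.ThreeLocJ Cfsg.Agent.LargeExtra.W2.U43.Ident

variable {G : Type*} [Group G] {Q : Subgroup G} {z i j k l x₁ x₂ y s d e : G}

/-- `e` may be replaced by `z e z⁻¹`. -/
theorem conj_mirror (h : Tw Q z i j k l x₁ x₂ y s)
    (he : Del z i j (l * z) (k * z) x₁ x₂⁻¹ y (y * s) e) :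
    Del z i j (l * z) (k * z) x₁ x₂⁻¹ y (y * s) (z * e * z⁻¹) := by
  have R := h.rules
  have R' := h.mirror.rules
  have iz : z⁻¹ = z := inv_eq_of_mul_eq_one_left R.zz
  have cz : ∀ {c c' w : G}, c * z = z * c → c' * z = z * c' → e * c * e⁻¹ = c' →
      (z * e * z⁻¹) * c * (z * e * z⁻¹)⁻¹ = c' := by
    intro c c' w hc hc' h1
    calc (z * e * z⁻¹) * c * (z * e * z⁻¹)⁻¹ = z * e * z⁻¹ * (c * z) * e⁻¹ * z⁻¹ := by group
      _ = z * (e * c * e⁻¹) * z⁻¹ := by rw [hc]; group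
      _ = c' * z * z⁻¹ := by rw [h1, hc']
      _ = c' := by group
  have cc : ∀ {c : G}, c * z = z * c → e * c = c * e → (z * e * z⁻¹) * c = c * (z * e * z⁻¹) := by
    intro c hc h1
    have h2 := cz (w := 1) hc hc (by rw [h1]; group)
    rwa [mul_inv_eq_iff_eq_mul] at h2
  refine ⟨?_, ?_, ?_, ?_, ?_, ?_, ?_⟩
  · have := he.d3
    calc (z * e * z⁻¹) ^ 3 = z * e ^ 3 * z⁻¹ := conj_pow
      _ = 1 := by rw [this]; group
  · exact cz (w := 1) rfl (by coll R) he.dz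
  · exact cz (w := 1) (by coll R) (by coll R) he.ds
  · exact cc (by coll R) he.dik
  · exact cc (by coll R) he.djl
  · exact cc (by rw [inv_x₂ R]; coll R) he.dr
  · have hy : y * z = z * y := by coll R
    calc y * (z * e * z⁻¹) * y⁻¹ = y * z * e * (y * z)⁻¹ := by group
      _ = z * (y * e * y⁻¹) * z⁻¹ := by rw [hy]; group
      _ = z * (e⁻¹ * z) * z⁻¹ := by rw [he.dy]
      _ = (z * e * z⁻¹)⁻¹ * z := by group

/-- The recognition of `U₄(3)` after the fusion analysis. -/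
theorem recog_tw {G : Type*} [Group G] [Finite G] [IsSimpleGroup G] {Q : Subgroup G}
    {z i j k l x₁ x₂ y s : G} (h : Tw Q z i j k l x₁ x₂ y s) (hs : IsConj z s)
    (hys : IsConj z (y * s)) (F : Type*) [Field F] [Fintype F] (hF : Fintype.card F = 9) :
    Nonempty (G ≃* Cfsg.PSU 4 F 3) := by
  have R := h.rules
  obtain ⟨d, hd⟩ := exists_del h hs
  obtain ⟨e₀, he₀⟩ := exists_del h.mirror hys
  have h1 : x₁ * (d * x₁ * d⁻¹) = d * x₁ * d⁻¹ * x₁ := j1 h hd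
  obtain ⟨e, he, h2⟩ : ∃ e, Del z i j (l * z) (k * z) x₁ x₂⁻¹ y (y * s) e ∧
      e * (x₁ * x₂) * e⁻¹ = d * (x₁ * x₂⁻¹) * d⁻¹ * (d⁻¹ * (x₁ * x₂⁻¹) * d)⁻¹ := by
    rcases j2 h hd he₀ with h3 | h3
    · exact ⟨e₀, he₀, h3⟩
    · exact ⟨z * e₀ * z⁻¹, conj_mirror h he₀, h3⟩
  have zne : z ≠ 1 := h.large.z_ne
  have oz : orderOf z = 2 := orderOf_eq_prime (by rw [pow_two]; exact R.zz) zne
  set H := Subgroup.closure ({i, j, k, l, x₁, x₂, y, s, d, e} : Set G) with hH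
  obtain ⟨hcard, hsimp⟩ := card_simple R zne hd he h1 h2
  have hC : Subgroup.centralizer ({z} : Set G) ≤ H := by
    rw [h.cent, hH]
    apply Subgroup.closure_mono
    intro c hc
    simp only [Set.mem_insert_iff, Set.mem_singleton_iff] at hc ⊢
    tauto
  have hdH : d ∈ H := Subgroup.subset_closure (by simp)
  have heH : e ∈ H := Subgroup.subset_closure (by simp)
  have htop : H = ⊤ := by
    refine eq_top_of_simple H hsimp ?_ oz hC (one_class h hd he H hC hdH heH hcard)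
    intro h2
    haveI : Fact (Nat.Prime 2) := ⟨Nat.prime_two⟩
    obtain ⟨n, hn⟩ := IsPGroup.iff_card.1 h2
    rw [hcard] at hn
    have h5 : 5 ∣ 2 ^ n := by rw [← hn]; norm_num
    exact absurd (Nat.Prime.dvd_of_dvd_pow (by norm_num) h5) (by norm_num)
  obtain ⟨f⟩ := ident R zne hd he h1 h2 F hF
  rw [← hH, htop] at f
  exact ⟨Subgroup.topEquiv.symm.trans f⟩

end Cfsg.Agent.LargeExtra.W2.U43.Recog
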