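import Cfsg.Agent.LargeExtra.W2.U43.ExistsD
import Cfsg.Agent.LargeExtra.W2.ThreeLocal

/-!
# `U₄(3)` (S1759): the 3-local relations (helper865)

* `j1` : `x₁` commutes with `d x₁ d⁻¹`; `κ = x₁ x₂⁻¹` commutes with `d κ d⁻¹`.
* `j2` : `e ρ e⁻¹ = κ_s κ_{sz}⁻¹` for `e` or for `z e z⁻¹`, `κ_s = d κ d⁻¹`, `κ_{sz} = d⁻¹ κ d`.
-/

set_option autoImplicit false
set_option linter.unusedSimpArgs false
set_option linter.unusedVariables false

namespace Cfsg.Agent.LargeExtra.W2.U43.ThreeLoc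

open Cfsg.Agent.LargeExtra.W2.CM Cfsg.Agent.LargeExtra.W2.U43 Cfsg.Agent.LargeExtra.W2.ThreeLocal
open Cfsg.Agent.LargeExtra.W2.U43.ExistsD (mu tr tik tjl anyL anyL_mem anyL_spec)

/-! ### decidable facts -/

/-- `κ` -/
def tκ : T := mu tx₁ (mu tx₂ tx₂)

/-- `C_C(ρ) = ⟨x₁, x₂, z, s⟩` -/
theorem factA : allT (fun t => !(T.beq (mu t tr) (mu tr t)) ||
    (!t.w.a && (!t.w.b && (!t.w.c && (!t.w.d && !t.e))))) = true := by decide +kernel

/-- `x₁^m x₂^n` -/
def pp (m n : C3) : T := ⟨⟨false, false, false, false, false⟩, m, n, false, false⟩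

def P9 : List T := [pp C3.o C3.o, pp C3.o C3.p, pp C3.o C3.q, pp C3.p C3.o, pp C3.p C3.p, pp C3.p C3.q,
  pp C3.q C3.o, pp C3.q C3.p, pp C3.q C3.q]

theorem mem_P9 (m n : C3) : pp m n ∈ P9 := by
  cases m <;> cases n <;> simp [P9]

/-- the normaliser of `⟨x₁, x₂⟩` normalises `⟨ρ⟩` -/
theorem factN : allT (fun t => !(anyL P9 (fun p => T.beq (mu t tr) (mu p t))) ||
    (!(anyL P9 (fun p => T.beq (mu t tκ) (mu p t))) ||
      (T.beq (mu t tr) (mu tr t) || T.beq (mu t tr) (mu (mu tr tr) t)))) = true := by decide +kernel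

/-- elements of `Q` modulo `z` -/
def Q16 : List T := [T.one, ti, tj, mu ti tj, tk, mu ti tk, mu tj tk, mu ti (mu tj tk), tl, mu ti tl, mu tj tl,
  mu ti (mu tj tl), mu tk tl, mu ti (mu tk tl), mu tj (mu tk tl), mu ti (mu tj (mu tk tl))]

/-- elements of order three moving `s` to `z i k s` -/
theorem factC : allT (fun t => !(T.beq (mu t (mu t t)) T.one) || (!(T.beq (mu t ts) (mu (mu tz (mu tik ts)) t)) ||
    anyL Q16 (fun w => T.beq (mu t w) (mu w tr) || T.beq (mu t w) (mu w (mu tr tr))))) = true := by decide +kernel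

theorem anyL_of_mem {P : T → Bool} : ∀ {L : List T} {t : T}, t ∈ L → P t = true → anyL L P = true
  | [], t, h, _ => by simp at h
  | u :: L, t, h, hP => by
    rw [anyL, Bool.or_eq_true]
    rcases List.mem_cons.1 h with rfl | h
    · exact Or.inl hP
    · exact Or.inr (anyL_of_mem h hP)

section

variable {G : Type*} [Group G] {Q : Subgroup G} {z i j k l x₁ x₂ y s d e : G}

theorem ev_pp (m n : C3) : (pp m n).ev z i j k l x₁ x₂ y s = pw3 m x₁ * pw3 n x₂ := by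
  simp [pp, T.ev, Qt.ev, pw]

theorem mem_closure (h : Tw Q z i j k l x₁ x₂ y s) {g : G}
    (hg : g ∈ Subgroup.closure ({x₁ * x₂, x₁ * x₂⁻¹} : Set G)) : ∃ m n : C3, g = pw3 m x₁ * pw3 n x₂ := by
  have R := h.rules
  induction hg using Subgroup.closure_induction with
  | mem x hx =>
    rcases hx with rfl | rfl
    · exact ⟨C3.p, C3.p, rfl⟩
    · exact ⟨C3.p, C3.q, by rw [inv_x₂ R]; rfl⟩
  | one => exact ⟨C3.o, C3.o, by simp [pw3]⟩
  | mul a b _ _ ha hb =>
    obtain ⟨m, n, rfl⟩ := ha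
    obtain ⟨m', n', rfl⟩ := hb
    exact ⟨m.add m', n.add n', XX R m n m' n'⟩
  | inv a _ ha =>
    obtain ⟨m, n, rfl⟩ := ha
    refine ⟨m.neg, n.neg, ?_⟩
    rw [inv_eq_iff_mul_eq_one, XX R]
    cases m <;> cases n <;> simp [C3.add, C3.neg, pw3]

theorem loc (h : Tw Q z i j k l x₁ x₂ y s) [Finite G] : Loc z s (x₁ * x₂) (x₁ * x₂⁻¹) := by
  have R := h.rules
  have inj := ev_inj h.toCase9aa R
  set EV : T → G := fun t => t.ev z i j k l x₁ x₂ y s with hEV
  have emul : ∀ t u, EV t * EV u = EV (mu t u) := fun t u => ev_mul R t u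
  have e1 : EV T.one = 1 := ev_one
  have er : EV tr = x₁ * x₂ := by rw [tr, ← emul]; simp only [hEV, ev_x₁, ev_x₂]
  have ek : EV tκ = x₁ * (x₂ * x₂) := by rw [tκ, ← emul, ← emul]; simp only [hEV, ev_x₁, ev_x₂]
  have hr3 : (x₁ * x₂) ^ 3 = 1 := by
    rw [pow_succ, pow_two]; coll R
  rw [inv_x₂ R]
  refine ⟨h.large.z_ne, R.zz, R.ss, R.zs.symm, ?_, hr3, ?_, ?_, ?_, ?_, ?_, ?_, ?_⟩
  · intro h'
    have : EV tr = EV T.one := by rw [er, e1, h']
    have := congrArg (fun t : T => T.beq t T.one) (inj this)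
    exact absurd this (by decide +kernel)
  · rw [pow_succ, pow_two]; coll R
  · rintro ⟨n, hn⟩
    have hn' : (x₁ * x₂) ^ n = x₁ * (x₂ * x₂) := hn
    have h3 : ∀ n : ℤ, (x₁ * x₂) ^ n = 1 ∨ (x₁ * x₂) ^ n = x₁ * x₂ ∨ (x₁ * x₂) ^ n = x₁ * x₂ * (x₁ * x₂) := by
      intro n
      have hmod : (x₁ * x₂) ^ n = (x₁ * x₂) ^ (n % 3) := by
        conv_lhs => rw [← Int.emod_add_mul_ediv n 3]
        rw [zpow_add, zpow_mul]
        have : (x₁ * x₂) ^ (3 : ℤ) = 1 := by exact_mod_cast hr3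
        rw [this, one_zpow, mul_one]
      have h0 := Int.emod_nonneg n (show (3 : ℤ) ≠ 0 by norm_num)
      have h1 := Int.emod_lt_of_pos n (show (0 : ℤ) < 3 by norm_num)
      have hcases : n % 3 = 0 ∨ n % 3 = 1 ∨ n % 3 = 2 := by omega
      rcases hcases with h2 | h2 | h2
      · left; rw [hmod, h2, zpow_zero]
      · right; left; rw [hmod, h2, zpow_one]
      · right; right
        rw [hmod, h2, show (2 : ℤ) = 1 + 1 by norm_num, zpow_add, zpow_one]
    rcases h3 n with h4 | h4 | h4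
    · have : EV tκ = EV T.one := by rw [ek, e1, ← hn', h4]
      have := congrArg (fun t : T => T.beq t T.one) (inj this)
      exact absurd this (by decide +kernel)
    · have : EV tκ = EV tr := by rw [ek, er, ← hn', h4]
      have := congrArg (fun t : T => T.beq t tr) (inj this)
      exact absurd this (by decide +kernel)
    · have : EV tκ = EV (mu tr tr) := by rw [ek, ← emul, er, ← hn', h4]
      have := congrArg (fun t : T => T.beq t (mu tr tr)) (inj this)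
      exact absurd this (by decide +kernel)
  · coll R
  · coll R
  · coll R
  · coll R
  · have e : (x₁ * (x₂ * x₂))⁻¹ = x₁ * x₁ * x₂ := by
      rw [inv_eq_iff_mul_eq_one]; coll R
    rw [e, mul_inv_eq_iff_eq_mul]; coll R

theorem hcent (h : Tw Q z i j k l x₁ x₂ y s) [Finite G] {g : G} (hz : g * z = z * g)
    (hr : g * (x₁ * x₂) = x₁ * x₂ * g) : g ∈ Subgroup.closure ({x₁ * x₂, x₁ * x₂⁻¹, z, s} : Set G) := by
  have R := h.rules
  have inj := ev_inj h.toCase9aa R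
  obtain ⟨t, rfl⟩ := exists_ev h.toCase9aa R hz
  set EV : T → G := fun t => t.ev z i j k l x₁ x₂ y s with hEV
  have emul : ∀ t u, EV t * EV u = EV (mu t u) := fun t u => ev_mul R t u
  have er : EV tr = x₁ * x₂ := by rw [tr, ← emul]; simp only [hEV, ev_x₁, ev_x₂]
  have h1 := allT_spec factA t
  simp only [Bool.or_eq_true, Bool.not_eq_true', Bool.and_eq_true] at h1
  have hr' : EV (mu t tr) = EV (mu tr t) := by rw [← emul, ← emul, er]; exact hr
  rcases h1 with h1 | ⟨ha, hb, hc, hd, he⟩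
  · rw [← Bool.not_eq_true, T.beq_iff] at h1
    exact absurd (inj hr') h1
  set M := Subgroup.closure ({x₁ * x₂, x₁ * x₂⁻¹, z, s} : Set G) with hM
  have m1 : x₁ * x₂ ∈ M := Subgroup.subset_closure (by simp)
  have m2 : x₁ * x₂⁻¹ ∈ M := Subgroup.subset_closure (by simp)
  have m3 : z ∈ M := Subgroup.subset_closure (by simp)
  have m4 : s ∈ M := Subgroup.subset_closure (by simp)
  have mx₁ : x₁ ∈ M := by
    have e : x₁ = (x₁ * x₂) * (x₁ * x₂⁻¹) * ((x₁ * x₂) * (x₁ * x₂⁻¹)) := by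
      rw [inv_x₂ R]
      have : x₁ * (x₁ * (x₁ * x₁)) = x₁ := by rw [R.xxx, mul_one]
      conv_lhs => rw [← this]
      coll R
    rw [e]
    exact mul_mem (mul_mem m1 m2) (mul_mem m1 m2)
  have mx₂ : x₂ ∈ M := by
    have e : x₂ = x₁⁻¹ * (x₁ * x₂) := by group
    rw [e]; exact mul_mem (inv_mem mx₁) m1
  have mz : ∀ b : Bool, pw b z ∈ M := by
    intro b; cases b
    · exact one_mem M
    · exact m3
  have ms : ∀ b : Bool, pw b s ∈ M := by
    intro b; cases b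
    · exact one_mem M
    · exact m4
  have mp : ∀ (m : C3) (x : G), x ∈ M → pw3 m x ∈ M := by
    intro m x hx; cases m
    · exact one_mem M
    · exact hx
    · exact mul_mem hx hx
  rw [T.ev, Qt.ev, ha, hb, hc, hd, he]
  simp only [pw, cond_false, mul_one, one_mul]
  exact mul_mem (mz _) (mul_mem (mp _ _ mx₁) (mul_mem (mp _ _ mx₂) (ms _)))

theorem hN (h : Tw Q z i j k l x₁ x₂ y s) [Finite G] {n : G} (hz : n * z = z * n)
    (h1 : n * (x₁ * x₂) * n⁻¹ ∈ Subgroup.closure ({x₁ * x₂, x₁ * x₂⁻¹} : Set G))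
    (h2 : n * (x₁ * x₂⁻¹) * n⁻¹ ∈ Subgroup.closure ({x₁ * x₂, x₁ * x₂⁻¹} : Set G)) :
    n * (x₁ * x₂) * n⁻¹ ∈ Subgroup.zpowers (x₁ * x₂) := by
  have R := h.rules
  have inj := ev_inj h.toCase9aa R
  obtain ⟨t, rfl⟩ := exists_ev h.toCase9aa R hz
  set EV : T → G := fun t => t.ev z i j k l x₁ x₂ y s with hEV
  have emul : ∀ t u, EV t * EV u = EV (mu t u) := fun t u => ev_mul R t u
  have er : EV tr = x₁ * x₂ := by rw [tr, ← emul]; simp only [hEV, ev_x₁, ev_x₂]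
  have ek : EV tκ = x₁ * x₂⁻¹ := by rw [tκ, ← emul, ← emul, inv_x₂ R]; simp only [hEV, ev_x₁, ev_x₂]
  obtain ⟨m, n, h1⟩ := mem_closure h h1
  obtain ⟨m', n', h2⟩ := mem_closure h h2
  have h1' : mu t tr = mu (pp m n) t := by
    apply inj
    show EV (mu t tr) = EV (mu (pp m n) t)
    rw [← emul, ← emul, er, show EV (pp m n) = pw3 m x₁ * pw3 n x₂ from ev_pp m n, ← h1]
    show _ = EV t * (x₁ * x₂) * (EV t)⁻¹ * EV t
    group
  have h2' : mu t tκ = mu (pp m' n') t := by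
    apply inj
    show EV (mu t tκ) = EV (mu (pp m' n') t)
    rw [← emul, ← emul, ek, show EV (pp m' n') = pw3 m' x₁ * pw3 n' x₂ from ev_pp m' n', ← h2]
    show _ = EV t * (x₁ * x₂⁻¹) * (EV t)⁻¹ * EV t
    group
  have h3 := allT_spec factN t
  simp only [Bool.or_eq_true, Bool.not_eq_true'] at h3
  rcases h3 with h3 | h3 | h3 | h3
  · rw [anyL_of_mem (P := fun p => T.beq (mu t tr) (mu p t)) (mem_P9 m n) (T.beq_iff.2 h1')] at h3
    exact absurd h3 (by decide)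
  · rw [anyL_of_mem (P := fun p => T.beq (mu t tκ) (mu p t)) (mem_P9 m' n') (T.beq_iff.2 h2')] at h3
    exact absurd h3 (by decide)
  · have h4 := congrArg EV (T.eq_of_beq h3)
    rw [← emul, ← emul, er] at h4
    refine ⟨1, ?_⟩
    show (x₁ * x₂) ^ (1 : ℤ) = EV t * (x₁ * x₂) * (EV t)⁻¹
    rw [h4]; group
  · have h4 := congrArg EV (T.eq_of_beq h3)
    rw [← emul, ← emul, ← emul, er] at h4
    refine ⟨2, ?_⟩
    show (x₁ * x₂) ^ (2 : ℤ) = EV t * (x₁ * x₂) * (EV t)⁻¹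
    rw [h4, show (2 : ℤ) = 1 + 1 by norm_num, zpow_add, zpow_one]; group

/-- `d` is conjugate to `ρ` -/
theorem hconj (h : Tw Q z i j k l x₁ x₂ y s) (hd : Del z i j k l x₁ x₂ y s d) [Finite G] :
    IsConj d (x₁ * x₂) := by
  have R := h.rules
  have inj := ev_inj h.toCase9aa R
  set EV : T → G := fun t => t.ev z i j k l x₁ x₂ y s with hEV
  have emul : ∀ t u, EV t * EV u = EV (mu t u) := fun t u => ev_mul R t u
  have e1 : EV T.one = 1 := ev_one
  have ez : EV tz = z := ev_z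
  have es : EV ts = s := ev_s
  have er : EV tr = x₁ * x₂ := by rw [tr, ← emul]; simp only [hEV, ev_x₁, ev_x₂]
  have eik : EV tik = i * k := by rw [tik, ← emul]; simp only [hEV, ev_i, ev_k]
  -- conjugation by `d`
  have d1 : d * z * d⁻¹ = s := hd.dz
  have d2 : d * s * d⁻¹ = s * z := hd.ds
  have d3 : d * (s * z) * d⁻¹ = z := by
    calc d * (s * z) * d⁻¹ = (d * s * d⁻¹) * (d * z * d⁻¹) := by group
      _ = s * (z * s) := by rw [d1, d2]; group
      _ = z := by rw [show z * s = s * z from R.zs.symm, ← mul_assoc, R.ss]; simp [pw]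
  have f1 : d⁻¹ * s * d = z := by rw [← d1]; group
  have f2 : d⁻¹ * (s * z) * d = s := by rw [← d2]; group
  have f3 : d⁻¹ * z * d = s * z := by
    calc d⁻¹ * z * d = d⁻¹ * (d * (s * z) * d⁻¹) * d := by rw [d3]
      _ = s * z := by group
  have dik : d * (i * k) * d⁻¹ = i * k := by rw [hd.dik]; group
  have djl : d * (j * l) * d⁻¹ = j * l := by rw [hd.djl]; group
  have fik : d⁻¹ * (i * k) * d = i * k := by
    rw [mul_assoc, ← hd.dik]; group
  have fjl : d⁻¹ * (j * l) * d = j * l := by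
    rw [mul_assoc, ← hd.djl]; group
  have iz := R.zz
  have ii : i⁻¹ = i * z := by
    rw [inv_eq_iff_mul_eq_one]; coll R
  have ij : j⁻¹ = j * z := by
    rw [inv_eq_iff_mul_eq_one]; coll R
  -- `g = j⁻¹ d⁻¹ i d²`
  set g := j⁻¹ * d⁻¹ * i * (d * d) with hg
  have gz : g * z * g⁻¹ = i * k := by
    calc g * z * g⁻¹ = j⁻¹ * (d⁻¹ * (i * (d * (d * z * d⁻¹) * d⁻¹) * i⁻¹) * d) * j := by rw [hg]; group
      _ = j⁻¹ * (d⁻¹ * (i * (s * z) * i⁻¹) * d) * j := by rw [d1, d2]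
      _ = j⁻¹ * (d⁻¹ * (s * (i * k)) * d) * j := by
          have : i * (s * z) * i⁻¹ = s * (i * k) := by
            rw [ii]; coll R
          rw [this]
      _ = j⁻¹ * ((d⁻¹ * s * d) * (d⁻¹ * (i * k) * d)) * j := by group
      _ = j⁻¹ * (z * (i * k)) * j := by rw [f1, fik]
      _ = i * k := by rw [ij]; coll R
  have gs : g * s * g⁻¹ = s * (j * l) := by
    calc g * s * g⁻¹ = j⁻¹ * (d⁻¹ * (i * (d * (d * s * d⁻¹) * d⁻¹) * i⁻¹) * d) * j := by rw [hg]; group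
      _ = j⁻¹ * (d⁻¹ * (i * z * i⁻¹) * d) * j := by rw [d2, d3]
      _ = j⁻¹ * (d⁻¹ * z * d) * j := by
          have : i * z * i⁻¹ = z := by
            rw [ii]; coll R
          rw [this]
      _ = j⁻¹ * (s * z) * j := by rw [f3]
      _ = s * (j * l) := by rw [ij]; coll R
  have gz' : g⁻¹ * z * g = z * (i * k) := by
    have hdd : (d * d)⁻¹ = d := by
      have := hd.d3
      rw [inv_eq_iff_mul_eq_one, ← this, pow_succ, pow_two]
    have hdd' : d * d = d⁻¹ := by rw [← hdd, inv_inv, hdd]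
    calc g⁻¹ * z * g = (d * d)⁻¹ * (i⁻¹ * (d * (j * z * j⁻¹) * d⁻¹) * i) * (d * d) := by rw [hg]; group
      _ = d * (i⁻¹ * (d * (j * z * j⁻¹) * d⁻¹) * i) * d⁻¹ := by rw [hdd, hdd']
      _ = d * (i⁻¹ * (d * z * d⁻¹) * i) * d⁻¹ := by
          have : j * z * j⁻¹ = z := by
            rw [ij]; coll R
          rw [this]
      _ = d * ((s * z) * (i * k)) * d⁻¹ := by
          have : i⁻¹ * s * i = (s * z) * (i * k) := by
            rw [ii]; coll R
          rw [d1, this]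
      _ = (d * (s * z) * d⁻¹) * (d * (i * k) * d⁻¹) := by group
      _ = z * (i * k) := by rw [d3, dik]
  -- `d' = g⁻¹ d g`
  set d' := g⁻¹ * d * g with hd'
  have hz' : d' * z = z * d' := by
    have : d' * z * d'⁻¹ = z := by
      calc d' * z * d'⁻¹ = g⁻¹ * (d * (g * z * g⁻¹) * d⁻¹) * g := by rw [hd']; group
        _ = g⁻¹ * (g * z * g⁻¹) * g := by rw [gz, dik]
        _ = z := by group
    calc d' * z = (d' * z * d'⁻¹) * d' := by group
      _ = z * d' := by rw [this]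
  have hs' : d' * s = z * (i * k * s) * d' := by
    have : d' * s * d'⁻¹ = z * (i * k * s) := by
      calc d' * s * d'⁻¹ = g⁻¹ * (d * (g * s * g⁻¹) * d⁻¹) * g := by rw [hd']; group
        _ = g⁻¹ * ((d * s * d⁻¹) * (d * (j * l) * d⁻¹)) * g := by rw [gs]; group
        _ = g⁻¹ * (z * (s * (j * l))) * g := by
            rw [d2, djl, R.zs]; group
        _ = (g⁻¹ * z * g) * (g⁻¹ * (s * (j * l)) * g) := by group
        _ = (z * (i * k)) * s := by rw [gz', ← gs]; group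
        _ = z * (i * k * s) := by group
    calc d' * s = (d' * s * d'⁻¹) * d' := by group
      _ = z * (i * k * s) * d' := by rw [this]
  obtain ⟨t, ht⟩ := exists_ev h.toCase9aa R hz'
  have ht' : d' = EV t := ht
  have hc1 : mu t (mu t t) = T.one := by
    apply inj
    show EV (mu t (mu t t)) = EV T.one
    rw [← emul, ← emul, ← ht', e1]
    calc d' * (d' * d') = g⁻¹ * d ^ 3 * g := by rw [hd', pow_succ, pow_two]; group
      _ = 1 := by rw [hd.d3]; group
  have hc2 : mu t ts = mu (mu tz (mu tik ts)) t := by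
    apply inj
    show EV (mu t ts) = EV (mu (mu tz (mu tik ts)) t)
    rw [← emul, ← emul, ← emul, ← emul, ← ht', ez, es, eik]
    exact hs'
  have h3 := allT_spec factC t
  simp only [Bool.or_eq_true, Bool.not_eq_true'] at h3
  have h4 : ∃ w ∈ Q16, mu t w = mu w tr ∨ mu t w = mu w (mu tr tr) := by
    rcases h3 with h3 | h3 | h3
    · rw [← Bool.not_eq_true, T.beq_iff] at h3
      exact absurd hc1 h3
    · rw [← Bool.not_eq_true, T.beq_iff] at h3
      exact absurd hc2 h3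
    · obtain ⟨w, hw, hP⟩ := anyL_mem h3
      refine ⟨w, hw, ?_⟩
      rw [Bool.or_eq_true] at hP
      rcases hP with hP | hP
      · exact Or.inl (T.eq_of_beq hP)
      · exact Or.inr (T.eq_of_beq hP)
  have hconj' : IsConj d d' := isConj_iff.2 ⟨g⁻¹, by rw [hd']; group⟩
  refine hconj'.trans ?_
  obtain ⟨w, -, hw⟩ := h4
  rcases hw with hw | hw
  · have h5 := congrArg EV hw
    rw [← emul, ← emul, er, ← ht'] at h5
    refine isConj_iff.2 ⟨(EV w)⁻¹, ?_⟩
    calc (EV w)⁻¹ * d' * (EV w)⁻¹⁻¹ = (EV w)⁻¹ * (d' * EV w) := by group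
      _ = x₁ * x₂ := by rw [h5]; group
  · have h5 := congrArg EV hw
    rw [← emul, ← emul, ← emul, er, ← ht'] at h5
    have h6 : IsConj d' ((x₁ * x₂) * (x₁ * x₂)) := by
      refine isConj_iff.2 ⟨(EV w)⁻¹, ?_⟩
      calc (EV w)⁻¹ * d' * (EV w)⁻¹⁻¹ = (EV w)⁻¹ * (d' * EV w) := by group
        _ = (x₁ * x₂) * (x₁ * x₂) := by rw [h5]; group
    refine h6.trans (isConj_iff.2 ⟨y, ?_⟩)
    rw [mul_inv_eq_iff_eq_mul]; coll R

/-- `κ` commutes with `d κ d⁻¹` -/
theorem j1κ (h : Tw Q z i j k l x₁ x₂ y s) (hd : Del z i j k l x₁ x₂ y s d) [Finite G] :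
    Commute (x₁ * x₂⁻¹) (d * (x₁ * x₂⁻¹) * d⁻¹) := by
  have R := h.rules
  refine three_local (loc h) (fun g hz hr => hcent h hz hr) hd.dr hd.dz (by rw [hd.ds, R.zs]) hd.d3 ?_ ?_
    (fun n hz h1 h2 => hN h hz h1 h2) (hconj h hd)
  · intro h'
    have inj := ev_inj h.toCase9aa R
    have : ts.ev z i j k l x₁ x₂ y s = tz.ev z i j k l x₁ x₂ y s := by rw [ev_s, ev_z, h']
    exact absurd (congrArg T.f (inj this)) (by decide)
  · rw [h.card_cent]; norm_num

/-- **(J1)** -/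
theorem j1 (h : Tw Q z i j k l x₁ x₂ y s) (hd : Del z i j k l x₁ x₂ y s d) [Finite G] :
    Commute x₁ (d * x₁ * d⁻¹) := by
  have R := h.rules
  have h0 := j1κ h hd
  set κ := x₁ * x₂⁻¹ with hκ
  set κs := d * κ * d⁻¹ with hκs
  have hx : x₁ = ((x₁ * x₂) * κ)⁻¹ := by
    rw [hκ, inv_x₂ R, eq_inv_iff_mul_eq_one]; coll R
  have hρκ : Commute (x₁ * x₂) κ := by
    show (x₁ * x₂) * κ = κ * (x₁ * x₂)
    rw [hκ, inv_x₂ R]; coll R
  have hdρ : d * (x₁ * x₂) * d⁻¹ = x₁ * x₂ := by rw [hd.dr]; group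
  have hρκs : Commute (x₁ * x₂) κs := by
    show (x₁ * x₂) * κs = κs * (x₁ * x₂)
    calc (x₁ * x₂) * κs = (d * (x₁ * x₂) * d⁻¹) * (d * κ * d⁻¹) := by rw [hdρ]
      _ = d * ((x₁ * x₂) * κ) * d⁻¹ := by group
      _ = d * (κ * (x₁ * x₂)) * d⁻¹ := by rw [hρκ.eq]
      _ = (d * κ * d⁻¹) * (d * (x₁ * x₂) * d⁻¹) := by group
      _ = κs * (x₁ * x₂) := by rw [hdρ]
  have e1 : d * x₁ * d⁻¹ = ((x₁ * x₂) * κs)⁻¹ := by
    calc d * x₁ * d⁻¹ = d * ((x₁ * x₂) * κ)⁻¹ * d⁻¹ := by rw [← hx]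
      _ = ((d * (x₁ * x₂) * d⁻¹) * (d * κ * d⁻¹))⁻¹ := by group
      _ = _ := by rw [hdρ]
  rw [e1]
  apply Commute.inv_right
  have h1 : Commute ((x₁ * x₂) * κ) ((x₁ * x₂) * κs) :=
    Commute.mul_left (Commute.mul_right (Commute.refl _) hρκs) (Commute.mul_right hρκ.symm h0)
  have h2 : Commute (((x₁ * x₂) * κ)⁻¹) ((x₁ * x₂) * κs) := h1.inv_left
  rw [← hx] at h2
  exact h2

end

end Cfsg.Agent.LargeExtra.W2.U43.ThreeLoc
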